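/-
Pushing a torsor along a homomorphism to a commutative affine group: the sheaf of equivariant maps.
-/
import Groth.Agent.H15Magnet.AffineRep
import Groth.Agent.H18Torsor.Glue
import Groth.Prelude.Def_NonAbH2
import Mathlib.CategoryTheory.Sites.SubcanonicalOver
import Mathlib.AlgebraicGeometry.Sites.Fpqc

set_option autoImplicit false
set_option linter.style.haveILetI false
set_option backward.isDefEq.respectTransparency false
set_option backward.isDefEq.respectTransparency.types false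

universe u

open CategoryTheory CategoryTheory.Limits AlgebraicGeometry Opposite
open MonoidalCategory CartesianMonoidalCategory MonObj
open Groth.Agent.H15Magnet

namespace Groth.Agent.H27SekSuwa.Pushout

variable {S : Scheme.{u}} {G H P : Over S} [GrpObj G] [GrpObj H] (a : AlgGrp.Action G P) (χ : G ⟶ H)

/-- equivariance of a family of maps from the torsor to `H` -/
def IsEquiv {T : Over S} (m : P ⊗ T ⟶ H) : Prop :=
  ∀ (W : Over S) (g : W ⟶ G) (x : W ⟶ P) (t : W ⟶ T),
    lift (H18Torsor.smul a g x) t ≫ m = (g ≫ χ) * (lift x t ≫ m)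

theorem isEquiv_precomp {T T' : Over S} (v : T' ⟶ T) {m : P ⊗ T ⟶ H} (hm : IsEquiv a χ m) :
    IsEquiv a χ ((P ◁ v) ≫ m) := fun W g x t => by
  simp only [lift_whiskerLeft_assoc]
  exact hm W g x _

/-- the presheaf of equivariant maps -/
noncomputable def eqFun : (Over S)ᵒᵖ ⥤ Type u where
  obj T := {m : P ⊗ T.unop ⟶ H // IsEquiv a χ m}
  map v := TypeCat.ofHom fun m => ⟨(P ◁ v.unop) ≫ m.1, isEquiv_precomp a χ v.unop m.2⟩
  map_id T := by
    refine ConcreteCategory.hom_ext _ _ fun m => Subtype.ext ?_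
    show (P ◁ 𝟙 T.unop) ≫ m.1 = m.1
    simp
  map_comp v w := by
    refine ConcreteCategory.hom_ext _ _ fun m => Subtype.ext ?_
    show (P ◁ (w.unop ≫ v.unop)) ≫ m.1 = (P ◁ w.unop) ≫ (P ◁ v.unop) ≫ m.1
    simp [MonoidalCategory.whiskerLeft_comp]

theorem map_val {T T' : Over S} (v : T' ⟶ T) (m : (eqFun a χ).obj (op T)) :
    ((eqFun a χ).map v.op m).1 = (P ◁ v) ≫ m.1 := rfl

theorem isSheaf : Presheaf.IsSheaf (Scheme.fppfTopology.over S) (eqFun a χ) := by
  rw [isSheaf_iff_isSheaf_of_type]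
  intro T R hR x hx
  have hS := (GrothendieckTopology.Subcanonical.isSheaf_of_isRepresentable
    (J := Scheme.fppfTopology.over S) (yoneda.obj H))
  let x' : Presieve.FamilyOfElements (yoneda.obj H) (R.pullback (snd P T)).arrows := fun Y h hh =>
    lift (h ≫ fst P T) (𝟙 Y) ≫ (x (h ≫ snd P T) hh).1
  have hx' : x'.Compatible := by
    intro Y₁ Y₂ Z g₁ g₂ h₁ h₂ hh₁ hh₂ hc
    have e := congrArg Subtype.val (hx g₁ g₂ hh₁ hh₂ (by rw [reassoc_of% hc]))
    rw [map_val, map_val] at e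
    show g₁ ≫ lift (h₁ ≫ fst P T) (𝟙 Y₁) ≫ _ = g₂ ≫ lift (h₂ ≫ fst P T) (𝟙 Y₂) ≫ _
    have e1 : g₁ ≫ lift (h₁ ≫ fst P T) (𝟙 Y₁) = lift (g₁ ≫ h₁ ≫ fst P T) (𝟙 Z) ≫ (P ◁ g₁) := by simp
    have e2 : g₂ ≫ lift (h₂ ≫ fst P T) (𝟙 Y₂) = lift (g₁ ≫ h₁ ≫ fst P T) (𝟙 Z) ≫ (P ◁ g₂) := by
      simp [reassoc_of% hc]
    rw [reassoc_of% e1, reassoc_of% e2, e]
  obtain ⟨m, hm, huniq⟩ := hS _ ((Scheme.fppfTopology.over S).pullback_stable (snd P T) hR) x' hx'
  have key : ∀ (Y : Over S) (v : Y ⟶ T) (hv : R v), (P ◁ v) ≫ m = (x v hv).1 := by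
    intro Y v hv
    have hh : (R.pullback (snd P T)).arrows (P ◁ v) := by
      show R ((P ◁ v) ≫ snd P T)
      rw [whiskerLeft_snd]
      exact R.downward_closed hv _
    refine (hm (P ◁ v) hh).trans ?_
    have e := congrArg Subtype.val (hx (𝟙 (P ⊗ Y)) (snd P Y) hh hv (by simp))
    rw [map_val, map_val, MonoidalCategory.whiskerLeft_id, Category.id_comp] at e
    show lift ((P ◁ v) ≫ fst P T) (𝟙 (P ⊗ Y)) ≫ _ = _
    rw [whiskerLeft_fst, e, lift_whiskerLeft_assoc, Category.id_comp, lift_fst_snd, Category.id_comp]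
  have hequiv : IsEquiv a χ m := by
    intro W g y t
    refine (hS _ ((Scheme.fppfTopology.over S).pullback_stable t hR)).isSeparatedFor.ext fun Y v hv => ?_
    show v ≫ lift (H18Torsor.smul a g y) t ≫ m = v ≫ ((g ≫ χ) * (lift y t ≫ m))
    have e : ∀ z : W ⟶ P, v ≫ lift z t ≫ m = lift (v ≫ z) (𝟙 Y) ≫ (x (v ≫ t) hv).1 := fun z => by
      rw [← key Y (v ≫ t) hv, lift_whiskerLeft_assoc, Category.id_comp, comp_lift_assoc]
    rw [MonObj.comp_mul, e, e, H18Torsor.comp_smul, ← Category.assoc v g χ]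
    exact (x (v ≫ t) hv).2 Y _ _ _
  refine ⟨⟨m, hequiv⟩, fun Y v hv => Subtype.ext (key Y v hv), fun m' hm' => Subtype.ext (huniq _ fun Y h hh => ?_)⟩
  have e := congrArg Subtype.val (hm' (h ≫ snd P T) hh)
  rw [map_val] at e
  show h ≫ m'.1 = lift (h ≫ fst P T) (𝟙 Y) ≫ _
  rw [← e, lift_whiskerLeft_assoc, Category.id_comp]
  simp [← comp_lift_assoc]

/-- difference of two points of a torsor -/
noncomputable def diff (hps : NonAbH1.IsPseudoTorsorSch a) : P ⊗ P ⟶ G :=
  (H18Torsor.existsUnique_smul a hps (snd P P) (fst P P)).choose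

theorem smul_diff (hps : NonAbH1.IsPseudoTorsorSch a) {W : Over S} (x y : W ⟶ P) :
    H18Torsor.smul a (lift x y ≫ diff a hps) y = x := by
  have e := congrArg (lift x y ≫ ·) (H18Torsor.existsUnique_smul a hps (snd P P) (fst P P)).choose_spec.1
  simpa only [diff, H18Torsor.comp_smul, lift_fst, lift_snd] using e

theorem eq_diff (hps : NonAbH1.IsPseudoTorsorSch a) {W : Over S} {g : W ⟶ G} {x y : W ⟶ P}
    (h : H18Torsor.smul a g y = x) : lift x y ≫ diff a hps = g :=
  (H18Torsor.existsUnique_smul a hps y x).unique (smul_diff a hps x y) h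

theorem div_invariant {M : Type*} [Group M] (c x y : M) (h : ∀ p q : M, p * q = q * p) :
    (c * x) * (c * y)⁻¹ = x * y⁻¹ := by
  rw [h c x, mul_inv_rev, h y⁻¹ c⁻¹, ← _root_.mul_assoc, mul_inv_cancel_right]

/-- Pushing a torsor along a homomorphism to a commutative affine group. -/
theorem exists_pushout [IsMonHom χ] (hcomm : ∀ (W : Over S) (h h' : W ⟶ H), h * h' = h' * h) [IsAffineHom H.hom]
    [Flat P.hom] [Surjective P.hom] [LocallyOfFinitePresentation P.hom] (hps : NonAbH1.IsPseudoTorsorSch a) :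
    ∃ (Q : Over S) (b : AlgGrp.Action H Q), NonAbH1.IsTorsorFor Scheme.fppfPrecoverage b ∧
      ((∃ s : 𝟙_ (Over S) ⟶ Q, True) →
        ∃ m : P ⟶ H, ∀ (W : Over S) (g : W ⟶ G) (x : W ⟶ P), H18Torsor.smul a g x ≫ m = (g ≫ χ) * (x ≫ m)) := by
  let q : eqFun a χ ⟶ yoneda.obj (𝟙_ (Over S)) :=
    { app := fun T => TypeCat.ofHom fun _ => toUnit T.unop
      naturality := fun T T' v => by
        ext m
        exact toUnit_unique _ _ }
  let ξ₀ : P ⊗ (P ⊗ H) ⟶ H :=
    (lift (fst _ _) (snd _ _ ≫ fst _ _) ≫ diff a hps ≫ χ) * (snd _ _ ≫ snd _ _)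
  have hval : ∀ {W : Over S} (x y : W ⟶ P) (h : W ⟶ H),
      lift x (lift y h) ≫ ξ₀ = (lift x y ≫ diff a hps ≫ χ) * h := fun x y h => by
    simp [ξ₀, MonObj.comp_mul, comp_lift_assoc]
  have hξ₀ : IsEquiv a χ ξ₀ := fun W g x t => by
    obtain ⟨y, h, rfl⟩ : ∃ y h, t = lift y h := ⟨t ≫ fst _ _, t ≫ snd _ _, (lift_comp_fst_snd t).symm⟩
    have e : lift (H18Torsor.smul a g x) y ≫ diff a hps = g * (lift x y ≫ diff a hps) :=
      eq_diff a hps (by rw [H18Torsor.mul_smul_pt, smul_diff])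
    rw [hval, hval, ← Category.assoc, e, MonObj.mul_comp, Category.assoc, _root_.mul_assoc]
  have hrep : AffineRep.IsRep q (toUnit P) (fst P H) (show (eqFun a χ).obj (op (P ⊗ H)) from ⟨ξ₀, hξ₀⟩) := by
    refine ⟨toUnit_unique _ _, fun T m x _ => ?_⟩
    refine ⟨lift x (lift x (𝟙 T) ≫ m.1), ⟨lift_fst _ _, Subtype.ext ?_⟩, fun z hz => ?_⟩
    · rw [map_val]
      show _ ≫ ξ₀ = m.1
      have e := m.2 (P ⊗ T) (lift (fst P T) (snd P T ≫ x) ≫ diff a hps) (snd P T ≫ x) (snd P T)
      rw [smul_diff, lift_fst_snd, Category.id_comp] at e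
      refine (congrArg (· ≫ ξ₀) (show P ◁ lift x (lift x (𝟙 T) ≫ m.1) = lift (fst P T)
        (lift (snd P T ≫ x) (lift (snd P T ≫ x) (snd P T) ≫ m.1)) by
          ext1 <;> simp [comp_lift_assoc])).trans ?_
      rw [hval, ← Category.assoc]
      exact e.symm
    · obtain ⟨y, h, rfl⟩ : ∃ y h, z = lift y h := ⟨z ≫ fst _ _, z ≫ snd _ _, (lift_comp_fst_snd z).symm⟩
      obtain ⟨hy, hh⟩ := hz
      rw [lift_fst] at hy
      subst hy
      have e : (lift y (𝟙 T) ≫ m.1) = (lift y y ≫ diff a hps ≫ χ) * h := by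
        rw [← congrArg Subtype.val hh, map_val, lift_whiskerLeft_assoc, Category.id_comp]
        exact hval y y h
      rw [e, ← Category.assoc, eq_diff a hps (H18Torsor.one_smul_pt a y), MonObj.one_comp, _root_.one_mul]
  haveI : Flat (toUnit P).left := by
    have : (toUnit P).left = P.hom := by simpa using Over.w (toUnit P)
    rw [this]; infer_instance
  haveI : Surjective (toUnit P).left := by
    have : (toUnit P).left = P.hom := by simpa using Over.w (toUnit P)
    rw [this]; infer_instance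
  haveI : LocallyOfFinitePresentation (toUnit P).left := by
    have : (toUnit P).left = P.hom := by simpa using Over.w (toUnit P)
    rw [this]; infer_instance
  haveI : IsAffineHom (fst P H).left := by
    exact MorphismProperty.pullback_fst P.hom H.hom (inferInstanceAs (IsAffineHom H.hom))
  obtain ⟨Q, -, e, -, -⟩ := AffineRep.exists_rep (isSheaf a χ) hrep
  have hnat : ∀ {T T' : Over S} (v : T' ⟶ T) (z : T ⟶ Q),
      (e.homEquiv (v ≫ z)).1 = (P ◁ v) ≫ (e.homEquiv z).1 := fun v z =>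
    congrArg Subtype.val (e.homEquiv_comp v z)
  let u₀ : P ⊗ Q ⟶ H := (e.homEquiv (𝟙 Q)).1
  have hu₀ : ∀ {T : Over S} (z : T ⟶ Q), (e.homEquiv z).1 = (P ◁ z) ≫ u₀ := fun z => by
    rw [← hnat, Category.comp_id]
  have hinj : ∀ {T : Over S} {z z' : T ⟶ Q}, (P ◁ z) ≫ u₀ = (P ◁ z') ≫ u₀ → z = z' := fun h =>
    e.homEquiv.injective (Subtype.ext (by rw [hu₀, hu₀, h]))
  let m₁ : P ⊗ (H ⊗ Q) ⟶ H := (snd _ _ ≫ fst H Q) * ((P ◁ snd H Q) ≫ u₀)
  have hm₁ : IsEquiv a χ m₁ := fun W g x t => by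
    simp only [m₁, MonObj.comp_mul, lift_snd_assoc, lift_whiskerLeft_assoc]
    rw [show lift (H18Torsor.smul a g x) (t ≫ snd H Q) ≫ u₀ = (g ≫ χ) * (lift x (t ≫ snd H Q) ≫ u₀) from
      (e.homEquiv (𝟙 Q)).2 W g x _, ← _root_.mul_assoc, hcomm W (t ≫ fst H Q) (g ≫ χ), _root_.mul_assoc]
  obtain ⟨act, hact⟩ := e.homEquiv.surjective (show (eqFun a χ).obj (op (H ⊗ Q)) from ⟨m₁, hm₁⟩)
  replace hact : (P ◁ act) ≫ u₀ = m₁ := by
    rw [← hu₀, hact]
  have hA : ∀ {T : Over S} (h : T ⟶ H) (z : T ⟶ Q),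
      (P ◁ (lift h z ≫ act)) ≫ u₀ = (snd P T ≫ h) * ((P ◁ z) ≫ u₀) := fun h z => by
    rw [MonoidalCategory.whiskerLeft_comp, Category.assoc, hact]
    simp only [m₁, MonObj.comp_mul, whiskerLeft_snd_assoc, lift_fst, ← MonoidalCategory.whiskerLeft_comp_assoc,
      lift_snd]
  have hone : ∀ {T : Over S} (z : T ⟶ Q), lift 1 z ≫ act = z := fun z => hinj (by
    rw [hA, MonObj.comp_one, _root_.one_mul])
  have hmul : ∀ {T : Over S} (h h' : T ⟶ H) (z : T ⟶ Q),
      lift (h * h') z ≫ act = lift h (lift h' z ≫ act) ≫ act := fun h h' z => hinj (by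
    rw [hA, hA, hA, MonObj.comp_mul, _root_.mul_assoc])
  let b : AlgGrp.Action H Q :=
    { act := act
      one_act := by
        have e1 : η[H] ▷ Q = lift 1 (snd (𝟙_ (Over S)) Q) := by
          apply CartesianMonoidalCategory.hom_ext
          · simp [Hom.one_def, toUnit_unique (fst (𝟙_ (Over S)) Q) (toUnit _)]
          · simp
        rw [e1, hone]
        exact (CartesianMonoidalCategory.leftUnitor_hom Q).symm
      mul_act := by
        have e1 : μ[H] ▷ Q = lift (fst (H ⊗ H) Q ≫ fst H H * fst (H ⊗ H) Q ≫ snd H H) (snd (H ⊗ H) Q) := by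
          apply CartesianMonoidalCategory.hom_ext
          · rw [whiskerRight_fst, lift_fst, ← MonObj.comp_mul]
            refine congrArg (fst (H ⊗ H) Q ≫ ·) ?_
            rw [Hom.mul_def, lift_fst_snd, Category.id_comp]
          · simp
        have e2 : (α_ H H Q).hom ≫ (H ◁ act) =
            lift (fst (H ⊗ H) Q ≫ fst H H) (lift (fst (H ⊗ H) Q ≫ snd H H) (snd (H ⊗ H) Q) ≫ act) := by
          apply CartesianMonoidalCategory.hom_ext
          · simp
          · simp only [Category.assoc, whiskerLeft_snd, lift_snd]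
            rw [← Category.assoc]
            refine congrArg (· ≫ act) ?_
            apply CartesianMonoidalCategory.hom_ext <;> simp
        rw [e1, hmul, reassoc_of% e2] }
  have hpsb : NonAbH1.IsPseudoTorsorSch b := by
    refine isIso_of_yoneda_map_bijective _ fun W => ⟨fun w w' hw => ?_, fun w => ?_⟩
    · replace hw : w ≫ lift act (snd H Q) = w' ≫ lift act (snd H Q) := hw
      have e1 := congrArg (· ≫ fst Q Q) hw
      have e2 : w ≫ snd H Q = w' ≫ snd H Q := by simpa using congrArg (· ≫ snd Q Q) hw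
      refine CartesianMonoidalCategory.hom_ext _ _ ?_ e2
      have e3 : lift (w ≫ fst H Q) (w' ≫ snd H Q) ≫ act = lift (w' ≫ fst H Q) (w' ≫ snd H Q) ≫ act := by
        rw [lift_comp_fst_snd, ← e2, lift_comp_fst_snd]
        simpa using e1
      have e4 := congrArg (fun z => (P ◁ z) ≫ u₀) e3
      simp only [hA] at e4
      have e5 := mul_right_cancel e4
      haveI : EffectiveEpi (snd P W).left := by
        show EffectiveEpi (pullback.snd P.hom W.hom)
        infer_instance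
      exact Over.OverMorphism.ext ((cancel_epi (snd P W).left).mp (congrArg CommaMorphism.left e5))
    · let z₁ := w ≫ fst Q Q
      let z₂ := w ≫ snd Q Q
      let r : P ⊗ W ⟶ H := ((P ◁ z₁) ≫ u₀) * ((P ◁ z₂) ≫ u₀)⁻¹
      haveI : EffectiveEpi (snd P W).left := by
        show EffectiveEpi (pullback.snd P.hom W.hom)
        infer_instance
      have hinv : ∀ {T : Scheme.{u}} (c d : T ⟶ (P ⊗ W).left), c ≫ (snd P W).left = d ≫ (snd P W).left →
          c ≫ r.left = d ≫ r.left := by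
        intro T c d hcd
        let To : Over S := Over.mk (c ≫ (P ⊗ W).hom)
        let co : To ⟶ P ⊗ W := Over.homMk c rfl
        let d0 : To ⟶ P ⊗ W := Over.homMk d (by
          show d ≫ (P ⊗ W).hom = c ≫ (P ⊗ W).hom
          rw [← Over.w (snd P W), ← reassoc_of% hcd])
        have hs : co ≫ snd P W = d0 ≫ snd P W := Over.OverMorphism.ext hcd
        refine congrArg CommaMorphism.left (?_ : co ≫ r = d0 ≫ r)
        have ev : ∀ (k : To ⟶ P ⊗ W) (z : W ⟶ Q),
            k ≫ (P ◁ z) ≫ u₀ = lift (k ≫ fst P W) (k ≫ snd P W ≫ z) ≫ u₀ := fun k z => by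
          rw [← Category.assoc]
          refine congrArg (· ≫ u₀) ?_
          apply CartesianMonoidalCategory.hom_ext <;> simp
        have eq : ∀ z : W ⟶ Q, co ≫ (P ◁ z) ≫ u₀ =
            (lift (co ≫ fst P W) (d0 ≫ fst P W) ≫ diff a hps ≫ χ) * (d0 ≫ (P ◁ z) ≫ u₀) := fun z => by
          have := (e.homEquiv (𝟙 Q)).2 To (lift (co ≫ fst P W) (d0 ≫ fst P W) ≫ diff a hps) (d0 ≫ fst P W)
            (co ≫ snd P W ≫ z)
          rw [smul_diff, Category.assoc] at this
          rw [ev, ev, this]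
          rw [reassoc_of% hs]
        simp only [r, MonObj.comp_mul, GrpObj.comp_inv, eq]
        exact div_invariant _ _ _ (hcomm To)
      let hl := EffectiveEpi.desc (snd P W).left r.left hinv
      have hfac : (snd P W).left ≫ hl = r.left := EffectiveEpi.fac _ _ _
      let h : W ⟶ H := Over.homMk hl (by
        rw [← cancel_epi (snd P W).left, reassoc_of% hfac]
        exact (Over.w r).trans (Over.w (snd P W)).symm)
      have hh : snd P W ≫ h = r := Over.OverMorphism.ext hfac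
      refine ⟨lift h z₂, CartesianMonoidalCategory.hom_ext _ _ ?_ ?_⟩
      · show (lift h z₂ ≫ lift act (snd H Q)) ≫ fst Q Q = z₁
        rw [Category.assoc, lift_fst]
        refine hinj ?_
        rw [hA, hh]
        simp [r]
      · show (lift h z₂ ≫ lift act (snd H Q)) ≫ snd Q Q = z₂
        simp
  refine ⟨Q, b, ⟨hpsb, Presieve.singleton P.hom, Scheme.Hom.singleton_mem_fppfPrecoverage _, ?_⟩, fun ⟨s, _⟩ => ?_⟩
  · rintro _ _ ⟨⟩
    let z := e.homEquiv.symm ((eqFun a χ).map (lift (𝟙 P) (1 : P ⟶ H)).op ⟨ξ₀, hξ₀⟩)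
    exact ⟨z.left, Over.w z⟩
  · refine ⟨lift (𝟙 P) (toUnit P) ≫ (e.homEquiv s).1, fun W g x => ?_⟩
    have := (e.homEquiv s).2 W g x (toUnit W)
    simpa [comp_lift_assoc] using this

end Groth.Agent.H27SekSuwa.Pushout
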