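/-
Geometric points of the finite group schemes `G_{λ,p}` separate functions on their products.
-/
import Groth.Prelude.Def_SekSuwa2
import Groth.Prelude.Def_AlgGrp
import Groth.Agent.S14694
import Mathlib.RingTheory.RootsOfUnity.AlgebraicallyClosed
import Mathlib.GroupTheory.SpecificGroups.Cyclic
import Mathlib.RingTheory.AdjoinRoot
import Mathlib.LinearAlgebra.Vandermonde
import Mathlib.Algebra.Polynomial.Roots

set_option autoImplicit false
set_option backward.isDefEq.respectTransparency false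
set_option backward.isDefEq.respectTransparency.types false

universe u

open CategoryTheory CategoryTheory.Limits AlgebraicGeometry CommRingCat
open MonoidalCategory CartesianMonoidalCategory TensorProduct

namespace Groth.Agent.H27SekSuwa

variable {R : Type u} [CommRing R] {p : ℕ} {lam mu : R} (h₁ : SekSuwa.DivCond lam p)
  (h₂ : SekSuwa.DivCond mu p) {Ω : Type u} [Field Ω] [Algebra R Ω]

/-- A point of `G_{λ,p}` from a root of unity. -/
theorem exists_point (hp : 0 < p) (hl : algebraMap R Ω lam ≠ 0) (z : Ω) (hz : z ^ p = 1) :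
    ∃ φ : SekSuwa.AK R lam p h₁ →ₐ[R] Ω, 1 + algebraMap R Ω lam * φ SekSuwa.AK.t = z := by
  have hz0 : z ≠ 0 := fun h => by rw [h, zero_pow (by omega)] at hz; exact zero_ne_one hz
  let x : Ω := (z - 1) / algebraMap R Ω lam
  have hx : 1 + algebraMap R Ω lam * x = z := by
    rw [mul_div_cancel₀ _ hl, add_sub_cancel]
  have h0 : Polynomial.aeval x (SekSuwa.psiPoly lam p h₁) = 0 := by
    have e1 := SekSuwa.aeval_psiPoly h₁ x
    rw [hx, hz, sub_self, map_pow] at e1
    exact (mul_eq_zero.mp e1).resolve_left (pow_ne_zero _ hl)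
  have hu : (1 + lam • x) * z⁻¹ = 1 := by
    rw [Algebra.smul_def, hx, mul_inv_cancel₀ hz0]
  let fA := SekSuwa.A.lift R lam x z⁻¹ hu
  have hfA : fA (SekSuwa.kerGen lam p h₁) = 0 := by
    show fA (Polynomial.aeval SekSuwa.A.t (SekSuwa.psiPoly lam p h₁)) = 0
    rw [← Polynomial.aeval_algHom_apply, SekSuwa.A.lift_t, h0]
  let f : SekSuwa.AK R lam p h₁ →ₐ[R] Ω :=
    Ideal.Quotient.liftₐ (SekSuwa.kerIdeal lam p h₁) fA (fun a ha => by
      obtain ⟨d, rfl⟩ := Ideal.mem_span_singleton'.mp ha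
      rw [map_mul, hfA, mul_zero])
  refine ⟨f, ?_⟩
  rw [show f SekSuwa.AK.t = x from SekSuwa.A.lift_t _ _ hu, hx]

theorem point_pow (φ : SekSuwa.AK R lam p h₁ →ₐ[R] Ω) :
    (1 + algebraMap R Ω lam * φ SekSuwa.AK.t) ^ p = 1 := by
  have h := congrArg φ (SekSuwa.AK.u_pow (h := h₁))
  rw [map_pow, map_add, map_one, map_smul, Algebra.smul_def] at h
  exact h

theorem inv_eq (hp : 0 < p) :
    (1 + lam • (SekSuwa.AK.t : SekSuwa.AK R lam p h₁)) ^ (p - 1) = SekSuwa.AK.inv := by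
  have e1 := congrArg (SekSuwa.AK.mkHom R lam p h₁) (SekSuwa.A.u_mul_inv (R := R) (lam := lam))
  rw [map_mul, map_one, SekSuwa.AK.mkHom_u] at e1
  calc _ = (1 + lam • (SekSuwa.AK.t : SekSuwa.AK R lam p h₁)) ^ (p - 1) *
        ((1 + lam • SekSuwa.AK.t) * SekSuwa.AK.inv) := by
          rw [show (1 + lam • (SekSuwa.AK.t : SekSuwa.AK R lam p h₁)) * SekSuwa.AK.inv = 1 from e1, mul_one]
    _ = (1 + lam • (SekSuwa.AK.t : SekSuwa.AK R lam p h₁)) ^ (p - 1 + 1) * SekSuwa.AK.inv := by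
          rw [pow_succ, mul_assoc]
    _ = SekSuwa.AK.inv := by rw [Nat.sub_add_cancel hp, SekSuwa.AK.u_pow, one_mul]

theorem point_ext (hp : 0 < p) (hl : algebraMap R Ω lam ≠ 0) {φ φ' : SekSuwa.AK R lam p h₁ →ₐ[R] Ω}
    (h : 1 + algebraMap R Ω lam * φ SekSuwa.AK.t = 1 + algebraMap R Ω lam * φ' SekSuwa.AK.t) :
    φ = φ' := by
  have ht : φ SekSuwa.AK.t = φ' SekSuwa.AK.t := mul_left_cancel₀ hl (add_left_cancel h)
  refine SekSuwa.AK.algHom_ext ht ?_
  haveI : Nontrivial R := (algebraMap R Ω).domain_nontrivial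
  rw [← inv_eq h₁ hp]
  simp only [map_pow, map_add, map_one, map_smul, ht]

/-- There are exactly `p` geometric points. -/
theorem card_points [IsAlgClosed Ω] [CharZero Ω] (hp : 0 < p) (hl : algebraMap R Ω lam ≠ 0) :
    Nat.card (SekSuwa.AK R lam p h₁ →ₐ[R] Ω) = p := by
  classical
  haveI : NeZero p := ⟨by omega⟩
  haveI : NeZero (p : Ω) := ⟨Nat.cast_ne_zero.mpr (by omega)⟩
  obtain ⟨ζ, hζ⟩ := HasEnoughRootsOfUnity.exists_primitiveRoot Ω p
  let g : (SekSuwa.AK R lam p h₁ →ₐ[R] Ω) → Polynomial.nthRootsFinset p (1 : Ω) := fun φ =>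
    ⟨1 + algebraMap R Ω lam * φ SekSuwa.AK.t, (Polynomial.mem_nthRootsFinset hp _).mpr (point_pow h₁ φ)⟩
  have hg : Function.Bijective g := ⟨fun φ φ' h => point_ext h₁ hp hl (congrArg Subtype.val h),
    fun z => (exists_point h₁ hp hl z.1 ((Polynomial.mem_nthRootsFinset hp _).mp z.2)).imp
      fun φ h => Subtype.ext h⟩
  rw [Nat.card_eq_of_bijective g hg, Nat.card_eq_finsetCard, hζ.card_nthRootsFinset]

/-- A basis of powers of the coordinate. -/
theorem exists_basis [Nontrivial R] (hp : 0 < p) :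
    ∃ b : Module.Basis (Fin p) R (SekSuwa.AK R lam p h₁), ∀ i, b i = SekSuwa.AK.t ^ (i : ℕ) := by
  obtain ⟨hm, hd⟩ := Groth.Agent.S14694.monic_psiPoly R lam p hp h₁
  let g : AdjoinRoot (SekSuwa.psiPoly lam p h₁) →ₐ[R] SekSuwa.AK R lam p h₁ :=
    AdjoinRoot.liftAlgHom _ (Algebra.ofId R _) SekSuwa.AK.t (by
      rw [Algebra.toRingHom_ofId, ← Polynomial.aeval_def]; exact SekSuwa.AK.aeval_t)
  obtain ⟨e⟩ := Groth.Agent.S14694.nonempty_algEquiv R lam p hp h₁
  haveI := hm.free_adjoinRoot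
  haveI := hm.finite_adjoinRoot
  haveI : Module.Finite R (SekSuwa.AK R lam p h₁) := Module.Finite.equiv e.symm.toLinearEquiv
  have hgs : Function.Surjective g := by
    have hmem : ∀ z : SekSuwa.A R lam, SekSuwa.AK.mkHom R lam p h₁ z ∈ g.range := by
      have ht : (SekSuwa.AK.t : SekSuwa.AK R lam p h₁) ∈ g.range :=
        ⟨AdjoinRoot.root _, AdjoinRoot.liftAlgHom_root _ _ _ _⟩
      have hi : (SekSuwa.AK.inv : SekSuwa.AK R lam p h₁) ∈ g.range := by
        rw [← inv_eq h₁ hp]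
        exact pow_mem (add_mem (one_mem _) (Subalgebra.smul_mem _ ht _)) _
      intro z
      let S : Subalgebra R (SekSuwa.A R lam) :=
        g.range.comap (SekSuwa.AK.mkHom R lam p h₁ : SekSuwa.A R lam →ₐ[R] SekSuwa.AK R lam p h₁)
      have hu' : (1 + lam • (⟨SekSuwa.A.t, ht⟩ : S)) * ⟨SekSuwa.A.inv, hi⟩ = 1 :=
        Subtype.ext SekSuwa.A.u_mul_inv
      let l : SekSuwa.A R lam →ₐ[R] S :=
        SekSuwa.A.lift R lam ⟨SekSuwa.A.t, ht⟩ ⟨SekSuwa.A.inv, hi⟩ hu'
      have hl : S.val.comp l = AlgHom.id R _ := SekSuwa.A.algHom_ext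
        (congrArg Subtype.val (SekSuwa.A.lift_t _ _ hu')) (congrArg Subtype.val (SekSuwa.A.lift_inv _ _ hu'))
      have := (l z).2
      rw [show ((l z : S) : SekSuwa.A R lam) = z from AlgHom.congr_fun hl z] at this
      exact this
    intro y
    obtain ⟨z, rfl⟩ := Ideal.Quotient.mk_surjective y
    exact hmem z
  have hgi : Function.Injective g := by
    have h1 : Function.Surjective (g.toLinearMap ∘ₗ e.toLinearMap) := hgs.comp e.surjective
    exact Function.Injective.of_comp_right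
      (OrzechProperty.injective_of_surjective_endomorphism (g.toLinearMap ∘ₗ e.toLinearMap) h1) e.surjective
  let E := (LinearEquiv.ofBijective g.toLinearMap ⟨hgi, hgs⟩)
  let B := (AdjoinRoot.powerBasis' hm)
  have hdim : B.dim = p := by simpa [B] using hd
  refine ⟨(B.basis.reindex (finCongr hdim)).map E, fun i => ?_⟩
  rw [Module.Basis.map_apply, Module.Basis.reindex_apply, PowerBasis.basis_eq_pow]
  have hE : ∀ x, E x = g x := fun x => rfl
  rw [hE, map_pow, AdjoinRoot.powerBasis'_gen, AdjoinRoot.liftAlgHom_root, finCongr_symm, finCongr_apply,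
    Fin.val_cast]

theorem separates [IsAlgClosed Ω] [CharZero Ω] (hp : 0 < p) (hl : algebraMap R Ω lam ≠ 0)
    {b : Module.Basis (Fin p) R (SekSuwa.AK R lam p h₁)} (hb : ∀ i, b i = SekSuwa.AK.t ^ (i : ℕ))
    (v : Fin p → Ω) (hv : ∀ φ : SekSuwa.AK R lam p h₁ →ₐ[R] Ω, ∑ i, v i * φ (b i) = 0) : v = 0 := by
  classical
  haveI : Finite (SekSuwa.AK R lam p h₁ →ₐ[R] Ω) :=
    Nat.finite_of_card_ne_zero (by rw [card_points h₁ hp hl]; omega)
  let e := (Finite.equivFinOfCardEq (card_points (Ω := Ω) h₁ hp hl)).symm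
  refine Matrix.eq_zero_of_forall_index_sum_mul_pow_eq_zero (f := fun j => (e j) SekSuwa.AK.t) ?_ fun j => ?_
  · intro i j hij
    exact e.injective (point_ext h₁ hp hl (by rw [show (e i) SekSuwa.AK.t = (e j) SekSuwa.AK.t from hij]))
  · refine (Finset.sum_congr rfl fun i _ => ?_).trans (hv (e j))
    rw [hb, map_pow]

/-- Points separate functions on a product. -/
theorem eq_of_forall_points [IsAlgClosed Ω] [CharZero Ω] (hR : Function.Injective (algebraMap R Ω))
    (hp : 0 < p) (hl : algebraMap R Ω lam ≠ 0) (hm : algebraMap R Ω mu ≠ 0)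
    (z : SekSuwa.AK R mu p h₂ ⊗[R] SekSuwa.AK R lam p h₁)
    (h : ∀ (φ : SekSuwa.AK R mu p h₂ →ₐ[R] Ω) (ψ : SekSuwa.AK R lam p h₁ →ₐ[R] Ω),
      Algebra.TensorProduct.productMap φ ψ z = 0) : z = 0 := by
  classical
  haveI : Nontrivial R := (algebraMap R Ω).domain_nontrivial
  obtain ⟨b, hb⟩ := exists_basis h₂ hp
  obtain ⟨c, hc⟩ := exists_basis h₁ hp
  let B := b.tensorProduct c
  have hz : z = ∑ ij, B.repr z ij • B ij := (B.sum_repr z).symm
  have key : ∀ ij, algebraMap R Ω (B.repr z ij) = 0 := by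
    rintro ⟨i, j⟩
    have h1 : ∀ ψ : SekSuwa.AK R lam p h₁ →ₐ[R] Ω,
        (fun i => ∑ j, algebraMap R Ω (B.repr z (i, j)) * ψ (c j)) = 0 := by
      intro ψ
      refine separates h₂ hp hm hb _ fun φ => ?_
      have h2 := h φ ψ
      rw [hz, map_sum, Fintype.sum_prod_type] at h2
      refine (Finset.sum_congr rfl fun i _ => ?_).trans h2
      rw [Finset.sum_mul]
      refine Finset.sum_congr rfl fun j _ => ?_
      rw [map_smul, Algebra.smul_def, Module.Basis.tensorProduct_apply,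
        Algebra.TensorProduct.productMap_apply_tmul]
      ring
    have := separates h₁ hp hl hc (fun j => algebraMap R Ω (B.repr z (i, j)))
      fun ψ => congrFun (h1 ψ) i
    exact congrFun this j
  rw [hz]
  refine Finset.sum_eq_zero fun ij _ => ?_
  rw [hR ((key ij).trans (map_zero _).symm), zero_smul]

end Groth.Agent.H27SekSuwa
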