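/-
Actions of `G_{μ,p}` on `G_{λ,p}` by group automorphisms are trivial.
-/
import Groth.Agent.H27SekSuwa.Points

set_option autoImplicit false
set_option backward.isDefEq.respectTransparency false
set_option backward.isDefEq.respectTransparency.types false

universe u

open CategoryTheory CategoryTheory.Limits AlgebraicGeometry CommRingCat
open MonoidalCategory CartesianMonoidalCategory MonObj TensorProduct

namespace Groth.Agent.H27SekSuwa

variable {R : Type u} [CommRing R]

section affine

variable {A B : Type u} [CommRing A] [CommRing B] [Algebra R A] [Algebra R B]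

/-- `Spec` of an algebra over `Spec R`. -/
noncomputable abbrev SR (A : Type u) [CommRing A] [Algebra R A] : Over (Spec (CommRingCat.of R)) :=
  (Spec (CommRingCat.of A)).asOver (Spec (CommRingCat.of R))

/-- Morphisms between affine objects are algebra maps. -/
noncomputable def homEquiv : (SR (R := R) A ⟶ SR (R := R) B) ≃ (B →ₐ[R] A) where
  toFun a :=
    { (Spec.preimage a.left).hom with
      commutes' := fun r => by
        have h : CommRingCat.ofHom (algebraMap R B) ≫ Spec.preimage a.left =
            CommRingCat.ofHom (algebraMap R A) := Spec.map_injective (by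
          rw [Spec.map_comp, Spec.map_preimage]
          exact Over.w a)
        exact congr($(h).hom r) }
  invFun φ := Over.homMk (Spec.map (CommRingCat.ofHom φ.toRingHom)) (by
    show Spec.map _ ≫ Spec.map (CommRingCat.ofHom (algebraMap R B)) = Spec.map (CommRingCat.ofHom (algebraMap R A))
    rw [← Spec.map_comp]
    congr 1
    ext r
    exact φ.commutes r)
  left_inv a := Over.OverMorphism.ext (Spec.map_preimage a.left)
  right_inv φ := AlgHom.ext fun b => congr($(Spec.preimage_map (CommRingCat.ofHom φ.toRingHom)).hom b)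

theorem eq_spec_map (φ : B →ₐ[R] A) :
    ((homEquiv (R := R)).symm φ).left = Spec.map (CommRingCat.ofHom φ.toRingHom) := rfl

end affine

theorem act_eq_snd [IsDomain R] [CharZero R] {p : ℕ} [Fact p.Prime] {lam mu : R}
    (h₁ : SekSuwa.DivCond lam p) (h₂ : SekSuwa.DivCond mu p)
    (a : AlgGrp.Action (SekSuwa.GK R mu p h₂) (SekSuwa.GK R lam p h₁))
    (hmul : ∀ (T : Over (Spec (CommRingCat.of R))) (g : T ⟶ SekSuwa.GK R mu p h₂)
      (x y : T ⟶ SekSuwa.GK R lam p h₁), lift g (x * y) ≫ a.act = (lift g x ≫ a.act) * (lift g y ≫ a.act)) :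
    a.act = snd _ _ := by
  classical
  let Ω := AlgebraicClosure (FractionRing R)
  haveI : CharZero (FractionRing R) :=
    charZero_of_injective_algebraMap (IsFractionRing.injective R (FractionRing R))
  haveI : CharZero Ω := charZero_of_injective_algebraMap (algebraMap (FractionRing R) Ω).injective
  have hR : Function.Injective (algebraMap R Ω) := by
    rw [IsScalarTower.algebraMap_eq R (FractionRing R) Ω, RingHom.coe_comp]
    exact (algebraMap (FractionRing R) Ω).injective.comp (IsFractionRing.injective R (FractionRing R))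
  have hp : 0 < p := (Fact.out : p.Prime).pos
  have hne : ∀ {x : R}, x ∈ nonZeroDivisors R → algebraMap R Ω x ≠ 0 := fun hx h =>
    nonZeroDivisors.ne_zero hx (hR (h.trans (map_zero _).symm))
  let T₀ := SR (R := R) Ω
  have hcard : ∀ {l : R} (h : SekSuwa.DivCond l p), Nat.card (T₀ ⟶ SekSuwa.GK R l p h) = p := fun h =>
    (Nat.card_congr (homEquiv (R := R))).trans (card_points h hp (hne h.nzd))
  -- on geometric points
  have hpt : ∀ (g : T₀ ⟶ SekSuwa.GK R mu p h₂) (x : T₀ ⟶ SekSuwa.GK R lam p h₁),
      lift g x ≫ a.act = x := by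
    intro g x
    let G₂ := T₀ ⟶ SekSuwa.GK R mu p h₂
    let G₁ := T₀ ⟶ SekSuwa.GK R lam p h₁
    let act : G₂ → G₁ → G₁ := fun g x => lift g x ≫ a.act
    have hone : ∀ x : G₁, act 1 x = x := fun x => by
      show lift (toUnit T₀ ≫ η[SekSuwa.GK R mu p h₂]) x ≫ a.act = x
      have e : lift (toUnit T₀ ≫ η[SekSuwa.GK R mu p h₂]) x =
          lift (toUnit T₀) x ≫ (η[SekSuwa.GK R mu p h₂] ▷ SekSuwa.GK R lam p h₁) := by
        rw [lift_whiskerRight]
      rw [e, Category.assoc, a.one_act, lift_leftUnitor_hom]
    have hcomp : ∀ (g g' : G₂) (x : G₁), act (g * g') x = act g (act g' x) := fun g g' x => by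
      show lift (lift g g' ≫ μ[SekSuwa.GK R mu p h₂]) x ≫ a.act = lift g (lift g' x ≫ a.act) ≫ a.act
      have e : lift (lift g g' ≫ μ[SekSuwa.GK R mu p h₂]) x =
          lift (lift g g') x ≫ (μ[SekSuwa.GK R mu p h₂] ▷ SekSuwa.GK R lam p h₁) := by
        rw [lift_whiskerRight]
      rw [e, Category.assoc, a.mul_act, lift_lift_associator_hom_assoc, lift_whiskerLeft_assoc]
    have hinv : ∀ g : G₂, Function.Bijective (act g) := fun g => Function.bijective_iff_has_inverse.mpr
      ⟨act g⁻¹, fun x => by rw [← hcomp, inv_mul_cancel, hone], fun x => by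
        rw [← hcomp, mul_inv_cancel, hone]⟩
    let Φ : G₂ →* MulAut G₁ :=
      { toFun := fun g => MulEquiv.ofBijective
          ({ toFun := act g, map_mul' := fun x y => hmul T₀ g x y } : G₁ →ₙ* G₁) (hinv g)
        map_one' := MulEquiv.ext hone
        map_mul' := fun g g' => MulEquiv.ext fun x => hcomp g g' x }
    have h1 : Nat.card G₁ = p := hcard h₁
    have h2 : Nat.card G₂ = p := hcard h₂
    haveI : Finite G₁ := Nat.finite_of_card_ne_zero (by omega)
    haveI : IsCyclic G₁ := isCyclic_of_prime_card h1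
    have h3 : Nat.card (MulAut G₁) = p - 1 := by
      rw [IsCyclic.card_mulAut, h1, Nat.totient_prime Fact.out]
    have h4 : Φ g = 1 := by
      rw [← orderOf_eq_one_iff]
      have d1 : orderOf (Φ g) ∣ p := (orderOf_map_dvd Φ g).trans
        ((orderOf_dvd_natCard g).trans (dvd_of_eq h2))
      have d2 : orderOf (Φ g) ∣ p - 1 := h3 ▸ orderOf_dvd_natCard (Φ g)
      rcases (Nat.dvd_prime (Fact.out : p.Prime)).mp d1 with h | h
      · exact h
      · rw [h] at d2
        have h5 := (Fact.out : p.Prime).two_le
        have := Nat.le_of_dvd (by omega) d2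
        omega
    exact DFunLike.congr_fun h4 x
  -- points separate morphisms out of the product
  apply Over.OverMorphism.ext
  let AM := SekSuwa.AK R mu p h₂
  let AL := SekSuwa.AK R lam p h₁
  let e : pullback (Spec.map (CommRingCat.ofHom (algebraMap R AM))) (Spec.map (CommRingCat.ofHom (algebraMap R AL)))
      ≅ Spec (CommRingCat.of (AM ⊗[R] AL)) := pullbackSpecIso R AM AL
  rw [← cancel_epi e.inv]
  let u₁ := Spec.preimage (e.inv ≫ a.act.left)
  let u₂ := Spec.preimage (e.inv ≫ (snd (SekSuwa.GK R mu p h₂) (SekSuwa.GK R lam p h₁)).left)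
  suffices hu : u₁ = u₂ by
    rw [← Spec.map_preimage (e.inv ≫ a.act.left)]
    exact (congrArg Spec.map hu).trans (Spec.map_preimage _)
  ext z
  rw [← sub_eq_zero]
  refine eq_of_forall_points (Ω := Ω) h₁ h₂ hR hp (hne h₁.nzd) (hne h₂.nzd) _ fun φ ψ => ?_
  have hl : (lift ((homEquiv (R := R)).symm φ) ((homEquiv (R := R)).symm ψ)).left =
      Spec.map (CommRingCat.ofHom (Algebra.TensorProduct.productMap φ ψ).toRingHom) ≫ e.inv := by
    have k1 : Spec.map (CommRingCat.ofHom (Algebra.TensorProduct.productMap φ ψ).toRingHom) ≫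
        (pullbackSpecIso R AM AL).inv ≫ pullback.fst _ _ = Spec.map (CommRingCat.ofHom φ.toRingHom) := by
      rw [pullbackSpecIso_inv_fst, ← Spec.map_comp]
      congr 1
      ext b
      show Algebra.TensorProduct.productMap φ ψ (b ⊗ₜ 1) = φ b
      simp
    have k2 : Spec.map (CommRingCat.ofHom (Algebra.TensorProduct.productMap φ ψ).toRingHom) ≫
        (pullbackSpecIso R AM AL).inv ≫ pullback.snd _ _ = Spec.map (CommRingCat.ofHom ψ.toRingHom) := by
      rw [pullbackSpecIso_inv_snd, ← Spec.map_comp]
      congr 1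
      ext b
      show Algebra.TensorProduct.productMap φ ψ (1 ⊗ₜ b) = ψ b
      simp
    apply pullback.hom_ext
    · exact (congrArg Over.Hom.left (lift_fst ((homEquiv (R := R)).symm φ) ((homEquiv (R := R)).symm ψ))).trans
        (k1.symm.trans (Category.assoc _ _ _).symm)
    · exact (congrArg Over.Hom.left (lift_snd ((homEquiv (R := R)).symm φ) ((homEquiv (R := R)).symm ψ))).trans
        (k2.symm.trans (Category.assoc _ _ _).symm)
  have h := congrArg (fun m => m.left) ((hpt ((homEquiv (R := R)).symm φ) ((homEquiv (R := R)).symm ψ)).trans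
    (lift_snd ((homEquiv (R := R)).symm φ) ((homEquiv (R := R)).symm ψ)).symm)
  simp only [Over.comp_left, hl, Category.assoc] at h
  rw [← Spec.map_preimage (e.inv ≫ a.act.left),
    ← Spec.map_preimage (e.inv ≫ (snd (SekSuwa.GK R mu p h₂) (SekSuwa.GK R lam p h₁)).left),
    ← Spec.map_comp, ← Spec.map_comp] at h
  have h' := congr($(Spec.map_injective h).hom z)
  rw [map_sub, sub_eq_zero]
  exact h'

end Groth.Agent.H27SekSuwa
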