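/-
Points of `G^(λ)` as units congruent to one modulo `λ`.
-/
import Groth.Agent.H27SekSuwa.Action
import Groth.Agent.H21Diag.Points
import Mathlib.AlgebraicGeometry.Morphisms.Flat

set_option autoImplicit false
set_option linter.style.haveILetI false
set_option backward.isDefEq.respectTransparency false
set_option backward.isDefEq.respectTransparency.types false

universe u

open CategoryTheory CategoryTheory.Limits AlgebraicGeometry CommRingCat
open MonoidalCategory CartesianMonoidalCategory MonObj TensorProduct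

namespace Groth.Agent.H27SekSuwa

variable {R : Type u} [CommRing R]

/-- constants on an object over `Spec R` -/
noncomputable def cst (Z : Over (Spec (CommRingCat.of R))) : R →+* Γ(Z.left, ⊤) :=
  ((Scheme.ΓSpecIso (CommRingCat.of R)).inv ≫ Z.hom.appTop).hom

section pv

variable {H : Type u} [CommRing H] [Algebra R H] {Z : Over (Spec (CommRingCat.of R))}

/-- the values of a point of an affine object -/
noncomputable def pv (y : Z ⟶ SR (R := R) H) : H →+* Γ(Z.left, ⊤) :=
  ((Scheme.ΓSpecIso (CommRingCat.of H)).inv ≫ y.left.appTop).hom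

theorem pv_comp {Z' : Over (Spec (CommRingCat.of R))} (g : Z' ⟶ Z) (y : Z ⟶ SR (R := R) H) (h : H) :
    pv (g ≫ y) h = g.left.appTop (pv y h) := rfl

theorem pv_algebraMap (y : Z ⟶ SR (R := R) H) (r : R) : pv y (algebraMap R H r) = cst Z r := by
  have e : Z.hom = y.left ≫ Spec.map (CommRingCat.ofHom (algebraMap R H)) := (Over.w y).symm
  show _ = Z.hom.appTop ((Scheme.ΓSpecIso (CommRingCat.of R)).inv r)
  rw [e, Scheme.Hom.comp_appTop]
  exact congrArg y.left.appTop
    (ConcreteCategory.congr_hom (Scheme.ΓSpecIso_inv_naturality (CommRingCat.ofHom (algebraMap R H))) r)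

variable (Z) in
/-- functions on an object over `Spec R` -/
@[reducible] noncomputable def algΓ : Algebra R Γ(Z.left, ⊤) := (cst Z).toAlgebra

/-- the values as an algebra map -/
noncomputable def av (y : Z ⟶ SR (R := R) H) : letI := algΓ Z; H →ₐ[R] Γ(Z.left, ⊤) :=
  letI := algΓ Z; { pv y with commutes' := pv_algebraMap y }

variable (Z) in
/-- the canonical map to the affinisation -/
noncomputable def toAff : letI := algΓ Z; Z ⟶ SR (R := R) Γ(Z.left, ⊤) :=
  letI := algΓ Z
  Over.homMk Z.left.toSpecΓ (by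
    show Z.left.toSpecΓ ≫ Spec.map ((Scheme.ΓSpecIso (CommRingCat.of R)).inv ≫ Z.hom.appTop) = Z.hom
    rw [Spec.map_comp, ← Scheme.toSpecΓ_naturality_assoc, ← SpecMap_ΓSpecIso_hom, ← Spec.map_comp,
      Iso.inv_hom_id, Spec.map_id, Category.comp_id])

theorem eq_toAff_comp (y : Z ⟶ SR (R := R) H) :
    letI := algΓ Z; y = toAff Z ≫ (homEquiv (R := R)).symm (av y) := by
  letI := algΓ Z
  apply Over.OverMorphism.ext
  show y.left = Z.left.toSpecΓ ≫ Spec.map ((Scheme.ΓSpecIso (CommRingCat.of H)).inv ≫ y.left.appTop)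
  rw [Spec.map_comp, ← Scheme.toSpecΓ_naturality_assoc]
  erw [← SpecMap_ΓSpecIso_hom]
  rw [← Spec.map_comp, Iso.inv_hom_id, Spec.map_id]
  exact (Category.comp_id _).symm

theorem pv_toAff (a : letI := algΓ Z; H →ₐ[R] Γ(Z.left, ⊤)) (h : H) :
    letI := algΓ Z; pv (toAff Z ≫ (homEquiv (R := R)).symm a) h = a h := by
  letI := algΓ Z
  rw [pv_comp]
  show Z.left.toSpecΓ.appTop ((Spec.map (CommRingCat.ofHom a.toRingHom)).appTop
    ((Scheme.ΓSpecIso (CommRingCat.of H)).inv h)) = a h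
  rw [show (Spec.map (CommRingCat.ofHom a.toRingHom)).appTop ((Scheme.ΓSpecIso (CommRingCat.of H)).inv h) =
      (Scheme.ΓSpecIso (CommRingCat.of Γ(Z.left, ⊤))).inv (a h) from
    (ConcreteCategory.congr_hom (Scheme.ΓSpecIso_inv_naturality (CommRingCat.ofHom a.toRingHom)) h).symm,
    Scheme.toSpecΓ_appTop]
  exact ConcreteCategory.congr_hom (Scheme.ΓSpecIso (CommRingCat.of Γ(Z.left, ⊤))).inv_hom_id (a h)

theorem pv_ext {y y' : Z ⟶ SR (R := R) H} (h : ∀ x, pv y x = pv y' x) : y = y' := by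
  letI := algΓ Z
  rw [eq_toAff_comp y, eq_toAff_comp y', show av y = av y' from AlgHom.ext h]

end pv

theorem pv_mul {H : Type u} [CommRing H] [HopfAlgebra R H] {Z : Over (Spec (CommRingCat.of R))}
    (y y' : Z ⟶ SR (R := R) H) {g : H} (hg : CoalgebraStruct.comul (R := R) g = g ⊗ₜ[R] g) :
    pv (y * y') g = pv y g * pv y' g := by
  letI := algΓ Z
  conv_lhs => rw [eq_toAff_comp y, eq_toAff_comp y', ← MonObj.comp_mul]
  let a := WithConv.toConv (av y)
  let a' := WithConv.toConv (av y')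
  rw [show (homEquiv (R := R)).symm (av y) * (homEquiv (R := R)).symm (av y') =
      (homEquiv (R := R)).symm (a * a').ofConv from (map_mul Spec.mapMulEquiv a a').symm, pv_toAff,
    AlgHom.convMul_def]
  simp [a, a', hg]
  rfl

variable {lam : R} {Z : Over (Spec (CommRingCat.of R))}

/-- the unit `1 + λ t` of a point of `G^(λ)` -/
noncomputable def uv (y : Z ⟶ SekSuwa.G R lam) : Γ(Z.left, ⊤) := pv (H := SekSuwa.A R lam) y SekSuwa.A.u

theorem uv_comp {Z' : Over (Spec (CommRingCat.of R))} (g : Z' ⟶ Z) (y : Z ⟶ SekSuwa.G R lam) :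
    uv (g ≫ y) = g.left.appTop (uv y) := rfl

theorem uv_mul (y y' : Z ⟶ SekSuwa.G R lam) : uv (y * y') = uv y * uv y' :=
  pv_mul (H := SekSuwa.A R lam) y y' (SekSuwa.A.isGroupLikeElem_u (R := R) (lam := lam)).comul_eq_tmul_self

theorem isUnit_uv (y : Z ⟶ SekSuwa.G R lam) : IsUnit (uv y) :=
  (IsUnit.of_mul_eq_one _ SekSuwa.A.u_mul_inv).map (pv (H := SekSuwa.A R lam) y)

theorem uv_eq (y : Z ⟶ SekSuwa.G R lam) :
    uv y = 1 + cst Z lam * pv (H := SekSuwa.A R lam) y SekSuwa.A.t := by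
  rw [uv, SekSuwa.A.u, map_add, map_one, Algebra.smul_def, map_mul, pv_algebraMap]

theorem uv_injective (hreg : ∀ a : Γ(Z.left, ⊤), cst Z lam * a = 0 → a = 0) :
    Function.Injective (uv (Z := Z) (lam := lam)) := by
  intro y y' h
  letI := algΓ Z
  have ht : pv (H := SekSuwa.A R lam) y SekSuwa.A.t = pv (H := SekSuwa.A R lam) y' SekSuwa.A.t := by
    rw [uv_eq, uv_eq, add_right_inj] at h
    rw [← sub_eq_zero]
    exact hreg _ (by rw [mul_sub, h, sub_self])
  have hi : pv (H := SekSuwa.A R lam) y SekSuwa.A.inv = pv (H := SekSuwa.A R lam) y' SekSuwa.A.inv := by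
    refine left_inv_eq_right_inv (a := uv y) ?_ ?_
    · rw [uv, ← map_mul, _root_.mul_comm, SekSuwa.A.u_mul_inv, map_one]
    · rw [h, uv, ← map_mul, SekSuwa.A.u_mul_inv, map_one]
  have e := SekSuwa.A.algHom_ext (f := av (H := SekSuwa.A R lam) y) (g := av (H := SekSuwa.A R lam) y') ht hi
  exact pv_ext (H := SekSuwa.A R lam) fun x => DFunLike.congr_fun e x

theorem exists_uv (β : Γ(Z.left, ⊤)) (h : IsUnit (1 + cst Z lam * β)) :
    ∃ y : Z ⟶ SekSuwa.G R lam, uv y = 1 + cst Z lam * β := by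
  letI := algΓ Z
  obtain ⟨c, hc⟩ := h.exists_right_inv
  refine ⟨toAff Z ≫ (homEquiv (R := R)).symm (SekSuwa.A.lift R lam β c (by
    rw [Algebra.smul_def]; exact hc)), ?_⟩
  rw [uv, pv_toAff, SekSuwa.A.u, map_add, map_one, map_smul, SekSuwa.A.lift_t, Algebra.smul_def]
  rfl

/-- Nonzero constants are regular on flat objects. -/
theorem cst_regular [IsDomain R] [Flat Z.hom] {r : R} (hr : r ≠ 0) (a : Γ(Z.left, ⊤)) (ha : cst Z r * a = 0) :
    a = 0 := by
  refine Z.left.sheaf.eq_of_locally_eq' (fun U : Z.left.affineOpens => U.1) ⊤ (fun U => homOfLE le_top)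
    (iSup_affineOpens_eq_top Z.left).ge a 0 fun U => ?_
  letI := (Z.hom.appLE ⊤ U.1 le_top).hom.toAlgebra
  haveI : Module.Flat Γ(Spec (CommRingCat.of R), ⊤) Γ(Z.left, U.1) :=
    Z.hom.flat_appLE (isAffineOpen_top _) U.2 le_top
  haveI : IsDomain Γ(Spec (CommRingCat.of R), ⊤) :=
    (Scheme.ΓSpecIso (CommRingCat.of R)).commRingCatIsoToRingEquiv.toMulEquiv.isDomain
  have hl : (Scheme.ΓSpecIso (CommRingCat.of R)).inv r ≠ 0 := fun e =>
    hr ((Scheme.ΓSpecIso (CommRingCat.of R)).commRingCatIsoToRingEquiv.symm.injective (e.trans (map_zero _).symm))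
  have hreg := Module.Flat.isSMulRegular_of_nonZeroDivisors (R := Γ(Spec (CommRingCat.of R), ⊤)) (M := Γ(Z.left, U.1))
    (mem_nonZeroDivisors_of_ne_zero hl)
  refine hreg ?_
  have h1 := congrArg (Z.left.presheaf.map (homOfLE (le_top : U.1 ≤ ⊤)).op).hom ha
  simp only [map_mul, map_zero, Algebra.smul_def, mul_zero, RingHom.algebraMap_toAlgebra] at h1 ⊢
  exact h1

end Groth.Agent.H27SekSuwa
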