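/-
Torsors under `G^(λ)` over flat schemes have sections Zariski locally.
-/
import Groth.Agent.H27SekSuwa.UnitVal
import Groth.Agent.H18Torsor.Glue
import Groth.Agent.H12Pic.InvDesc.Coboundary
import Groth.Agent.H12Pic.InvDesc.Cover
import Mathlib.AlgebraicGeometry.Morphisms.FlatDescent
import Mathlib.AlgebraicGeometry.Sites.Fpqc

set_option autoImplicit false
set_option linter.style.haveILetI false
set_option backward.isDefEq.respectTransparency false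
set_option backward.isDefEq.respectTransparency.types false
set_option synthInstance.maxHeartbeats 400000

universe u

open CategoryTheory CategoryTheory.Limits AlgebraicGeometry CommRingCat
open MonoidalCategory CartesianMonoidalCategory MonObj TensorProduct
open Groth.Agent.H12Pic.InvDesc

namespace Groth.Agent.H27SekSuwa

/-- an element constant modulo `l` on both factors comes from the base modulo `l` -/
theorem exists_sub_mem_of_descent {A B : Type u} [CommRing A] [CommRing B] [Algebra A B] [Module.FaithfullyFlat A B]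
    (l : A) (x : B) (z : B ⊗[A] B) (h : (1 : B) ⊗ₜ[A] x - x ⊗ₜ[A] (1 : B) = l • z) :
    ∃ (a : A) (y : B), x = algebraMap A B a + l • y := by
  let N : Submodule A B := LinearMap.range (Algebra.linearMap A B) ⊔ LinearMap.range (l • LinearMap.id : B →ₗ[A] B)
  let q : B →ₗ[A] B ⧸ N := N.mkQ
  have h1 : q 1 = 0 := (Submodule.Quotient.mk_eq_zero _).mpr (Submodule.mem_sup_left ⟨1, by simp⟩)
  have hl : l • q = 0 := LinearMap.ext fun y =>
    ((map_smul q l y).symm.trans ((Submodule.Quotient.mk_eq_zero _).mpr (Submodule.mem_sup_right ⟨y, rfl⟩)))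
  have e := congrArg (LinearMap.lTensor B q) h
  rw [map_sub, LinearMap.lTensor_tmul, LinearMap.lTensor_tmul, h1, TensorProduct.tmul_zero, sub_zero,
    map_smul, ← LinearMap.smul_apply, ← LinearMap.lTensor_smul, hl, LinearMap.lTensor_zero, LinearMap.zero_apply] at e
  have h2 : q x = 0 := Module.FaithfullyFlat.tensorProduct_mk_injective (A := A) (B := B) (B ⧸ N) (by simpa using e)
  obtain ⟨_, ⟨a, rfl⟩, _, ⟨y, rfl⟩, hay⟩ := Submodule.mem_sup.mp ((Submodule.Quotient.mk_eq_zero _).mp h2)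
  exact ⟨a, y, hay.symm⟩

variable {R : Type u} [CommRing R] {lam : R} {X : Scheme.{u}} {f : X ⟶ Spec (CommRingCat.of R)}

/-- constants on an object over `X` -/
noncomputable def cstX (f : X ⟶ Spec (CommRingCat.of R)) (Y : Over X) : R →+* Γ(Y.left, ⊤) :=
  cst ((Over.map f).obj Y)

/-- the unit of a point of the base change of `G^(λ)` -/
noncomputable def uvX {Y : Over X} (gm : Y ⟶ Red.bc f (SekSuwa.G R lam)) : Γ(Y.left, ⊤) :=
  uv ((H21Diag.bcEquiv f (SekSuwa.G R lam) Y).symm gm)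

theorem uvX_comp {Y' Y : Over X} (g : Y' ⟶ Y) (gm : Y ⟶ Red.bc f (SekSuwa.G R lam)) :
    uvX (g ≫ gm) = g.left.appTop (uvX gm) := by
  rw [uvX, H21Diag.bcEquiv, Adjunction.homEquiv_naturality_left_symm, uv_comp]
  rfl

theorem uvX_mul {Y : Over X} (gm gm' : Y ⟶ Red.bc f (SekSuwa.G R lam)) : uvX (gm * gm') = uvX gm * uvX gm' := by
  rw [uvX, H21Diag.bcEquiv_symm_mul, uv_mul]
  rfl

theorem isUnit_uvX {Y : Over X} (gm : Y ⟶ Red.bc f (SekSuwa.G R lam)) : IsUnit (uvX gm) := isUnit_uv _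

theorem uvX_eq {Y : Over X} (gm : Y ⟶ Red.bc f (SekSuwa.G R lam)) :
    ∃ β : Γ(Y.left, ⊤), uvX gm = 1 + cstX f Y lam * β := ⟨_, uv_eq _⟩

theorem uvX_injective [IsDomain R] (hlam : lam ≠ 0) {Y : Over X} [Flat (Y.hom ≫ f)] :
    Function.Injective (uvX (Y := Y) (f := f) (lam := lam)) := fun gm gm' h => by
  haveI : Flat ((Over.map f).obj Y).hom := inferInstanceAs (Flat (Y.hom ≫ f))
  exact (H21Diag.bcEquiv f (SekSuwa.G R lam) Y).symm.injective (uv_injective (cst_regular hlam) h)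

theorem exists_uvX {Y : Over X} (β : Γ(Y.left, ⊤)) (h : IsUnit (1 + cstX f Y lam * β)) :
    ∃ gm : Y ⟶ Red.bc f (SekSuwa.G R lam), uvX gm = 1 + cstX f Y lam * β := by
  obtain ⟨y, hy⟩ := exists_uv (Z := (Over.map f).obj Y) β h
  exact ⟨H21Diag.bcEquiv f (SekSuwa.G R lam) Y y, by rw [uvX, Equiv.symm_apply_apply, hy]; rfl⟩

theorem isoSpec_inv_appTop {W : Scheme.{u}} [IsAffine W] (b : Γ(W, ⊤)) :
    W.isoSpec.inv.appTop b = (Scheme.ΓSpecIso Γ(W, ⊤)).inv b := by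
  have h1 : W.isoSpec.hom.appTop (W.isoSpec.inv.appTop b) = b := by
    rw [← CommRingCat.comp_apply, ← Scheme.Hom.comp_appTop, Iso.hom_inv_id]
    rfl
  have h2 : W.isoSpec.hom.appTop ((Scheme.ΓSpecIso Γ(W, ⊤)).inv b) = b := by
    rw [Scheme.isoSpec_hom, Scheme.toSpecΓ_appTop]
    exact ConcreteCategory.congr_hom (Scheme.ΓSpecIso Γ(W, ⊤)).inv_hom_id b
  haveI : IsIso W.isoSpec.hom.appTop := inferInstanceAs (IsIso (W.isoSpec.hom.app ⊤))
  exact (ConcreteCategory.bijective_of_isIso W.isoSpec.hom.appTop).1 (h1.trans h2.symm)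

theorem appTop_pt {W : Scheme.{u}} [IsAffine W] {S : CommRingCat.{u}} (φ : Γ(W, ⊤) ⟶ S) (b : Γ(W, ⊤)) :
    (Spec.map φ ≫ W.isoSpec.inv).appTop b = (Scheme.ΓSpecIso S).inv (φ b) := by
  rw [Scheme.Hom.comp_appTop, CommRingCat.comp_apply, isoSpec_inv_appTop]
  exact (ConcreteCategory.congr_hom (Scheme.ΓSpecIso_inv_naturality φ) b).symm

theorem inv_mul_of_mul {G : Type*} [Group G] {q r₂ r₁ : G} (h : q * r₂ = r₁) : r₁⁻¹ * q = r₂⁻¹ := by
  subst h; group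

theorem isUnit_of_forall_mem_basicOpen {Y : Scheme.{u}} (b : Γ(Y, ⊤)) (h : ∀ z, z ∈ Y.basicOpen b) : IsUnit b :=
  Y.toRingedSpace.isUnit_of_isUnit_germ ⊤ b fun z _ => (Y.mem_basicOpen b z trivial).mp (h z)

/-- a function on a faithfully flat affine cover constant modulo `l` comes from the base modulo `l` -/
theorem exists_const_mod {W V : Scheme.{u}} [IsAffine W] [IsAffine V] (g : W ⟶ V) [Flat g] [Surjective g]
    (l : Γ(V, ⊤)) (b : Γ(W, ⊤))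
    (h : ∀ (T : Scheme.{u}) (t₁ t₂ : T ⟶ W), t₁ ≫ g = t₂ ≫ g →
      ∃ β, t₂.appTop b - t₁.appTop b = (t₁ ≫ g).appTop l * β) :
    ∃ (α : Γ(V, ⊤)) (y : Γ(W, ⊤)), b = g.appTop α + g.appTop l * y := by
  letI : Algebra Γ(V, ⊤) Γ(W, ⊤) := g.appTop.hom.toAlgebra
  have hg : Spec.map (CommRingCat.ofHom (algebraMap Γ(V, ⊤) Γ(W, ⊤))) =
      W.isoSpec.inv ≫ g ≫ V.isoSpec.hom := by
    rw [← Scheme.isoSpec_inv_naturality_assoc, Iso.inv_hom_id, Category.comp_id]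
    rfl
  haveI : Module.FaithfullyFlat Γ(V, ⊤) Γ(W, ⊤) := by
    rw [← RingHom.faithfullyFlat_algebraMap_iff]
    exact (flat_and_surjective_SpecMap_iff (CommRingCat.ofHom (algebraMap Γ(V, ⊤) Γ(W, ⊤)))).1
      ⟨hg ▸ inferInstance, hg ▸ inferInstance⟩
  let S2 : CommRingCat.{u} := CommRingCat.of (Γ(W, ⊤) ⊗[Γ(V, ⊤)] Γ(W, ⊤))
  let pt : (Γ(W, ⊤) →ₐ[Γ(V, ⊤)] Γ(W, ⊤) ⊗[Γ(V, ⊤)] Γ(W, ⊤)) → (Spec S2 ⟶ W) := fun j =>
    Spec.map (CommRingCat.ofHom j.toRingHom) ≫ W.isoSpec.inv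
  have hpt : ∀ j, pt j ≫ g =
      Spec.map (CommRingCat.ofHom (algebraMap Γ(V, ⊤) (Γ(W, ⊤) ⊗[Γ(V, ⊤)] Γ(W, ⊤)))) ≫ V.isoSpec.inv := fun j => by
    rw [← j.comp_algebraMap, CommRingCat.ofHom_comp, Spec.map_comp, hg]
    simp [pt]
  let i₁ : Γ(W, ⊤) →ₐ[Γ(V, ⊤)] Γ(W, ⊤) ⊗[Γ(V, ⊤)] Γ(W, ⊤) := Algebra.TensorProduct.includeLeft
  let i₂ : Γ(W, ⊤) →ₐ[Γ(V, ⊤)] Γ(W, ⊤) ⊗[Γ(V, ⊤)] Γ(W, ⊤) := Algebra.TensorProduct.includeRight
  obtain ⟨β, hβ⟩ := h (Spec S2) (pt i₁) (pt i₂) ((hpt i₁).trans (hpt i₂).symm)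
  rw [hpt i₁, appTop_pt, appTop_pt, appTop_pt] at hβ
  have hβ' := congrArg (Scheme.ΓSpecIso S2).hom hβ
  rw [map_sub, map_mul] at hβ'
  simp only [Iso.inv_hom_id_apply] at hβ'
  obtain ⟨α, y, hy⟩ := exists_sub_mem_of_descent (A := Γ(V, ⊤)) (B := Γ(W, ⊤)) l b ((Scheme.ΓSpecIso S2).hom β) (by
    rw [Algebra.smul_def]
    refine hβ'.trans ?_
    congr 1
    exact congr($((Scheme.ΓSpecIso S2).inv_hom_id).hom _))
  exact ⟨α, y, by rw [hy, Algebra.smul_def]; rfl⟩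

/-- the descended value can be chosen nonzero at a given point -/
theorem exists_nonvanishing {W V : Scheme.{u}} (g : W ⟶ V) [Surjective g] (l α : Γ(V, ⊤)) (y b : Γ(W, ⊤))
    (hb : IsUnit b) (h : b = g.appTop α + g.appTop l * y) (v : V) :
    ∃ (α' : Γ(V, ⊤)) (y' : Γ(W, ⊤)), b = g.appTop α' + g.appTop l * y' ∧ v ∈ V.basicOpen α' := by
  by_cases hv : v ∈ V.basicOpen α
  · exact ⟨α, y, h, hv⟩
  refine ⟨α + l, y - 1, by rw [map_add, h]; ring, ?_⟩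
  obtain ⟨z, hz⟩ := g.surjective v
  let gv := V.presheaf.germ ⊤ v trivial
  have hmem : ∀ r : Γ(V, ⊤), v ∈ V.basicOpen r ↔ IsUnit (gv r) := fun r => V.mem_basicOpen r v trivial
  have hα : ¬ IsUnit (gv α) := fun hu => hv ((hmem α).mpr hu)
  have hl : IsUnit (gv l) := by
    by_contra hl
    let gz := W.presheaf.germ ⊤ z trivial
    have key : ∀ r : Γ(V, ⊤), ¬ IsUnit (gv r) → gz (g.appTop r) ∈ IsLocalRing.maximalIdeal _ := by
      intro r hr hu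
      have e : z ∈ W.basicOpen (g.appTop r) := (W.mem_basicOpen (U := ⊤) (g.appTop r) z trivial).mpr hu
      rw [← Scheme.preimage_basicOpen_top] at e
      exact hr ((hmem r).mp (hz ▸ e))
    have hmax : gz b ∈ IsLocalRing.maximalIdeal _ := by
      rw [h, map_add, map_mul]
      exact Ideal.add_mem _ (key α hα) (Ideal.mul_mem_right _ _ (key l hl))
    exact hmax (hb.map _)
  refine (hmem _).mpr ?_
  rw [map_add]
  refine (IsLocalRing.isUnit_or_isUnit_of_isUnit_add (a := -gv α) (b := gv α + gv l)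
    (by rwa [neg_add_cancel_left])).resolve_left fun hn => hα (by simpa using hn.neg)

/-- Torsors under `G^(λ)` over a flat scheme have sections near every point. -/
theorem exists_local_section [IsDomain R] (hlam : lam ≠ 0) [Flat f] (P : Over X)
    (a : AlgGrp.Action (Red.bc f (SekSuwa.G R lam)) P) (hP : NonAbH1.IsTorsorFor Scheme.fppfPrecoverage a) (x : X) :
    ∃ U : X.Opens, x ∈ U ∧ NonAbH1.HasSectionOver P U.ι := by
  obtain ⟨hps, Rc, hR, hsec⟩ := hP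
  obtain ⟨V, hV, hxV, -⟩ := exists_isAffineOpen_mem_and_subset (U := (⊤ : X.Opens)) (x := x) trivial
  haveI : IsAffine V.toScheme := hV
  obtain ⟨T, k, hk, hT⟩ := H18Torsor.exists_refinement (Scheme.fppfPrecoverage_le_fpqcPrecoverage _ hR) hV
  obtain ⟨s₀, hs₀⟩ := hT P.left P.hom hsec
  obtain ⟨⟨hk1, hk2⟩, hk3⟩ := hk
  haveI := hk1; haveI := hk2; haveI := hk3
  obtain ⟨W, hW, g₀, w, hg₀, hg₀s, hfac⟩ := exists_affine_of_quasiCompact k (⊤ : V.toScheme.Opens) (isAffineOpen_top _)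
  haveI := hW; haveI := hg₀; haveI := hg₀s
  let g : W ⟶ V.toScheme := g₀ ≫ (⊤ : V.toScheme.Opens).ι
  haveI : IsIso (⊤ : V.toScheme.Opens).ι := inferInstanceAs (IsIso (Scheme.topIso V.toScheme).hom)
  haveI : Flat g := by dsimp only [g]; infer_instance
  haveI : Surjective g := by dsimp only [g]; infer_instance
  let YW : Over X := Over.mk (g ≫ V.ι)
  let t : YW ⟶ P := Over.homMk (w ≫ s₀) (by
    show (w ≫ s₀) ≫ P.hom = g ≫ V.ι
    rw [Category.assoc, hs₀, ← Category.assoc, ← hfac])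
  let Y2 : Over X := Over.mk (pullback.fst g g ≫ g ≫ V.ι)
  let p₁ : Y2 ⟶ YW := Over.homMk (pullback.fst g g) rfl
  let p₂ : Y2 ⟶ YW := Over.homMk (pullback.snd g g) (by
    show pullback.snd g g ≫ g ≫ V.ι = pullback.fst g g ≫ g ≫ V.ι
    rw [← Category.assoc, ← pullback.condition, Category.assoc])
  obtain ⟨gm, hγ, -⟩ := H18Torsor.existsUnique_smul a hps (p₂ ≫ t) (p₁ ≫ t)
  let c : Γ(pullback g g, ⊤) := uvX gm
  have hcoc : IsCocycle g c := by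
    intro T' t₁ t₂ t₃ h₁₂ h₂₃
    let YT : Over X := Over.mk (t₁ ≫ g ≫ V.ι)
    let e₁ : YT ⟶ YW := Over.homMk t₁ rfl
    let e₂ : YT ⟶ YW := Over.homMk t₂ (by
      show t₂ ≫ g ≫ V.ι = t₁ ≫ g ≫ V.ι
      rw [← reassoc_of% h₁₂])
    let e₃ : YT ⟶ YW := Over.homMk t₃ (by
      show t₃ ≫ g ≫ V.ι = t₁ ≫ g ≫ V.ι
      rw [← reassoc_of% (h₁₂.trans h₂₃)])
    let q : ∀ (e e' : YT ⟶ YW), e.left ≫ g = e'.left ≫ g → (YT ⟶ Y2) := fun e e' h =>
      Over.homMk (pullback.lift e.left e'.left h) ((pullback.lift_fst_assoc _ _ _ _).trans (Over.w e))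
    have hq : ∀ e e' h, q e e' h ≫ p₁ = e ∧ q e e' h ≫ p₂ = e' := fun e e' h =>
      ⟨Over.OverMorphism.ext (pullback.lift_fst _ _ _), Over.OverMorphism.ext (pullback.lift_snd _ _ _)⟩
    have hact : ∀ e e' h, H18Torsor.smul a (q e e' h ≫ gm) (e' ≫ t) = e ≫ t := fun e e' h => by
      have := congrArg (q e e' h ≫ ·) hγ
      simp only [H18Torsor.comp_smul, ← Category.assoc, (hq e e' h).1, (hq e e' h).2] at this
      exact this
    have hprod : (q e₁ e₂ h₁₂ ≫ gm) * (q e₂ e₃ h₂₃ ≫ gm) = q e₁ e₃ (h₁₂.trans h₂₃) ≫ gm :=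
      (H18Torsor.existsUnique_smul a hps (e₃ ≫ t) (e₁ ≫ t)).unique
        (by rw [H18Torsor.mul_smul_pt, hact, hact]) (hact _ _ _)
    have := congrArg uvX hprod
    rw [uvX_mul, uvX_comp, uvX_comp, uvX_comp] at this
    exact this
  obtain ⟨D, hvD, b, hbD, hb⟩ := exists_coboundary_scheme g c (isUnit_uvX gm) hcoc ⟨x, hxV⟩
  obtain ⟨D₀, hD₀, hvD₀, hD₀D⟩ := exists_isAffineOpen_mem_and_subset (U := D) (x := (⟨x, hxV⟩ : V.toScheme)) hvD
  haveI : IsAffine D₀.toScheme := hD₀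
  haveI : IsAffineHom g := inferInstance
  haveI : IsAffine (g ⁻¹ᵁ D₀).toScheme := hD₀.preimage g
  let g' : (g ⁻¹ᵁ D₀).toScheme ⟶ D₀.toScheme := g ∣_ D₀
  haveI : Flat g' := MorphismProperty.of_isPullback (isPullback_morphismRestrict g D₀).flip inferInstance
  haveI : Surjective g' := MorphismProperty.of_isPullback (isPullback_morphismRestrict g D₀).flip inferInstance
  let b₀ : Γ((g ⁻¹ᵁ D₀).toScheme, ⊤) := (g ⁻¹ᵁ D₀).ι.appTop b
  have hb₀ : IsUnit b₀ := isUnit_of_forall_mem_basicOpen _ fun z => by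
    have hz : (g ⁻¹ᵁ D₀).ι z ∈ W.basicOpen b := hbD (hD₀D z.2)
    exact (SetLike.ext_iff.mp (Scheme.preimage_basicOpen_top (g ⁻¹ᵁ D₀).ι b) z).mp hz
  let Z₀ : Over (Spec (CommRingCat.of R)) := Over.mk ((D₀.ι ≫ V.ι) ≫ f)
  let lA : Γ(D₀.toScheme, ⊤) := cst Z₀ lam
  obtain ⟨α, y, hαy⟩ := exists_const_mod g' lA b₀ fun T' u₁ u₂ hu => by
    have hu' : (u₁ ≫ (g ⁻¹ᵁ D₀).ι) ≫ g = (u₂ ≫ (g ⁻¹ᵁ D₀).ι) ≫ g := by
      rw [Category.assoc, Category.assoc, ← morphismRestrict_ι, reassoc_of% hu]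
    let YS : Over X := Over.mk ((u₁ ≫ (g ⁻¹ᵁ D₀).ι) ≫ g ≫ V.ι)
    let qS : YS ⟶ Y2 := Over.homMk (pullback.lift (u₁ ≫ (g ⁻¹ᵁ D₀).ι) (u₂ ≫ (g ⁻¹ᵁ D₀).ι) hu')
      (pullback.lift_fst_assoc _ _ _ _)
    obtain ⟨β₀, hβ⟩ := uvX_eq (qS ≫ gm)
    let β : Γ(T', ⊤) := β₀
    let L : Γ(T', ⊤) := cstX f YS lam
    let U₀ : Γ(T', ⊤) := uvX (qS ≫ gm)
    replace hβ : U₀ = 1 + L * β := hβ
    have hcst : L = (u₁ ≫ g').appTop lA := by
      have e : ((Over.map f).obj YS).hom = (u₁ ≫ g') ≫ Z₀.hom := by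
        show ((u₁ ≫ (g ⁻¹ᵁ D₀).ι) ≫ g ≫ V.ι) ≫ f = (u₁ ≫ (g ∣_ D₀)) ≫ (D₀.ι ≫ V.ι) ≫ f
        simp only [Category.assoc]
        rw [morphismRestrict_ι_assoc]
      show ((Over.map f).obj YS).hom.appTop ((Scheme.ΓSpecIso (CommRingCat.of R)).inv lam) = _
      rw [e, Scheme.Hom.comp_appTop]
      rfl
    have hr := hb T' (u₁ ≫ (g ⁻¹ᵁ D₀).ι) (u₂ ≫ (g ⁻¹ᵁ D₀).ι) hu'
    have hc : evP g c (u₁ ≫ (g ⁻¹ᵁ D₀).ι) (u₂ ≫ (g ⁻¹ᵁ D₀).ι) hu' = 1 + (u₁ ≫ g').appTop lA * β := by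
      rw [← hcst, ← hβ]
      exact (uvX_comp qS gm).symm
    refine ⟨-(β * u₂.appTop b₀), ?_⟩
    rw [hc] at hr
    change u₁.appTop b₀ = (1 + (u₁ ≫ g').appTop lA * β) * u₂.appTop b₀ at hr
    rw [hr]
    ring
  obtain ⟨α', y', hαy', hvα'⟩ : ∃ (α' : Γ(D₀.toScheme, ⊤)) (y' : Γ((g ⁻¹ᵁ D₀).toScheme, ⊤)),
      b₀ = g'.appTop α' + g'.appTop lA * y' ∧
      (⟨⟨x, hxV⟩, hvD₀⟩ : D₀.toScheme) ∈ D₀.toScheme.basicOpen α' :=
    exists_nonvanishing g' lA α y b₀ hb₀ hαy _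
  let D₁ := D₀.toScheme.basicOpen α'
  haveI : IsAffine D₁.toScheme := (isAffineOpen_top D₀.toScheme).basicOpen α'
  haveI : IsAffineHom g' := inferInstance
  let g₁ : (g' ⁻¹ᵁ D₁).toScheme ⟶ D₁.toScheme := g' ∣_ D₁
  haveI : Flat g₁ := MorphismProperty.of_isPullback (isPullback_morphismRestrict g' D₁).flip inferInstance
  haveI : Surjective g₁ := MorphismProperty.of_isPullback (isPullback_morphismRestrict g' D₁).flip inferInstance
  let j₁ : (g' ⁻¹ᵁ D₁).toScheme ⟶ W := (g' ⁻¹ᵁ D₁).ι ≫ (g ⁻¹ᵁ D₀).ι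
  let sX : D₁.toScheme ⟶ X := D₁.ι ≫ D₀.ι ≫ V.ι
  let Y1 : Over X := Over.mk (g₁ ≫ sX)
  let m₁ : Y1 ⟶ YW := Over.homMk j₁ (by
    show j₁ ≫ g ≫ V.ι = g₁ ≫ sX
    simp only [j₁, g₁, g', sX, Category.assoc]
    rw [morphismRestrict_ι_assoc, morphismRestrict_ι_assoc])
  let res := (g' ⁻¹ᵁ D₁).ι.appTop
  have hα'u : IsUnit (res (g'.appTop α')) := by
    refine isUnit_of_forall_mem_basicOpen _ fun z' => ?_
    refine (SetLike.ext_iff.mp (Scheme.preimage_basicOpen_top (g' ⁻¹ᵁ D₁).ι _) z').mp ?_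
    exact (SetLike.ext_iff.mp (Scheme.preimage_basicOpen_top g' α') _).mp z'.2
  obtain ⟨αi, hαi⟩ := hα'u.exists_right_inv
  have hcst1 : (cstX f Y1 lam : Γ((g' ⁻¹ᵁ D₁).toScheme, ⊤)) = res (g'.appTop lA) := by
    have e : ((Over.map f).obj Y1).hom = ((g' ⁻¹ᵁ D₁).ι ≫ g') ≫ Z₀.hom := by
      show (g₁ ≫ sX) ≫ f = _
      simp only [g₁, sX, Z₀, Over.mk_hom, Category.assoc]
      rw [morphismRestrict_ι_assoc]
    show ((Over.map f).obj Y1).hom.appTop ((Scheme.ΓSpecIso (CommRingCat.of R)).inv lam) = _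
    rw [e, Scheme.Hom.comp_appTop, Scheme.Hom.comp_appTop]
    rfl
  let L1 : Γ((g' ⁻¹ᵁ D₁).toScheme, ⊤) := cstX f Y1 lam
  have hval : 1 + L1 * (res y' * αi) = res b₀ * αi := by
    rw [show L1 = res (g'.appTop lA) from hcst1, hαy', map_add, map_mul, add_mul, hαi]
    ring
  obtain ⟨δ, hδ⟩ := exists_uvX (f := f) (lam := lam) (Y := Y1) (res y' * αi) (by
    show IsUnit (1 + L1 * (res y' * αi))
    rw [hval]; exact (hb₀.map res.hom).mul (IsUnit.of_mul_eq_one_right _ hαi))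
  replace hδ : (uvX δ : Γ((g' ⁻¹ᵁ D₁).toScheme, ⊤)) = res b₀ * αi := hδ.trans hval
  let t' : Y1 ⟶ P := H18Torsor.smul a δ⁻¹ (m₁ ≫ t)
  let Y11 : Over X := Over.mk (pullback.fst g₁ g₁ ≫ g₁ ≫ sX)
  let r₁ : Y11 ⟶ Y1 := Over.homMk (pullback.fst g₁ g₁) rfl
  let r₂ : Y11 ⟶ Y1 := Over.homMk (pullback.snd g₁ g₁) (by
    show pullback.snd g₁ g₁ ≫ g₁ ≫ sX = pullback.fst g₁ g₁ ≫ g₁ ≫ sX
    rw [pullback.condition_assoc])
  have hd12 : (pullback.fst g₁ g₁ ≫ j₁) ≫ g = (pullback.snd g₁ g₁ ≫ j₁) ≫ g := by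
    have e : j₁ ≫ g = g₁ ≫ D₁.ι ≫ D₀.ι := by
      simp only [j₁, g₁, g', Category.assoc]
      rw [morphismRestrict_ι_assoc, morphismRestrict_ι]
    exact (((Category.assoc _ _ _).trans (congrArg (pullback.fst g₁ g₁ ≫ ·) e)).trans
      (pullback.condition_assoc _)).trans ((Category.assoc _ _ _).trans (congrArg (pullback.snd g₁ g₁ ≫ ·) e)).symm
  let Q : Y11 ⟶ Y2 := Over.homMk (pullback.lift (pullback.fst g₁ g₁ ≫ j₁) (pullback.snd g₁ g₁ ≫ j₁) hd12)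
    ((pullback.lift_fst_assoc _ _ _ _).trans (Over.w (r₁ ≫ m₁)))
  have hQ₁ : Q ≫ p₁ = r₁ ≫ m₁ := Over.OverMorphism.ext (pullback.lift_fst _ _ _)
  have hQ₂ : Q ≫ p₂ = r₂ ≫ m₁ := Over.OverMorphism.ext (pullback.lift_snd _ _ _)
  haveI : Flat (Y11.hom ≫ f) := by
    show Flat ((pullback.fst g₁ g₁ ≫ g₁ ≫ sX) ≫ f)
    dsimp only [sX]
    infer_instance
  have hkey : (Q ≫ gm) * (r₂ ≫ δ) = r₁ ≫ δ := by
    apply uvX_injective hlam
    rw [uvX_mul, uvX_comp, uvX_comp, uvX_comp, hδ]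
    have e1 : ∀ r : pullback g₁ g₁ ⟶ (g' ⁻¹ᵁ D₁).toScheme, r.appTop (res b₀) = (r ≫ j₁).appTop b := fun r => rfl
    have hr2 := hb _ _ _ hd12
    show evP g c _ _ hd12 * (pullback.snd g₁ g₁).appTop (res b₀ * αi) = (pullback.fst g₁ g₁).appTop (res b₀ * αi)
    rw [map_mul, map_mul, e1, e1, hr2, ← _root_.mul_assoc]
    congr 1
    -- the inverse of the constant is the same on both sides
    have hc : ∀ r : pullback g₁ g₁ ⟶ (g' ⁻¹ᵁ D₁).toScheme,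
        r.appTop (res (g'.appTop α')) = (r ≫ g₁).appTop (D₁.ι.appTop α') := fun r => by
      have e : (g' ⁻¹ᵁ D₁).ι ≫ g' = g₁ ≫ D₁.ι := (morphismRestrict_ι g' D₁).symm
      show (((g' ⁻¹ᵁ D₁).ι ≫ g').appTop ≫ r.appTop).hom α' = _
      rw [e]
      rfl
    refine left_inv_eq_right_inv (a := (pullback.fst g₁ g₁).appTop (res (g'.appTop α'))) ?_ ?_
    · rw [hc, pullback.condition, ← hc, ← map_mul, _root_.mul_comm, hαi, map_one]
    · rw [← map_mul, hαi, map_one]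
  have hdesc : r₁ ≫ t' = r₂ ≫ t' := by
    have hg2 : H18Torsor.smul a (Q ≫ gm) (r₂ ≫ m₁ ≫ t) = r₁ ≫ m₁ ≫ t := by
      have := congrArg (Q ≫ ·) hγ
      simp only [H18Torsor.comp_smul, ← Category.assoc, hQ₁, hQ₂] at this
      simpa only [Category.assoc] using this
    simp only [t', H18Torsor.comp_smul, GrpObj.comp_inv]
    rw [← hg2, ← H18Torsor.mul_smul_pt]
    congr 1
    exact inv_mul_of_mul hkey
  let s₁ : D₁.toScheme ⟶ P.left := EffectiveEpi.desc g₁ t'.left fun h₁ h₂ hh => by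
    have e := congrArg (fun m : Y11 ⟶ P => pullback.lift h₁ h₂ hh ≫ m.left) hdesc
    simpa only [Over.comp_left, r₁, r₂, Over.homMk_left, pullback.lift_fst_assoc, pullback.lift_snd_assoc] using e
  have hs₁ : g₁ ≫ s₁ = t'.left := EffectiveEpi.fac _ _ _
  have hs₁X : s₁ ≫ P.hom = sX := by
    rw [← cancel_epi g₁, ← Category.assoc, hs₁]
    exact Over.w t'
  haveI : IsOpenImmersion sX := by dsimp only [sX]; infer_instance
  refine ⟨sX.opensRange, ⟨⟨⟨⟨x, hxV⟩, hvD₀⟩, hvα'⟩, rfl⟩, sX.isoOpensRange.inv ≫ s₁, ?_⟩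
  rw [Category.assoc, hs₁X, Scheme.Hom.isoOpensRange_inv_comp]

end Groth.Agent.H27SekSuwa
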