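/-
Orders of rank `p` with a constant group law on their `p` sections over a discrete valuation ring are
the coordinate rings of `G_{λ,p}`.
-/
import Groth.Agent.H27SekSuwa.Points
import Mathlib.RingTheory.DiscreteValuationRing.Basic
import Mathlib.RingTheory.LocalRing.Module
import Mathlib.RingTheory.IntegralClosure.IntegrallyClosed
import Mathlib.LinearAlgebra.Dual.Lemmas

set_option autoImplicit false
set_option linter.style.haveILetI false

universe u

open TensorProduct Polynomial

namespace Groth.Agent.H27SekSuwa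

variable (R : Type u) [CommRing R] (p : ℕ) (B : Type u) [CommRing B] [Algebra R B]

/-- An order in `Maps(ℤ/p, K)` closed under the comultiplication. -/
structure Model where
  /-- the sections -/
  φ : ZMod p → (B →ₐ[R] R)
  sep : ∀ z, (∀ i, φ i z = 0) → z = 0
  /-- a denominator -/
  c : R
  c_ne : c ≠ 0
  /-- multiples of the idempotents -/
  b : ZMod p → B
  φ_b : ∀ i j, φ j (b i) = if j = i then c else 0
  /-- the comultiplication -/
  Δ : B →ₐ[R] B ⊗[R] B
  φ_Δ : ∀ i j z, Algebra.TensorProduct.productMap (φ i) (φ j) (Δ z) = φ (i + j) z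

namespace Model

variable {R p B} (M : Model R p B)

theorem sep₂ [Module.Free R B] [Module.Finite R B] (z : B ⊗[R] B)
    (h : ∀ i j, Algebra.TensorProduct.productMap (M.φ i) (M.φ j) z = 0) : z = 0 := by
  classical
  let e := Module.Free.chooseBasis R B
  let E := e.tensorProduct e
  have hz : z = ∑ ab, E.repr z ab • E ab := (E.sum_repr z).symm
  have h1 : ∀ i b, ∑ a, E.repr z (a, b) * M.φ i (e a) = 0 := by
    intro i
    have h2 : ∑ b, (∑ a, E.repr z (a, b) * M.φ i (e a)) • e b = 0 := by
      refine M.sep _ fun j => ?_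
      have h3 := h i j
      rw [hz, map_sum, Fintype.sum_prod_type] at h3
      rw [map_sum, ← h3, Finset.sum_comm]
      refine Finset.sum_congr rfl fun b _ => ?_
      rw [map_smul, smul_eq_mul, Finset.sum_mul]
      refine Finset.sum_congr rfl fun a _ => ?_
      simp only [E, map_smul, Module.Basis.tensorProduct_apply,
        Algebra.TensorProduct.productMap_apply_tmul, smul_eq_mul]
      ring
    exact fun b => Fintype.linearIndependent_iff.mp e.linearIndependent _ h2 b
  have h4 : ∀ b a, E.repr z (a, b) = 0 := by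
    intro b
    have h5 : ∑ a, E.repr z (a, b) • e a = 0 := by
      refine M.sep _ fun i => ?_
      rw [map_sum, ← h1 i b]
      simp only [map_smul, smul_eq_mul]
    exact Fintype.linearIndependent_iff.mp e.linearIndependent _ h5
  rw [hz]
  exact Finset.sum_eq_zero fun ab _ => by rw [show E.repr z ab = 0 from h4 ab.2 ab.1, zero_smul]

include M in
theorem finrank_eq [IsDomain R] [NeZero p] [Module.Free R B] [Module.Finite R B] :
    Module.finrank R B = p := by
  classical
  let J : B →ₗ[R] (ZMod p → R) := LinearMap.pi fun i => (M.φ i).toLinearMap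
  have hJ : Function.Injective J := (injective_iff_map_eq_zero J).mpr fun z hz =>
    M.sep z fun i => congrFun hz i
  let I : (ZMod p → R) →ₗ[R] B := Fintype.linearCombination R M.b
  have hI : Function.Injective I := (injective_iff_map_eq_zero I).mpr fun v hv => by
    funext j
    have h := congrArg (M.φ j) hv
    simp only [I, Fintype.linearCombination_apply, map_sum, map_smul, M.φ_b, smul_eq_mul, mul_ite,
      mul_zero, Finset.sum_ite_eq, Finset.mem_univ, if_true, map_zero] at h
    exact (mul_eq_zero.mp h).resolve_right M.c_ne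
  have h1 := LinearMap.finrank_le_finrank_of_injective hJ
  have h2 := LinearMap.finrank_le_finrank_of_injective hI
  rw [Module.finrank_fintype_fun_eq_card, ZMod.card] at h1 h2
  omega

theorem smul_Δ [Module.Free R B] [Module.Finite R B] [NeZero p] (z : B) :
    (M.c * M.c) • M.Δ z = ∑ i, ∑ j, M.φ (i + j) z • (M.b i ⊗ₜ[R] M.b j) := by
  classical
  rw [← sub_eq_zero]
  refine M.sep₂ _ fun i j => ?_
  simp only [map_sub, map_smul, map_sum, M.φ_Δ, Algebra.TensorProduct.productMap_apply_tmul, M.φ_b,
    smul_eq_mul]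
  rw [Finset.sum_eq_single i, Finset.sum_eq_single j]
  · simp; ring
  · intro x _ hx; simp [Ne.symm hx]
  · simp
  · intro x _ hx; simp [Ne.symm hx]
  · simp

section char

variable [IsDomain R] [IsIntegrallyClosed R] [Module.Free R B] [Module.Finite R B] [hp : Fact p.Prime]
  {ζ : R}

theorem z_add (hζ : IsPrimitiveRoot ζ p) (i j : ZMod p) : ζ ^ (i + j).val = ζ ^ i.val * ζ ^ j.val := by
  rw [← pow_add, ZMod.val_add]
  conv_rhs => rw [← Nat.mod_add_div (i.val + j.val) p, pow_add, pow_mul, hζ.pow_eq_one, one_pow, mul_one]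

/-- The character of the generic fibre extends. -/
theorem exists_char (hζ : IsPrimitiveRoot ζ p) : ∃ χ : B, ∀ i, M.φ i χ = ζ ^ i.val := by
  classical
  let K := FractionRing R
  let a : R →+* K := algebraMap R K
  let Λ : (B →ₗ[R] R) →ₗ[R] K :=
    { toFun := fun h => (∑ i, a (h (M.b i) * ζ ^ i.val)) / a M.c
      map_add' := fun h h' => by
        simp only [LinearMap.add_apply, add_mul, map_add, Finset.sum_add_distrib, add_div]
      map_smul' := fun r h => by
        simp only [LinearMap.smul_apply, smul_eq_mul, mul_assoc, map_mul, ← Finset.mul_sum, RingHom.id_apply,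
          Algebra.smul_def, mul_div_assoc]
        rfl }
  have hac : a M.c ≠ 0 := fun h => M.c_ne (IsFractionRing.injective R K (h.trans (map_zero a).symm))
  have hmul : ∀ h h' : B →ₗ[R] R, ∃ g : B →ₗ[R] R, Λ g = Λ h * Λ h' := by
    intro h h'
    let g : B →ₗ[R] R :=
      (TensorProduct.lid R R).toLinearMap ∘ₗ TensorProduct.map h h' ∘ₗ M.Δ.toLinearMap
    refine ⟨g, ?_⟩
    have key : ∀ m, M.c * g (M.b m) = ∑ i, h (M.b i) * h' (M.b (m - i)) := by
      intro m
      refine mul_left_cancel₀ M.c_ne ?_
      rw [← mul_assoc]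
      have e := congrArg (fun w => TensorProduct.lid R R (TensorProduct.map h h' w)) (M.smul_Δ (M.b m))
      simp only [map_smul, map_sum, TensorProduct.map_tmul, TensorProduct.lid_tmul, smul_eq_mul, M.φ_b] at e
      refine e.trans ?_
      rw [Finset.mul_sum]
      refine Finset.sum_congr rfl fun i _ => ?_
      rw [Finset.sum_eq_single (m - i)]
      · rw [if_pos (add_sub_cancel i m)]
      · intro x _ hx
        rw [if_neg fun he => hx (eq_sub_of_add_eq' he), zero_mul]
      · simp
    show (∑ m, a (g (M.b m) * ζ ^ m.val)) / a M.c =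
      (∑ i, a (h (M.b i) * ζ ^ i.val)) / a M.c * ((∑ j, a (h' (M.b j) * ζ ^ j.val)) / a M.c)
    rw [div_mul_div_comm, eq_div_iff (mul_ne_zero hac hac), div_mul_eq_mul_div, div_eq_iff hac]
    simp only [← map_sum, ← map_mul]
    congr 1
    calc (∑ m, g (M.b m) * ζ ^ m.val) * (M.c * M.c)
        = (∑ m, M.c * g (M.b m) * ζ ^ m.val) * M.c := by
          rw [Finset.sum_mul, Finset.sum_mul]
          exact Finset.sum_congr rfl fun m _ => by ring
      _ = (∑ m, ∑ i, h (M.b i) * ζ ^ i.val * (h' (M.b (m - i)) * ζ ^ (m - i).val)) * M.c := by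
          congr 1
          refine Finset.sum_congr rfl fun m _ => ?_
          rw [key, Finset.sum_mul]
          refine Finset.sum_congr rfl fun i _ => ?_
          conv_lhs => rw [show m.val = (i + (m - i)).val by rw [add_sub_cancel], z_add hζ]
          ring
      _ = _ := by
          congr 1
          rw [Finset.sum_comm, Finset.sum_mul]
          refine Finset.sum_congr rfl fun i _ => ?_
          rw [← Finset.mul_sum]
          congr 1
          exact Fintype.sum_equiv (Equiv.subRight i) _ _ fun m => rfl
  have hφ : ∀ j, Λ (M.φ j).toLinearMap = a (ζ ^ j.val) := by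
    intro j
    show (∑ i, a (M.φ j (M.b i) * ζ ^ i.val)) / a M.c = _
    rw [Finset.sum_eq_single j (fun x _ hx => by simp [M.φ_b, Ne.symm hx]) (by simp), M.φ_b, if_pos rfl,
      map_mul, mul_comm, mul_div_assoc, div_self hac, mul_one]
  let S : Subalgebra R K := (LinearMap.range Λ).toSubalgebra
    ⟨(M.φ 0).toLinearMap, by rw [hφ 0, ZMod.val_zero, pow_zero, map_one]⟩
    (by rintro _ _ ⟨h, rfl⟩ ⟨h', rfl⟩; exact hmul h h')
  have hS : Subalgebra.toSubmodule S = LinearMap.range Λ := Submodule.toSubalgebra_toSubmodule _ _ _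
  haveI : Module.Free R (B →ₗ[R] R) := inferInstance
  have hfg : (Subalgebra.toSubmodule S).FG := by
    rw [hS, ← Submodule.map_top]
    exact Module.Finite.fg_top.map Λ
  have hint : ∀ h : B →ₗ[R] R, ∃ r : R, a r = Λ h := fun h =>
    IsIntegrallyClosed.isIntegral_iff.mp
      (IsIntegral.of_mem_of_fg S hfg (Λ h) (show Λ h ∈ S from ⟨h, rfl⟩))
  choose L hL using hint
  let L' : Module.Dual R (Module.Dual R B) :=
    { toFun := L
      map_add' := fun h h' => IsFractionRing.injective R K (by
        show a _ = a _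
        rw [map_add, hL, hL, hL, map_add])
      map_smul' := fun r h => IsFractionRing.injective R K (by
        show a _ = a _
        rw [RingHom.id_apply, smul_eq_mul, map_mul, hL, hL, map_smul, Algebra.smul_def]) }
  refine ⟨(Module.evalEquiv R B).symm L', fun i => ?_⟩
  have h := Module.apply_evalEquiv_symm_apply R B (M.φ i).toLinearMap L'
  exact h.trans (IsFractionRing.injective R K ((hL _).trans (hφ i)))

end char

section classify

variable [IsDomain R] [IsDiscreteValuationRing R] [Module.Free R B] [Module.Finite R B]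
  [hp : Fact p.Prime] [CharP (IsLocalRing.ResidueField R) p] {ζ : R}

theorem residue_zeta (hζ : IsPrimitiveRoot ζ p) : IsLocalRing.residue R ζ = 1 := by
  haveI := CharP.exists' (IsLocalRing.ResidueField R)
  have h : (IsLocalRing.residue R ζ - 1) ^ p = 0 := by
    rw [sub_pow_char, ← map_pow, hζ.pow_eq_one, map_one, one_pow, sub_self]
  exact sub_eq_zero.mp (eq_zero_of_pow_eq_zero h)

/-- A scaled character with maximal denominator. -/
theorem exists_maximal (hζ : IsPrimitiveRoot ζ p) :
    ∃ (lam : R) (τ : B), lam ≠ 0 ∧ (∀ i, lam * M.φ i τ = ζ ^ i.val - 1) ∧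
      ∀ w : B, ∀ x ∈ IsLocalRing.maximalIdeal R, τ ≠ x • w := by
  classical
  haveI : Fact (1 < p) := ⟨hp.out.one_lt⟩
  obtain ⟨χ, hχ⟩ := M.exists_char hζ
  let Q : Set R := {q | ∃ (l : R) (τ : B), (∀ i, l * M.φ i τ = ζ ^ i.val - 1) ∧ l * q = ζ - 1}
  have hζ1 : ζ - 1 ≠ 0 := sub_ne_zero.mpr (hζ.ne_one hp.out.one_lt)
  obtain ⟨q, ⟨l, τ, hτ, hlq⟩, hmin⟩ :=
    (wellFounded_dvdNotUnit (α := R)).has_min Q
      ⟨ζ - 1, 1, χ - 1, fun i => by rw [one_mul, map_sub, map_one, hχ], one_mul _⟩
  have hl : l ≠ 0 := fun h => hζ1 (by rw [← hlq, h, zero_mul])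
  refine ⟨l, τ, hl, hτ, fun w x hx he => ?_⟩
  subst he
  have hw : ∀ i, (l * x) * M.φ i w = ζ ^ i.val - 1 := fun i => by
    rw [← hτ i, map_smul, smul_eq_mul, mul_assoc]
  have h1 := hw 1
  rw [ZMod.val_one, pow_one] at h1
  refine hmin (M.φ 1 w) ⟨l * x, w, hw, h1⟩ ⟨?_, x, hx, ?_⟩
  · exact fun h => hζ1 (by rw [← h1, h, mul_zero])
  · refine mul_left_cancel₀ hl ?_
    rw [hlq, ← h1]; ring

theorem exists_poly {lam : R} {τ : B} (hlam : lam ≠ 0) (hζ : IsPrimitiveRoot ζ p)
    (hτ : ∀ i, lam * M.φ i τ = ζ ^ i.val - 1) :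
    C (lam ^ p) * ∏ i : ZMod p, (X - C (M.φ i τ)) = (1 + C lam * X) ^ p - 1 := by
  classical
  have hinj : Function.Injective fun i : ZMod p => ζ ^ i.val := fun i j h =>
    ZMod.val_injective p (hζ.pow_inj i.val_lt j.val_lt h)
  have himg : (Finset.univ.image fun i : ZMod p => ζ ^ i.val) = nthRootsFinset p (1 : R) := by
    refine Finset.eq_of_subset_of_card_le ?_ ?_
    · intro x hx
      obtain ⟨i, -, rfl⟩ := Finset.mem_image.mp hx
      rw [mem_nthRootsFinset hp.out.pos, ← pow_mul, mul_comm, pow_mul, hζ.pow_eq_one, one_pow]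
    · rw [hζ.card_nthRootsFinset, Finset.card_image_of_injective _ hinj, Finset.card_univ, ZMod.card]
  have h := congrArg (fun q : R[X] => q.comp (1 + C lam * X)) (X_pow_sub_one_eq_prod hp.out.pos hζ)
  simp only [sub_comp, pow_comp, X_comp, one_comp, prod_comp, C_comp] at h
  rw [h, ← himg, Finset.prod_image fun i _ j _ h => hinj h, map_pow,
    show (C lam) ^ p = ∏ _i : ZMod p, C lam by rw [Finset.prod_const, Finset.card_univ, ZMod.card],
    ← Finset.prod_mul_distrib]
  refine Finset.prod_congr rfl fun i _ => ?_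
  rw [mul_sub, ← map_mul, hτ, map_sub, map_one]
  ring

theorem classify (hζ : IsPrimitiveRoot ζ p) :
    ∃ (lam : R) (h : SekSuwa.DivCond lam p) (τ : B), lam ≠ 0 ∧
      (∀ i, lam * M.φ i τ = ζ ^ i.val - 1) ∧
      ∃ f : SekSuwa.AK R lam p h ≃ₐ[R] B, f SekSuwa.AK.t = τ := by
  classical
  haveI : Fact (1 < p) := ⟨hp.out.one_lt⟩
  obtain ⟨lam, τ, hlam, hτ, hmax⟩ := M.exists_maximal hζ
  let r : ZMod p → R := fun i => M.φ i τ
  let P : R[X] := ∏ i : ZMod p, (X - C (r i))
  have hP := M.exists_poly hlam hζ hτ
  let h : SekSuwa.DivCond lam p := ⟨mem_nonZeroDivisors_of_ne_zero hlam, P, hP⟩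
  have hPe : P = SekSuwa.psiPoly lam p h := SekSuwa.psiPoly_unique h hP
  have hPτ : aeval τ (SekSuwa.psiPoly lam p h) = 0 := by
    rw [← hPe]
    refine M.sep _ fun i => ?_
    rw [← aeval_algHom_apply, map_prod]
    exact Finset.prod_eq_zero (Finset.mem_univ i) (by simp [r])
  have hu : (1 + lam • τ) * (1 + lam • τ) ^ (p - 1) = 1 := by
    rw [← pow_succ', Nat.sub_add_cancel hp.out.pos]
    have e := SekSuwa.aeval_psiPoly h τ
    rw [hPτ, mul_zero] at e
    rw [Algebra.smul_def]
    linear_combination -e
  let fA := SekSuwa.A.lift R lam τ ((1 + lam • τ) ^ (p - 1)) hu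
  have hfA : fA (SekSuwa.kerGen lam p h) = 0 := by
    show fA (aeval SekSuwa.A.t (SekSuwa.psiPoly lam p h)) = 0
    rw [← aeval_algHom_apply, SekSuwa.A.lift_t, hPτ]
  let f : SekSuwa.AK R lam p h →ₐ[R] B :=
    Ideal.Quotient.liftₐ (SekSuwa.kerIdeal lam p h) fA (fun a ha => by
      obtain ⟨d, rfl⟩ := Ideal.mem_span_singleton'.mp ha
      rw [map_mul, hfA, mul_zero])
  have hft : f SekSuwa.AK.t = τ := SekSuwa.A.lift_t _ _ hu
  -- the powers of τ generate
  let k := IsLocalRing.ResidueField R
  let ρ : R →+* k := IsLocalRing.residue R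
  let T : k ⊗[R] B := 1 ⊗ₜ τ
  have hind : LinearIndependent k fun j : Fin p => T ^ (j : ℕ) := by
    rw [Fintype.linearIndependent_iff]
    intro v hv
    let φb : ZMod p → (k ⊗[R] B →ₐ[k] k) := fun i =>
      Algebra.TensorProduct.lift (AlgHom.id k k) ((Algebra.ofId R k).comp (M.φ i)) fun _ _ => Commute.all _ _
    have hφb : ∀ i, φb i T = ρ (r i) := fun i => by
      simp only [φb, T, Algebra.TensorProduct.lift_tmul, map_one, one_mul, AlgHom.comp_apply]
      rfl
    by_cases hr1 : ρ (r 1) = 0
    · -- the residue group law is unipotent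
      have hgeom : ∀ i : ZMod p, ρ (r i) = 0 := fun i => by
        have e : r i = r 1 * ∑ j ∈ Finset.range i.val, ζ ^ j := by
          refine mul_left_cancel₀ hlam ?_
          rw [← mul_assoc, hτ 1, hτ i, ZMod.val_one, pow_one, mul_geom_sum]
        rw [e, map_mul, hr1, zero_mul]
      have hTp : T ^ p = 0 := by
        have e : aeval T P = 0 := by
          have := congrArg (Algebra.TensorProduct.includeRight : B →ₐ[R] k ⊗[R] B) hPτ
          rwa [map_zero, ← aeval_algHom_apply, ← hPe] at this
        rw [← e, map_prod]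
        simp only [map_sub, aeval_X, aeval_C]
        have e2 : ∀ i : ZMod p, algebraMap R (k ⊗[R] B) (r i) = 0 := fun i => by
          rw [IsScalarTower.algebraMap_apply R k (k ⊗[R] B)]
          rw [show algebraMap R k (r i) = 0 from hgeom i, map_zero]
        simp only [e2, sub_zero, Finset.prod_const, Finset.card_univ, ZMod.card]
      have hT : T ≠ 0 := by
        intro h0
        let e := Module.Free.chooseBasis R B
        let eb := e.baseChange k
        have hc : ∀ a, e.repr τ a ∈ IsLocalRing.maximalIdeal R := fun a => by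
          have := congrArg (fun w => eb.repr w a) h0
          simp only [T, eb, Module.Basis.baseChange_repr_tmul, map_zero, Finsupp.coe_zero, Pi.zero_apply] at this
          rw [← IsLocalRing.residue_eq_zero_iff]
          rwa [← Algebra.algebraMap_eq_smul_one] at this
        obtain ⟨ϖ, hϖ⟩ := IsDiscreteValuationRing.exists_irreducible R
        have hc' : ∀ a, ∃ x, e.repr τ a = ϖ * x := fun a => by
          have := hc a
          rwa [hϖ.maximalIdeal_eq, Ideal.mem_span_singleton] at this
        choose x hx using hc'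
        refine hmax (∑ a, x a • e a) ϖ (by
          rw [hϖ.maximalIdeal_eq]; exact Ideal.mem_span_singleton_self _) ?_
        rw [Finset.smul_sum]
        conv_lhs => rw [← e.sum_repr τ]
        exact Finset.sum_congr rfl fun a _ => by rw [smul_smul, ← hx]
      let m := Nat.find (⟨p, hTp⟩ : ∃ m, T ^ m = 0)
      have hm : T ^ m = 0 := Nat.find_spec (⟨p, hTp⟩ : ∃ m, T ^ m = 0)
      have hm' : ∀ n < m, T ^ n ≠ 0 := fun n hn => Nat.find_min (⟨p, hTp⟩ : ∃ m, T ^ m = 0) hn
      haveI : Nontrivial (k ⊗[R] B) := nontrivial_of_ne T 0 hT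
      have hm2 : 2 ≤ m := by
        by_contra h'
        rcases (by omega : m = 0 ∨ m = 1) with e | e <;> rw [e] at hm
        · rw [pow_zero] at hm; exact one_ne_zero hm
        · rw [pow_one] at hm; exact hT hm
      have hmp : m = p := by
        refine le_antisymm (Nat.find_min' _ hTp) (le_of_not_gt fun hlt => ?_)
        let iL : k ⊗[R] B →ₐ[k] k ⊗[R] (B ⊗[R] B) := Algebra.TensorProduct.map (AlgHom.id k k) Algebra.TensorProduct.includeLeft
        let iR : k ⊗[R] B →ₐ[k] k ⊗[R] (B ⊗[R] B) := Algebra.TensorProduct.map (AlgHom.id k k) Algebra.TensorProduct.includeRight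
        let dk : k ⊗[R] B →ₐ[k] k ⊗[R] (B ⊗[R] B) := Algebra.TensorProduct.map (AlgHom.id k k) M.Δ
        let l := algebraMap R (k ⊗[R] (B ⊗[R] B)) lam
        have hΔτ : M.Δ τ = τ ⊗ₜ[R] 1 + 1 ⊗ₜ[R] τ + lam • (τ ⊗ₜ[R] τ) := by
          rw [← sub_eq_zero]
          refine M.sep₂ _ fun i j => ?_
          simp only [map_sub, map_add, map_smul, M.φ_Δ, Algebra.TensorProduct.productMap_apply_tmul,
            map_one, mul_one, one_mul, smul_eq_mul]
          refine mul_left_cancel₀ hlam ?_
          rw [mul_zero]
          linear_combination hτ (i + j) + z_add hζ i j - (1 + lam * M.φ j τ) * hτ i - ζ ^ i.val * hτ j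
        have hd : dk T = iL T + iR T + l * (iL T * iR T) := by
          simp only [dk, iL, iR, T, Algebra.TensorProduct.map_tmul, map_one, hΔτ, TensorProduct.tmul_add,
            TensorProduct.tmul_smul, Algebra.TensorProduct.includeLeft_apply,
            Algebra.TensorProduct.includeRight_apply, Algebra.TensorProduct.tmul_mul_tmul, mul_one, one_mul,
            l, Algebra.smul_def]
          simp only [← Algebra.smul_def, TensorProduct.tmul_smul]
        have ha : iL T ^ m = 0 := by rw [← map_pow, hm, map_zero]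
        have hb : iR T ^ m = 0 := by rw [← map_pow, hm, map_zero]
        have key : (m : k ⊗[R] (B ⊗[R] B)) * (iL T ^ (m - 1) * iR T ^ (m - 1)) = 0 := by
          have h0 : (iR T * (1 + l * iL T) + iL T) ^ m * iR T ^ (m - 2) = 0 := by
            rw [show iR T * (1 + l * iL T) + iL T = iL T + iR T + l * (iL T * iR T) by ring, ← hd,
              ← map_pow, hm, map_zero, zero_mul]
          rw [add_pow, Finset.sum_mul, Finset.sum_eq_single 1] at h0
          · rw [pow_one, Nat.choose_one_right] at h0
            have hb2 : iR T * iR T ^ (m - 2) = iR T ^ (m - 1) := by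
              rw [← pow_succ']; congr 1; omega
            have ha2 : (1 + l * iL T) * iL T ^ (m - 1) = iL T ^ (m - 1) := by
              have : iL T * iL T ^ (m - 1) = 0 := by
                rw [← pow_succ', show m - 1 + 1 = m by omega, ha]
              linear_combination l * this
            calc (m : k ⊗[R] (B ⊗[R] B)) * (iL T ^ (m - 1) * iR T ^ (m - 1))
                = (iR T * iR T ^ (m - 2)) * ((1 + l * iL T) * iL T ^ (m - 1)) * m := by
                  rw [hb2, ha2]; ring
              _ = 0 := by rw [← h0]; ring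
          · intro n hn hn1
            rcases Nat.eq_zero_or_pos n with rfl | hn0
            · rw [pow_zero, one_mul, Nat.sub_zero, ha, zero_mul, zero_mul]
            · have : iR T ^ n * iR T ^ (m - 2) = 0 := by
                rw [← pow_add, show n + (m - 2) = m + (n - 2) by omega, pow_add, hb, zero_mul]
              calc _ = (iR T ^ n * iR T ^ (m - 2)) * ((1 + l * iL T) ^ n * iL T ^ (m - n) * m.choose n) := by
                    rw [mul_pow]; ring
                _ = 0 := by rw [this, zero_mul]
          · intro h'; exact absurd (Finset.mem_range.mpr (by omega)) h'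
        have hmk : IsUnit (m : k ⊗[R] (B ⊗[R] B)) := by
          have : IsUnit (m : k) := isUnit_iff_ne_zero.mpr fun h0 => by
            have := Nat.le_of_dvd (by omega) ((CharP.cast_eq_zero_iff k p m).mp h0)
            omega
          simpa using this.map (algebraMap k (k ⊗[R] (B ⊗[R] B)))
        have key2 := (hmk.mul_right_eq_zero).mp key
        -- evaluate a coordinate
        let e := Module.Free.chooseBasis R B
        obtain ⟨a₀, ha₀⟩ : ∃ a, ρ (e.repr (τ ^ (m - 1)) a) ≠ 0 := by
          by_contra hall
          push Not at hall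
          refine hm' (m - 1) (by omega) ((e.baseChange k).repr.injective (Finsupp.ext fun a => ?_))
          rw [show T ^ (m - 1) = (1 : k) ⊗ₜ[R] (τ ^ (m - 1)) by
            rw [Algebra.TensorProduct.tmul_pow, one_pow], Module.Basis.baseChange_repr_tmul, map_zero,
            Finsupp.coe_zero, Pi.zero_apply, ← Algebra.algebraMap_eq_smul_one]
          exact hall a
        let L2 : B ⊗[R] B →ₗ[R] R :=
          (TensorProduct.lid R R).toLinearMap ∘ₗ TensorProduct.map (e.coord a₀) (e.coord a₀)
        have key3 := congrArg (LinearMap.baseChange k L2) key2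
        rw [← map_pow, ← map_pow, show T ^ (m - 1) = (1 : k) ⊗ₜ[R] (τ ^ (m - 1)) by
            rw [Algebra.TensorProduct.tmul_pow, one_pow]] at key3
        simp only [iL, iR, Algebra.TensorProduct.map_tmul, map_one, Algebra.TensorProduct.includeLeft_apply,
          Algebra.TensorProduct.includeRight_apply, Algebra.TensorProduct.tmul_mul_tmul, mul_one, one_mul,
          LinearMap.baseChange_tmul, map_zero] at key3
        have key4 := congrArg (TensorProduct.rid R k) key3
        simp only [TensorProduct.rid_tmul, map_zero, L2, LinearMap.comp_apply, TensorProduct.map_tmul,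
          LinearEquiv.coe_coe, TensorProduct.lid_tmul, Module.Basis.coord_apply, smul_eq_mul] at key4
        rw [← Algebra.algebraMap_eq_smul_one, map_mul] at key4
        exact ha₀ ((mul_self_eq_zero).mp key4)
      by_contra hne
      push Not at hne
      have hne' : (Finset.univ.filter fun i : Fin p => v i ≠ 0).Nonempty := by
        obtain ⟨i, hi⟩ := hne
        exact ⟨i, by simp [hi]⟩
      obtain ⟨j₀, hj₀, hjmin⟩ := Finset.exists_min_image _ (fun i : Fin p => (i : ℕ)) hne'
      simp only [Finset.mem_filter, Finset.mem_univ, true_and] at hj₀ hjmin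
      have e := congrArg (fun w => w * T ^ (p - 1 - (j₀ : ℕ))) hv
      rw [zero_mul, Finset.sum_mul, Finset.sum_eq_single j₀] at e
      · rw [smul_mul_assoc, ← pow_add, show (j₀ : ℕ) + (p - 1 - j₀) = p - 1 by omega] at e
        exact (smul_eq_zero.mp e).elim hj₀ (hm' (p - 1) (by omega))
      · intro i _ hi
        rcases lt_or_gt_of_ne (fun h' => hi (Fin.ext h') : (i : ℕ) ≠ j₀) with hlt | hgt
        · have : v i = 0 := by
            by_contra hvi
            exact absurd (hjmin i hvi) (by omega)
          rw [this, zero_smul, zero_mul]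
        · rw [smul_mul_assoc, ← pow_add, show (i : ℕ) + (p - 1 - (j₀ : ℕ)) = p + ((i : ℕ) - j₀ - 1) by omega,
            pow_add, hTp, zero_mul, smul_zero]
      · simp
    · -- the residue group law is constant
      have hgeom : ∀ i : ZMod p, ρ (r i) = ρ (r 1) * (i.val : k) := fun i => by
        have e : r i = r 1 * ∑ j ∈ Finset.range i.val, ζ ^ j := by
          refine mul_left_cancel₀ hlam ?_
          rw [← mul_assoc, hτ 1, hτ i, ZMod.val_one, pow_one, mul_geom_sum]
        rw [e, map_mul, map_sum]
        simp only [ρ, map_pow, residue_zeta hζ, one_pow, Finset.sum_const, Finset.card_range, nsmul_eq_mul, mul_one]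
      have hinj : Function.Injective fun j : Fin p => ρ (r ((j : ℕ) : ZMod p)) := by
        intro i j hij
        simp only at hij
        rw [hgeom ((i : ℕ) : ZMod p), hgeom ((j : ℕ) : ZMod p)] at hij
        simp only [ZMod.val_natCast, Nat.mod_eq_of_lt i.2, Nat.mod_eq_of_lt j.2] at hij
        exact Fin.ext (CharP.natCast_injOn_Iio k p i.2 j.2 (mul_left_cancel₀ hr1 hij))
      refine congrFun (Matrix.eq_zero_of_forall_index_sum_mul_pow_eq_zero hinj fun j => ?_)
      have e := congrArg (φb ((j : ℕ) : ZMod p)) hv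
      simp only [map_sum, map_smul, map_pow, hφb, map_zero, smul_eq_mul] at e
      exact e
  have hrank : Module.finrank R B = p := M.finrank_eq
  have hsurj : Function.Surjective f := by
    rw [← AlgHom.range_eq_top, ← Algebra.toSubmodule_eq_top]
    have hfr : Fintype.card (Fin p) = Module.finrank k (k ⊗[R] B) := by
      rw [Fintype.card_fin, Module.finrank_baseChange, hrank]
    have hspan := hind.span_eq_top_of_card_eq_finrank hfr
    rw [← IsLocalRing.map_tensorProduct_mk_eq_top]
    refine top_le_iff.mp fun w hw0 => ?_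
    clear hw0
    have hw : w ∈ Submodule.span k (Set.range fun j : Fin p => T ^ (j : ℕ)) := hspan ▸ Submodule.mem_top
    induction hw using Submodule.span_induction with
    | mem w hw =>
      obtain ⟨j, rfl⟩ := hw
      exact ⟨τ ^ (j : ℕ), ⟨SekSuwa.AK.t ^ (j : ℕ), by simp [map_pow, hft]⟩, by
        simp [T, Algebra.TensorProduct.tmul_pow]⟩
    | zero => exact zero_mem _
    | add _ _ _ _ h1 h2 => exact add_mem h1 h2
    | smul c w _ hw =>
      obtain ⟨c, rfl⟩ := IsLocalRing.residue_surjective c
      rw [show IsLocalRing.residue R c • w = c • w from (algebraMap_smul k c w)]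
      exact Submodule.smul_mem _ c hw
  have hbij : Function.Bijective f := by
    refine ⟨?_, hsurj⟩
    obtain ⟨bA, -⟩ := exists_basis h hp.out.pos
    let bB := Module.finBasisOfFinrankEq R B hrank
    let E : B ≃ₗ[R] SekSuwa.AK R lam p h := bB.equiv bA (Equiv.refl _)
    haveI : Module.Finite R (SekSuwa.AK R lam p h) := Module.Finite.of_basis bA
    have h1 := OrzechProperty.injective_of_surjective_endomorphism (E.toLinearMap ∘ₗ f.toLinearMap)
      (E.surjective.comp hsurj)
    exact Function.Injective.of_comp (f := E) (h1 : Function.Injective (⇑E ∘ ⇑f))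
  exact ⟨lam, h, τ, hlam, hτ, AlgEquiv.ofBijective f hbij, hft⟩

end classify

end Model

end Groth.Agent.H27SekSuwa
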