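/-
Finite flat group schemes over a discrete valuation ring with constant generic fibre `ℤ/p` as orders.
-/
import Groth.Agent.H27SekSuwa.Order
import Groth.Agent.H27SekSuwa.Action
import Groth.Agent.H21Diag.Points
import Groth.Prelude.Def_TwC
import Mathlib.AlgebraicGeometry.Morphisms.Finite
import Mathlib.AlgebraicGeometry.Morphisms.Flat
import Mathlib.AlgebraicGeometry.Morphisms.IsIso
import Mathlib.AlgebraicGeometry.Limits
import Mathlib.RingTheory.LocalRing.Module

set_option autoImplicit false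
set_option linter.style.haveILetI false
set_option backward.isDefEq.respectTransparency false
set_option backward.isDefEq.respectTransparency.types false

universe u

open CategoryTheory CategoryTheory.Limits AlgebraicGeometry CommRingCat
open MonoidalCategory CartesianMonoidalCategory MonObj TensorProduct

namespace Groth.Agent.H27SekSuwa

variable {R : Type u} [CommRing R]

theorem symm_comp {A B C : Type u} [CommRing A] [CommRing B] [CommRing C] [Algebra R A] [Algebra R B]
    [Algebra R C] (a : B →ₐ[R] A) (b : C →ₐ[R] B) :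
    (homEquiv (R := R)).symm a ≫ (homEquiv (R := R)).symm b = (homEquiv (R := R)).symm (a.comp b) := by
  apply Over.OverMorphism.ext
  simp only [Over.comp_left, eq_spec_map, ← Spec.map_comp]
  rfl

/-- An affine object of `Over (Spec R)` is a spectrum of a free algebra. -/
theorem exists_algebra [IsLocalRing R] [IsNoetherianRing R] (G : Over (Spec (CommRingCat.of R))) [IsFinite G.hom]
    [Flat G.hom] :
    ∃ (B : Type u) (_ : CommRing B) (_ : Algebra R B) (_ : Module.Finite R B) (_ : Module.Free R B),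
      Nonempty (SR (R := R) B ≅ G) := by
  haveI : IsAffine G.left := isAffine_of_isAffineHom G.hom
  let g : CommRingCat.of R ⟶ Γ(G.left, ⊤) := (Scheme.ΓSpecIso _).inv ≫ G.hom.appTop
  letI : Algebra R Γ(G.left, ⊤) := g.hom.toAlgebra
  have hw : G.left.isoSpec.inv ≫ G.hom = Spec.map g := by
    rw [Spec.map_comp, ← Scheme.isoSpec_Spec_inv, Scheme.isoSpec_inv_naturality]
  have hfin : IsFinite (Spec.map g) := hw ▸ inferInstance
  have hflat : Flat (Spec.map g) := hw ▸ inferInstance
  haveI : Module.Finite R Γ(G.left, ⊤) := IsFinite.SpecMap_iff g |>.mp hfin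
  haveI : Module.Flat R Γ(G.left, ⊤) := Flat.SpecMap_iff.mp hflat
  refine ⟨Γ(G.left, ⊤), inferInstance, inferInstance, inferInstance, Module.free_of_flat_of_isLocalRing,
    ⟨Over.isoMk G.left.isoSpec.symm ?_⟩⟩
  exact hw

/-- `sigmaSpec` is an isomorphism for a small finite index type. -/
theorem isIso_sigmaSpec {σ : Type} [Finite σ] (R : σ → CommRingCat.{u}) : IsIso (sigmaSpec R) := by
  haveI hU : IsIso (sigmaSpec fun j : ULift.{u} σ => R j.down) := by
    haveI : Finite (ULift.{u} σ) := inferInstance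
    infer_instance
  let m : CommRingCat.of (∀ i, R i) ⟶ CommRingCat.of (∀ j : ULift.{u} σ, R j.down) :=
    CommRingCat.ofHom (RingHom.pi fun j => Pi.evalRingHom _ j.down)
  haveI : IsIso m := (ConcreteCategory.isIso_iff_bijective m).mpr
    ⟨fun a b h => funext fun i => congrFun h ⟨i⟩, fun v => ⟨fun i => v ⟨i⟩, rfl⟩⟩
  have h : (Sigma.reindex Equiv.ulift (fun i => Spec (R i))).hom ≫ sigmaSpec R =
      sigmaSpec (fun j : ULift.{u} σ => R j.down) ≫ Spec.map m := by
    apply Sigma.hom_ext
    intro j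
    erw [Sigma.ι_reindex_hom_assoc, ι_sigmaSpec, ι_sigmaSpec_assoc]
    erw [← Spec.map_comp]
    rfl
  haveI : IsIso ((Sigma.reindex Equiv.ulift (fun i => Spec (R i))).hom ≫ sigmaSpec R) := by
    rw [h]
    have hS : IsIso (Spec.map m) := isIso_SpecMap_iff.mpr ((ConcreteCategory.isIso_iff_bijective m).mp inferInstance)
    exact @IsIso.comp_isIso _ _ _ _ _ _ _ hU hS
  exact IsIso.of_isIso_comp_left (Sigma.reindex Equiv.ulift (fun i => Spec (R i))).hom (sigmaSpec R)

section

variable [IsDomain R] {B : Type u} [CommRing B] [Algebra R B]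

theorem exists_mul_eq_tmul {K : Type u} [CommRing K] [Algebra R K] [IsFractionRing R K] (w : B ⊗[R] K) :
    ∃ (c : R) (z : B), c ≠ 0 ∧ w * (1 ⊗ₜ algebraMap R K c) = z ⊗ₜ 1 := by
  induction w using TensorProduct.induction_on with
  | zero => exact ⟨1, 0, one_ne_zero, by simp⟩
  | tmul b k =>
    obtain ⟨r, s, rfl⟩ := IsLocalization.exists_mk'_eq (nonZeroDivisors R) k
    refine ⟨s, r • b, nonZeroDivisors.ne_zero s.2, ?_⟩
    rw [Algebra.TensorProduct.tmul_mul_tmul, _root_.mul_one, IsLocalization.mk'_spec, Algebra.algebraMap_eq_smul_one,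
      TensorProduct.tmul_smul, TensorProduct.smul_tmul']
  | add x y hx hy =>
    obtain ⟨c, z, hc, e⟩ := hx
    obtain ⟨d, w, hd, e'⟩ := hy
    refine ⟨c * d, d • z + c • w, mul_ne_zero hc hd, ?_⟩
    rw [TensorProduct.add_tmul, ← TensorProduct.smul_tmul', ← TensorProduct.smul_tmul', ← e, ← e', map_mul, add_mul,
      Algebra.smul_def, Algebra.smul_def,
      show algebraMap R (B ⊗[R] K) d = 1 ⊗ₜ algebraMap R K d from
        ((Algebra.TensorProduct.includeRight : K →ₐ[R] B ⊗[R] K).commutes d).symm,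
      show algebraMap R (B ⊗[R] K) c = 1 ⊗ₜ algebraMap R K c from
        ((Algebra.TensorProduct.includeRight : K →ₐ[R] B ⊗[R] K).commutes c).symm,
      show (1 : B) ⊗ₜ[R] (algebraMap R K c * algebraMap R K d) = (1 ⊗ₜ algebraMap R K c) * (1 ⊗ₜ algebraMap R K d) by
        rw [Algebra.TensorProduct.tmul_mul_tmul, _root_.mul_one]]
    ring

end

/-- An order in the functions on a finite group closed under the comultiplication and the inverse. -/
structure GModel (R : Type u) [CommRing R] (M : Type) [Group M] [DecidableEq M] (B : Type u) [CommRing B]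
    [Algebra R B] where
  /-- the sections -/
  φ : M → (B →ₐ[R] R)
  sep : ∀ z, (∀ i, φ i z = 0) → z = 0
  /-- a denominator -/
  c : R
  c_ne : c ≠ 0
  /-- multiples of the idempotents -/
  b : M → B
  φ_b : ∀ i j, φ j (b i) = if j = i then c else 0
  /-- the comultiplication -/
  Δ : B →ₐ[R] B ⊗[R] B
  φ_Δ : ∀ i j z, Algebra.TensorProduct.productMap (φ i) (φ j) (Δ z) = φ (i * j) z
  /-- the antipode -/
  S : B →ₐ[R] B
  φ_S : ∀ i z, φ i (S z) = φ i⁻¹ z

/-- The comultiplication on the coordinate ring of an affine group. -/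
noncomputable def comulOf (G : Over (Spec (CommRingCat.of R))) [GrpObj G] {B : Type u} [CommRing B] [Algebra R B]
    (iG : SR (R := R) B ≅ G) : B →ₐ[R] B ⊗[R] B :=
  homEquiv
    (CartesianMonoidalCategory.lift ((homEquiv (R := R)).symm (Algebra.TensorProduct.includeLeft : B →ₐ[R] B ⊗[R] B) ≫ iG.hom)
      ((homEquiv (R := R)).symm (Algebra.TensorProduct.includeRight : B →ₐ[R] B ⊗[R] B) ≫ iG.hom) ≫
      μ[G] ≫ iG.inv)

section

variable [IsDomain R] [IsDiscreteValuationRing R] {p : ℕ} [NeZero p]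

theorem exists_gModel (G : Over (Spec (CommRingCat.of R))) [GrpObj G] {B : Type u} [CommRing B] [Algebra R B]
    [Module.Finite R B] [Module.Free R B] (iG : SR (R := R) B ≅ G) {M : Type} [Group M] [Finite M] [DecidableEq M]
    (e : Red.bc (Spec.map (CommRingCat.ofHom (algebraMap R (FractionRing R)))) G ≅
      TwC.const (Spec (CommRingCat.of (FractionRing R))) M)
    (he : TwC.IsConstGrp M (Red.bc (Spec.map (CommRingCat.ofHom (algebraMap R (FractionRing R)))) G) e) :
    ∃ D : GModel R M B, D.Δ = comulOf G iG ∧ D.S = homEquiv (iG.hom ≫ ι[G] ≫ iG.inv) := by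
  classical
  haveI := Fintype.ofFinite M
  let K := FractionRing R
  let s := Spec.map (CommRingCat.ofHom (algebraMap R K))
  let ι₀ : SR (R := R) K ⟶ (Over.map s).obj (𝟙_ (Over (Spec (CommRingCat.of K)))) :=
    Over.homMk (𝟙 _) ((Category.id_comp _).trans (Category.id_comp _))
  let ptG : M → (𝟙_ (Over (Spec (CommRingCat.of K))) ⟶ Red.bc s G) := fun i =>
    TwC.pt _ _ i ≫ e.inv
  let P : M → (SR (R := R) K ⟶ G) := fun i => ι₀ ≫ (H21Diag.bcEquiv s G _).symm (ptG i)
  have hPmul : ∀ i j, P i * P j = P (i * j) := fun i j => by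
    show (ι₀ ≫ _) * (ι₀ ≫ _) = ι₀ ≫ _
    rw [← MonObj.comp_mul, ← H21Diag.bcEquiv_symm_mul]
    congr 2
    exact he _ _
  have hPl : ∀ i, (P i).left = (ptG i).left ≫ pullback.fst G.hom s := fun i => by
    show 𝟙 _ ≫ _ = _
    rw [Category.id_comp]
    have := H21Diag.bcEquiv_left_fst s G _ ((H21Diag.bcEquiv s G _).symm (ptG i))
    rwa [Equiv.apply_symm_apply, eq_comm] at this
  let Φ : M → (B →ₐ[R] K) := fun i => homEquiv (P i ≫ iG.inv)
  -- the generic fibre
  let sB := Spec.map (CommRingCat.ofHom (algebraMap R B))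
  let n₀ : pullback sB s ⟶ pullback G.hom s :=
    pullback.map _ _ _ _ iG.hom.left (𝟙 _) (𝟙 _) ((Category.comp_id _).trans (Over.w iG.hom).symm)
      ((Category.comp_id _).trans (Category.id_comp _).symm)
  haveI : IsIso iG.hom.left := inferInstanceAs (IsIso ((Over.forget _).map iG.hom))
  haveI : IsIso e.inv.left := inferInstanceAs (IsIso ((Over.forget _).map e.inv))
  let n : (∐ fun _ : M => Spec (CommRingCat.of K)) ⟶ Spec (CommRingCat.of (B ⊗[R] K)) :=
    e.inv.left ≫ inv n₀ ≫ (pullbackSpecIso R B K).hom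
  haveI : IsIso n := by
    dsimp only [n]
    infer_instance
  haveI := isIso_sigmaSpec fun _ : M => CommRingCat.of K
  let θ := inv (sigmaSpec fun _ : M => CommRingCat.of K) ≫ n
  let ψ := Spec.preimage θ
  have hψ : Spec.map ψ = θ := Spec.map_preimage θ
  haveI : IsIso ψ := isIso_SpecMap_iff.mp (by rw [hψ]; infer_instance) |> (ConcreteCategory.isIso_iff_bijective ψ).mpr
  have hι : ∀ i, Spec.map (ψ ≫ CommRingCat.ofHom (Pi.evalRingHom _ i)) = Sigma.ι _ i ≫ n := fun i => by
    rw [Spec.map_comp, hψ]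
    simp only [θ]
    rw [← Category.assoc]
    congr 1
    rw [IsIso.comp_inv_eq]
    exact (ι_sigmaSpec (fun _ : M => CommRingCat.of K) i).symm
  have hfst : ∀ i, ψ.hom ((i : B) ⊗ₜ[R] (1 : K)) = fun m => Φ m i := by
    intro b
    funext m
    have h1 : Spec.map (CommRingCat.ofHom (Algebra.TensorProduct.includeLeftRingHom : B →+* B ⊗[R] K) ≫ ψ ≫
        CommRingCat.ofHom (Pi.evalRingHom _ m)) = (P m ≫ iG.inv).left := by
      rw [Spec.map_comp, hι, Over.comp_left, hPl]
      simp only [n, Category.assoc, pullbackSpecIso_hom_fst]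
      have e1 : inv n₀ ≫ pullback.fst sB s = pullback.fst G.hom s ≫ iG.inv.left := by
        rw [IsIso.inv_comp_eq, pullback.lift_fst_assoc, Category.assoc, ← Over.comp_left, iG.hom_inv_id]
        exact (Category.comp_id _).symm
      rw [e1]
      rfl
    have h2 : CommRingCat.ofHom (Φ m).toRingHom = CommRingCat.ofHom
        (Algebra.TensorProduct.includeLeftRingHom : B →+* B ⊗[R] K) ≫ ψ ≫ CommRingCat.ofHom (Pi.evalRingHom _ m) :=
      Spec.map_injective (by rw [h1, ← eq_spec_map, Equiv.symm_apply_apply])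
    exact congr($(h2.symm).hom b)
  have hsnd : ∀ k : K, ψ.hom ((1 : B) ⊗ₜ[R] k) = fun _ => k := by
    intro k
    funext m
    have h1 : Spec.map (CommRingCat.ofHom
        ((Algebra.TensorProduct.includeRight : K →ₐ[R] B ⊗[R] K).toRingHom) ≫ ψ ≫
        CommRingCat.ofHom (Pi.evalRingHom _ m)) = 𝟙 _ := by
      rw [Spec.map_comp, hι]
      simp only [n, Category.assoc]
      erw [pullbackSpecIso_hom_snd]
      have e1 : inv n₀ ≫ pullback.snd sB s = pullback.snd G.hom s := by
        rw [IsIso.inv_comp_eq, pullback.lift_snd, Category.comp_id]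
      rw [e1]
      exact (congrArg (Sigma.ι _ m ≫ ·) (Over.w e.inv)).trans (Sigma.ι_desc _ _)
    have h2 := Spec.map_injective (h1.trans (Spec.map_id _).symm)
    exact congr($(h2).hom k)
  have hinj : Function.Injective ψ.hom := (ConcreteCategory.bijective_of_isIso ψ).1
  have hsurj : Function.Surjective ψ.hom := (ConcreteCategory.bijective_of_isIso ψ).2
  have haR : Function.Injective (algebraMap R K) := IsFractionRing.injective R K
  have hsepK : ∀ z : B, (∀ i, Φ i z = 0) → z = 0 := fun z hz => by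
    have h1 : z ⊗ₜ[R] (1 : K) = 0 := hinj (by
      rw [hfst, map_zero]
      exact funext fun m => hz _)
    refine Algebra.TensorProduct.includeLeft_injective (S := R) (B := K) haR ?_
    rw [map_zero]
    exact h1
  -- integral points
  have hint : ∀ i z, ∃ r : R, algebraMap R K r = Φ i z := fun i z =>
    IsIntegrallyClosed.isIntegral_iff.mp ((Algebra.IsIntegral.isIntegral z).map (Φ i))
  let φ : M → (B →ₐ[R] R) := fun i =>
    (AlgEquiv.ofInjective (Algebra.ofId R K) haR).symm.toAlgHom.comp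
      ((Φ i).codRestrict (Algebra.ofId R K).range fun z => (hint i z).imp fun r hr => hr)
  have hφ : ∀ i z, algebraMap R K (φ i z) = Φ i z := fun i z =>
    congrArg Subtype.val ((AlgEquiv.ofInjective (Algebra.ofId R K) haR).apply_symm_apply _)
  -- idempotents
  have hb : ∀ i : M, ∃ (c : R) (z : B), c ≠ 0 ∧
      ∀ j, Φ j z = if j = i then algebraMap R K c else 0 := by
    intro i
    obtain ⟨w, hw⟩ := hsurj (Pi.single i 1)
    obtain ⟨c, z, hc, hz⟩ := exists_mul_eq_tmul w
    refine ⟨c, z, hc, fun j => ?_⟩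
    have h1 := congrFun ((congrArg ψ.hom hz).symm.trans (map_mul ψ.hom w _)) j
    simp only [hfst, hw, Pi.mul_apply, hsnd, Pi.single_apply] at h1
    rw [h1]
    by_cases hji : j = i
    · rw [if_pos hji, if_pos hji, _root_.one_mul]
    · rw [if_neg hji, if_neg hji, zero_mul]
  choose c b hc hcb using hb
  let C : R := ∏ i, c i
  let d : SR (R := R) (B ⊗[R] B) ⟶ G ⊗ G :=
    CartesianMonoidalCategory.lift ((homEquiv (R := R)).symm (Algebra.TensorProduct.includeLeft : B →ₐ[R] B ⊗[R] B) ≫ iG.hom)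
      ((homEquiv (R := R)).symm (Algebra.TensorProduct.includeRight : B →ₐ[R] B ⊗[R] B) ≫ iG.hom)
  let Δ : B →ₐ[R] B ⊗[R] B := homEquiv (d ≫ μ[G] ≫ iG.inv)
  have hΔ : ∀ i j, (Algebra.TensorProduct.productMap (Φ i) (Φ j)).comp Δ = Φ (i * j) := by
    intro i j
    apply (homEquiv (R := R)).symm.injective
    rw [← symm_comp]
    simp only [Δ, Φ, Equiv.symm_apply_apply, d, comp_lift_assoc]
    rw [← Category.assoc ((homEquiv (R := R)).symm _), symm_comp, ← Category.assoc ((homEquiv (R := R)).symm _),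
      symm_comp, Algebra.TensorProduct.productMap_left, Algebra.TensorProduct.productMap_right,
      Equiv.symm_apply_apply, Equiv.symm_apply_apply, Category.assoc, Iso.inv_hom_id, Category.comp_id,
      Category.assoc, Iso.inv_hom_id, Category.comp_id, ← Category.assoc (CartesianMonoidalCategory.lift _ _), ← Hom.mul_def, hPmul]
  let S : B →ₐ[R] B := homEquiv (iG.hom ≫ ι[G] ≫ iG.inv)
  have hP1 : P 1 = 1 := mul_eq_left.mp ((hPmul 1 1).trans (congrArg P (_root_.one_mul 1)))
  have hS : ∀ i, (Φ i).comp S = Φ i⁻¹ := fun i => by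
    apply (homEquiv (R := R)).symm.injective
    rw [← symm_comp]
    simp only [S, Φ, Equiv.symm_apply_apply, Category.assoc, Iso.inv_hom_id_assoc]
    rw [← Category.assoc (P i), ← Hom.inv_def,
      show (P i)⁻¹ = P i⁻¹ from inv_eq_of_mul_eq_one_right (by rw [hPmul, mul_inv_cancel, hP1])]
  refine ⟨{
    φ := φ
    sep := fun z hz => hsepK z fun i => by rw [← hφ, hz, map_zero]
    c := C
    c_ne := Finset.prod_ne_zero_iff.mpr fun i _ => hc i
    b := fun i => (∏ j ∈ Finset.univ.erase i, c j) • b i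
    φ_b := fun i j => haR (by
      rw [map_smul, smul_eq_mul, map_mul, hφ, hcb]
      split_ifs with h
      · rw [← map_mul, Finset.prod_erase_mul _ _ (Finset.mem_univ i)]
      · rw [mul_zero, map_zero])
    Δ := Δ
    φ_Δ := fun i j z => haR (by
      rw [hφ, ← hΔ i j]
      show ((Algebra.ofId R K).comp (Algebra.TensorProduct.productMap (φ i) (φ j))) (Δ z) =
        Algebra.TensorProduct.productMap (Φ i) (Φ j) (Δ z)
      refine DFunLike.congr_fun (Algebra.TensorProduct.ext' fun x y => ?_) (Δ z)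
      simp [hφ])
    S := S
    φ_S := fun i z => haR (by rw [hφ, hφ, ← hS, AlgHom.comp_apply]) }, rfl, rfl⟩


theorem exists_model (G : Over (Spec (CommRingCat.of R))) [GrpObj G] {B : Type u} [CommRing B] [Algebra R B]
    [Module.Finite R B] [Module.Free R B] (iG : SR (R := R) B ≅ G)
    (e : Red.bc (Spec.map (CommRingCat.ofHom (algebraMap R (FractionRing R)))) G ≅
      TwC.const (Spec (CommRingCat.of (FractionRing R))) (Multiplicative (ZMod p)))
    (he : TwC.IsConstGrp (Multiplicative (ZMod p))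
      (Red.bc (Spec.map (CommRingCat.ofHom (algebraMap R (FractionRing R)))) G) e) :
    ∃ M : Model R p B, M.Δ = comulOf G iG := by
  obtain ⟨D, hD, -⟩ := exists_gModel G iG e he
  exact ⟨{
    φ := fun i => D.φ (Multiplicative.ofAdd i)
    sep := fun z hz => D.sep z fun i => hz i.toAdd
    c := D.c
    c_ne := D.c_ne
    b := fun i => D.b (Multiplicative.ofAdd i)
    φ_b := fun i j => (D.φ_b _ _).trans (by simp [Multiplicative.ofAdd.injective.eq_iff])
    Δ := D.Δ
    φ_Δ := fun i j z => D.φ_Δ _ _ z }, hD⟩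

end

/-- the coproduct square is a product -/
theorem lift_isIso {G : Over (Spec (CommRingCat.of R))} {B : Type u} [CommRing B] [Algebra R B]
    (iG : SR (R := R) B ≅ G) :
    IsIso (CartesianMonoidalCategory.lift ((homEquiv (R := R)).symm (Algebra.TensorProduct.includeLeft : B →ₐ[R] B ⊗[R] B) ≫ iG.hom)
      ((homEquiv (R := R)).symm (Algebra.TensorProduct.includeRight : B →ₐ[R] B ⊗[R] B) ≫ iG.hom)) := by
  let d : SR (R := R) (B ⊗[R] B) ⟶ SR (R := R) B ⊗ SR (R := R) B :=
    CartesianMonoidalCategory.lift ((homEquiv (R := R)).symm Algebra.TensorProduct.includeLeft)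
      ((homEquiv (R := R)).symm Algebra.TensorProduct.includeRight)
  have hd : d.left = (pullbackSpecIso R B B).inv := by
    apply pullback.hom_ext
    · erw [pullbackSpecIso_inv_fst]
      try exact congrArg Over.Hom.left (lift_fst ((homEquiv (R := R)).symm Algebra.TensorProduct.includeLeft)
        ((homEquiv (R := R)).symm (Algebra.TensorProduct.includeRight : B →ₐ[R] B ⊗[R] B)))
    · erw [pullbackSpecIso_inv_snd]
      try exact congrArg Over.Hom.left (lift_snd ((homEquiv (R := R)).symm
        (Algebra.TensorProduct.includeLeft : B →ₐ[R] B ⊗[R] B))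
        ((homEquiv (R := R)).symm Algebra.TensorProduct.includeRight))
  haveI : IsIso ((Over.forget _).map d) := by
    show IsIso d.left
    rw [hd]; infer_instance
  haveI : IsIso d := isIso_of_reflects_iso d (Over.forget _)
  rw [← lift_map]
  infer_instance

theorem classify_grp [IsDomain R] [IsDiscreteValuationRing R] {p : ℕ} [hp : Fact p.Prime]
    [CharP (IsLocalRing.ResidueField R) p] {ζ : R} (hζ : IsPrimitiveRoot ζ p)
    (G : Over (Spec (CommRingCat.of R))) [GrpObj G] [IsFinite G.hom] [Flat G.hom]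
    (e : Red.bc (Spec.map (CommRingCat.ofHom (algebraMap R (FractionRing R)))) G ≅
      TwC.const (Spec (CommRingCat.of (FractionRing R))) (Multiplicative (ZMod p)))
    (he : TwC.IsConstGrp (Multiplicative (ZMod p))
      (Red.bc (Spec.map (CommRingCat.ofHom (algebraMap R (FractionRing R)))) G) e) :
    ∃ (lam : R) (h : SekSuwa.DivCond lam p), lam ≠ 0 ∧ Nonempty (Grp.mk G ≅ Grp.mk (SekSuwa.GK R lam p h)) := by
  obtain ⟨B, _, _, _, _, ⟨iG⟩⟩ := exists_algebra G
  obtain ⟨M, hM⟩ := exists_model G iG e he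
  obtain ⟨lam, h, τ, hlam, hτ, f, hf⟩ := M.classify hζ
  let F : SR (R := R) B ≅ SekSuwa.GK R lam p h :=
    { hom := (homEquiv (R := R)).symm f.toAlgHom
      inv := (homEquiv (R := R)).symm f.symm.toAlgHom
      hom_inv_id := by
        rw [symm_comp, show f.toAlgHom.comp f.symm.toAlgHom = AlgHom.id R B from AlgHom.ext f.apply_symm_apply]
        exact Over.OverMorphism.ext (Spec.map_id _)
      inv_hom_id := by
        rw [symm_comp, show f.symm.toAlgHom.comp f.toAlgHom = AlgHom.id R _ from AlgHom.ext f.symm_apply_apply]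
        exact Over.OverMorphism.ext (Spec.map_id _) }
  let w : G ≅ SekSuwa.GK R lam p h := iG.symm ≪≫ F
  let inl : B →ₐ[R] B ⊗[R] B := Algebra.TensorProduct.includeLeft
  let inr : B →ₐ[R] B ⊗[R] B := Algebra.TensorProduct.includeRight
  let d := CartesianMonoidalCategory.lift ((homEquiv (R := R)).symm inl ≫ iG.hom) ((homEquiv (R := R)).symm inr ≫ iG.hom)
  haveI : IsIso d := lift_isIso iG
  have hmul : μ[G] ≫ w.hom = (w.hom ⊗ₘ w.hom) ≫ μ[SekSuwa.GK R lam p h] := by
    rw [← cancel_epi d]
    have hl : d ≫ μ[G] ≫ w.hom = (homEquiv (R := R)).symm (M.Δ.comp f.toAlgHom) := by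
      rw [← symm_comp, hM, comulOf, Equiv.symm_apply_apply]
      simp only [w, F, d, inl, inr, Iso.trans_hom, Iso.symm_hom, Category.assoc]
    have hr : d ≫ (w.hom ⊗ₘ w.hom) ≫ μ[SekSuwa.GK R lam p h] =
        (homEquiv (R := R)).symm (inl.comp f.toAlgHom) * (homEquiv (R := R)).symm (inr.comp f.toAlgHom) := by
      rw [← symm_comp, ← symm_comp, Hom.mul_def]
      simp only [d, w, F, lift_map_assoc, Iso.trans_hom, Iso.symm_hom, Category.assoc, Iso.hom_inv_id_assoc]
    rw [hl, hr]
    refine Eq.trans (congrArg _ ?_) ((map_mul Spec.mapMulEquiv (WithConv.toConv (inl.comp f.toAlgHom))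
      (WithConv.toConv (inr.comp f.toAlgHom))))
    set A₂ := (WithConv.toConv (inl.comp f.toAlgHom) * WithConv.toConv (inr.comp f.toAlgHom)).ofConv
    have ht : (M.Δ.comp f.toAlgHom) SekSuwa.AK.t = A₂ SekSuwa.AK.t := by
      have hv : A₂ SekSuwa.AK.t = τ ⊗ₜ[R] 1 + 1 ⊗ₜ[R] τ + lam • (τ ⊗ₜ[R] τ) := by
        simp only [A₂, AlgHom.convMul_def, AlgHom.comp_apply, Bialgebra.comulAlgHom_apply, SekSuwa.AK.comul_t,
          map_add, map_smul, Algebra.TensorProduct.map_tmul, WithConv.ofConv_toConv, map_one, Algebra.TensorProduct.lmul'_apply_tmul,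
          inl, inr, Algebra.TensorProduct.includeLeft_apply, Algebra.TensorProduct.includeRight_apply,
          AlgEquiv.coe_toAlgHom, hf, Algebra.TensorProduct.tmul_mul_tmul, _root_.mul_one, _root_.one_mul]
      rw [hv]
      show M.Δ (f SekSuwa.AK.t) = _
      rw [hf, ← sub_eq_zero]
      refine M.sep₂ _ fun i j => ?_
      simp only [map_sub, map_add, map_smul, M.φ_Δ, Algebra.TensorProduct.productMap_apply_tmul,
        map_one, _root_.mul_one, _root_.one_mul, smul_eq_mul]
      refine mul_left_cancel₀ hlam ?_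
      rw [mul_zero]
      linear_combination hτ (i + j) + Model.z_add hζ i j - (1 + lam * M.φ j τ) * hτ i - ζ ^ i.val * hτ j
    refine SekSuwa.AK.algHom_ext ht ?_
    rw [← inv_eq h hp.out.pos]
    simp only [map_pow, map_add, map_one, map_smul, ht]
  haveI : IsMonHom w.hom := by
    refine ⟨?_, hmul⟩
    have h2 : ((1 : 𝟙_ _ ⟶ G) ≫ w.hom) * ((1 : 𝟙_ _ ⟶ G) ≫ w.hom) = (1 : 𝟙_ _ ⟶ G) ≫ w.hom := by
      conv_rhs => rw [← _root_.one_mul (1 : 𝟙_ _ ⟶ G), Hom.mul_def, Category.assoc, hmul, lift_map_assoc]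
      rfl
    have h1 := mul_eq_left.mp h2
    simpa [Hom.one_def, toUnit_unit] using h1
  exact ⟨lam, h, hlam, ⟨Grp.mkIso' w⟩⟩

end Groth.Agent.H27SekSuwa
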