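/-
Finite flat models of constant groups of order `p²` are extensions of `G_{μ,1}` by `G_{λ,1}`: the algebra.
-/
import Groth.Agent.H27SekSuwa.SchemeOrder
import Groth.Agent.H20Quot.Galois
import Mathlib.GroupTheory.PGroup
import Mathlib.GroupTheory.SpecificGroups.Cyclic

set_option autoImplicit false
set_option linter.style.haveILetI false

universe u

open TensorProduct

namespace Groth.Agent.H27SekSuwa

variable {R : Type u} [CommRing R]

/-- Separating families give a separating family on the tensor product. -/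
theorem tensor_sep {B C : Type u} [CommRing B] [CommRing C] [Algebra R B] [Algebra R C] [Module.Free R B]
    [Module.Finite R B] [Module.Free R C] [Module.Finite R C] {ι κ : Type*}
    (φ : ι → (B →ₐ[R] R)) (ψ : κ → (C →ₐ[R] R)) (hφ : ∀ z, (∀ i, φ i z = 0) → z = 0)
    (hψ : ∀ z, (∀ i, ψ i z = 0) → z = 0) {z w : B ⊗[R] C}
    (h : ∀ i j, Algebra.TensorProduct.productMap (φ i) (ψ j) z = Algebra.TensorProduct.productMap (φ i) (ψ j) w) :
    z = w := by
  classical
  rw [← sub_eq_zero]
  let e := Module.Free.chooseBasis R B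
  let e' := Module.Free.chooseBasis R C
  let E := e.tensorProduct e'
  have hz : z - w = ∑ ab, E.repr (z - w) ab • E ab := (E.sum_repr _).symm
  have h1 : ∀ i b, ∑ a, E.repr (z - w) (a, b) * φ i (e a) = 0 := by
    intro i
    have h2 : ∑ b, (∑ a, E.repr (z - w) (a, b) * φ i (e a)) • e' b = 0 := by
      refine hψ _ fun j => ?_
      have h3 : Algebra.TensorProduct.productMap (φ i) (ψ j) (z - w) = 0 := by rw [map_sub, h i j, sub_self]
      rw [hz, map_sum, Fintype.sum_prod_type] at h3
      rw [map_sum, ← h3, Finset.sum_comm]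
      refine Finset.sum_congr rfl fun b _ => ?_
      rw [map_smul, smul_eq_mul, Finset.sum_mul]
      refine Finset.sum_congr rfl fun a _ => ?_
      simp only [E, map_smul, Module.Basis.tensorProduct_apply, Algebra.TensorProduct.productMap_apply_tmul,
        smul_eq_mul]
      ring
    exact fun b => Fintype.linearIndependent_iff.mp e'.linearIndependent _ h2 b
  have h4 : ∀ b a, E.repr (z - w) (a, b) = 0 := by
    intro b
    have h5 : ∑ a, E.repr (z - w) (a, b) • e a = 0 := by
      refine hφ _ fun i => ?_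
      rw [map_sum, ← h1 i b]
      simp only [map_smul, smul_eq_mul]
    exact Fintype.linearIndependent_iff.mp e.linearIndependent _ h5
  rw [hz]
  exact Finset.sum_eq_zero fun ab _ => by rw [h4 ab.2 ab.1, zero_smul]

theorem pm_map {A B A' B' : Type u} [CommRing A] [CommRing B] [CommRing A'] [CommRing B'] [Algebra R A]
    [Algebra R B] [Algebra R A'] [Algebra R B'] (f : A →ₐ[R] A') (g : B →ₐ[R] B') (a : A' →ₐ[R] R)
    (b : B' →ₐ[R] R) :
    (Algebra.TensorProduct.productMap a b).comp (Algebra.TensorProduct.map f g) =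
      Algebra.TensorProduct.productMap (a.comp f) (b.comp g) :=
  Algebra.TensorProduct.ext' fun x y => by simp

/-- A splitting of a group of order `p²`. -/
structure Split (M : Type) [Group M] (p : ℕ) where
  /-- the subgroup -/
  i : Multiplicative (ZMod p) →* M
  /-- the quotient -/
  π : M →* Multiplicative (ZMod p)
  inj : Function.Injective i
  surj : Function.Surjective π
  exact : ∀ m, π m = 1 ↔ ∃ j, i j = m
  comm : ∀ a b : M, a * b = b * a

theorem exists_split (M : Type) [Group M] {p : ℕ} [hp : Fact p.Prime] (hM : Nat.card M = p ^ 2) :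
    Nonempty (Split M p) := by
  haveI : Finite M := Nat.finite_of_card_ne_zero (by rw [hM]; exact pow_ne_zero _ hp.out.ne_zero)
  haveI := IsPGroup.isMulCommutative_of_card_eq_prime_sq hM
  obtain ⟨x, hx⟩ := exists_prime_orderOf_dvd_card' p (hM ▸ dvd_pow_self p (two_ne_zero) : p ∣ Nat.card M)
  let H : Subgroup M := Subgroup.zpowers x
  have hcH : Nat.card H = p := (Nat.card_zpowers x).trans hx
  haveI : H.Normal := ⟨fun n hn g => by rwa [mul_comm' g n, mul_inv_cancel_right]⟩
  have hcQ : Nat.card (M ⧸ H) = p := by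
    have h := Subgroup.card_eq_card_quotient_mul_card_subgroup H
    rw [hM, hcH, sq] at h
    exact (Nat.eq_of_mul_eq_mul_right hp.out.pos h).symm
  have hcZ : Nat.card (Multiplicative (ZMod p)) = p := by
    rw [Nat.card_congr Multiplicative.toAdd, Nat.card_zmod]
  let eH := mulEquivOfPrimeCardEq hcZ hcH
  let eQ := mulEquivOfPrimeCardEq hcQ hcZ
  refine ⟨⟨H.subtype.comp eH.toMonoidHom, eQ.toMonoidHom.comp (QuotientGroup.mk' H),
    Subtype.val_injective.comp eH.injective, eQ.surjective.comp (QuotientGroup.mk'_surjective H),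
    fun m => ?_, mul_comm'⟩⟩
  rw [MonoidHom.comp_apply, MulEquiv.coe_toMonoidHom, EmbeddingLike.map_eq_one_iff, QuotientGroup.mk'_apply,
    QuotientGroup.eq_one_iff]
  constructor
  · exact fun h => ⟨eH.symm ⟨m, h⟩, by simp⟩
  · rintro ⟨j, rfl⟩
    exact (eH j).2

section law

variable [IsDomain R] {p : ℕ} [Fact p.Prime] {ζ : R}

omit [IsDomain R] in
theorem zeta_add (hζ : IsPrimitiveRoot ζ p) (i j : ZMod p) : ζ ^ (i + j).val = ζ ^ i.val * ζ ^ j.val := by
  rw [← pow_add, ZMod.val_add]
  conv_rhs => rw [← Nat.mod_add_div (i.val + j.val) p, pow_add, pow_mul, hζ.pow_eq_one, one_pow, mul_one]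

/-- Points of `G_{λ,1}` given by powers of `ζ` form a group. -/
theorem points_law {lam : R} (h : SekSuwa.DivCond lam p) (hlam : lam ≠ 0) (hζ : IsPrimitiveRoot ζ p)
    (ψ : ZMod p → (SekSuwa.AK R lam p h →ₐ[R] R)) (hψ : ∀ i, lam * ψ i SekSuwa.AK.t = ζ ^ i.val - 1) :
    (∀ i j, (Algebra.TensorProduct.productMap (ψ i) (ψ j)).comp
        (Bialgebra.comulAlgHom R (SekSuwa.AK R lam p h)) = ψ (i + j)) ∧
      Bialgebra.counitAlgHom R (SekSuwa.AK R lam p h) = ψ 0 := by
  have hp : 0 < p := (Fact.out : p.Prime).pos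
  have ext' : ∀ {a b : SekSuwa.AK R lam p h →ₐ[R] R}, a SekSuwa.AK.t = b SekSuwa.AK.t → a = b := fun ht =>
    SekSuwa.AK.algHom_ext ht (by rw [← inv_eq h hp]; simp only [map_pow, map_add, map_one, map_smul, ht])
  refine ⟨fun i j => ext' (mul_left_cancel₀ hlam ?_), ext' (mul_left_cancel₀ hlam ?_)⟩
  · simp only [AlgHom.comp_apply, Bialgebra.comulAlgHom_apply, SekSuwa.AK.comul_t, map_add, map_smul,
      Algebra.TensorProduct.productMap_apply_tmul, map_one, mul_one, one_mul, smul_eq_mul, hψ]
    linear_combination (1 + lam * ψ j SekSuwa.AK.t) * hψ i + ζ ^ i.val * hψ j - zeta_add hζ i j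
  · rw [Bialgebra.counitAlgHom_apply, SekSuwa.AK.counit_t, mul_zero, hψ, ZMod.val_zero, pow_zero, sub_self]

end law

section ext

variable [IsDomain R] [IsDiscreteValuationRing R] {p : ℕ} [hp : Fact p.Prime]
  [CharP (IsLocalRing.ResidueField R) p] {ζ : R} {M : Type} [Group M] [DecidableEq M]
  {B : Type u} [CommRing B] [Algebra R B] [Module.Free R B] [Module.Finite R B]
  (D : GModel R M B) (P : Split M p)

/-- The subgroup. -/
theorem exists_sub (hζ : IsPrimitiveRoot ζ p) :
    ∃ (lam : R) (h : SekSuwa.DivCond lam p) (q : B →ₐ[R] SekSuwa.AK R lam p h)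
      (ψ : ZMod p → (SekSuwa.AK R lam p h →ₐ[R] R)), lam ≠ 0 ∧ Function.Surjective q ∧
      (∀ z, (∀ i, ψ i z = 0) → z = 0) ∧
      (∀ i j, (Algebra.TensorProduct.productMap (ψ i) (ψ j)).comp
        (Bialgebra.comulAlgHom R (SekSuwa.AK R lam p h)) = ψ (i + j)) ∧
      Bialgebra.counitAlgHom R (SekSuwa.AK R lam p h) = ψ 0 ∧
      ∀ i z, ψ i (q z) = D.φ (P.i (Multiplicative.ofAdd i)) z := by
  let iH : ZMod p → M := fun i => P.i (Multiplicative.ofAdd i)
  let r : B →ₐ[R] (ZMod p → R) := Pi.algHom R (fun _ : ZMod p => R) fun i => D.φ (iH i)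
  haveI : Module.Finite R r.range := Module.Finite.of_surjective r.rangeRestrict.toLinearMap r.rangeRestrict_surjective
  haveI : Module.IsTorsionFree R r.range := inferInstanceAs (Module.IsTorsionFree R (Subalgebra.toSubmodule r.range))
  haveI : Module.Free R r.range := Module.free_of_finite_type_torsion_free'
  let φN : ZMod p → (r.range →ₐ[R] R) := fun i => (Pi.evalAlgHom R (fun _ : ZMod p => R) i).comp r.range.val
  have sepN : ∀ z, (∀ i, φN i z = 0) → z = 0 := fun z hz => Subtype.ext (funext hz)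
  let ΔB : B →ₐ[R] r.range ⊗[R] r.range :=
    (Algebra.TensorProduct.map r.rangeRestrict r.rangeRestrict).comp D.Δ
  have hΔB : ∀ i j z, Algebra.TensorProduct.productMap (φN i) (φN j) (ΔB z) = D.φ (iH (i + j)) z := fun i j z => by
    rw [AlgHom.comp_apply, ← AlgHom.comp_apply, pm_map,
      show (φN i).comp r.rangeRestrict = D.φ (iH i) from rfl, show (φN j).comp r.rangeRestrict = D.φ (iH j) from rfl,
      D.φ_Δ]
    simp only [iH, ofAdd_add, map_mul]
  let ΔN : r.range →ₐ[R] r.range ⊗[R] r.range := AlgHom.liftOfSurjective r.rangeRestrict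
    r.rangeRestrict_surjective ΔB (fun z hz => tensor_sep φN φN sepN sepN fun i j => by
      rw [show ΔB.toRingHom z = ΔB z from rfl, hΔB, map_zero]
      exact congrFun (congrArg Subtype.val (show r.rangeRestrict z = 0 from hz)) (i + j))
  let N : Model R p r.range :=
    { φ := φN
      sep := sepN
      c := D.c
      c_ne := D.c_ne
      b := fun i => r.rangeRestrict (D.b (iH i))
      φ_b := fun i j => by
        show D.φ (iH j) (D.b (iH i)) = _
        rw [D.φ_b]
        simp only [iH, P.inj.eq_iff, Multiplicative.ofAdd.injective.eq_iff]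
      Δ := ΔN
      φ_Δ := fun i j z => by
        obtain ⟨b, rfl⟩ := r.rangeRestrict_surjective z
        rw [AlgHom.liftOfSurjective_apply, hΔB]
        rfl }
  obtain ⟨lam, h, τ, hlam, hτ, f, hf⟩ := N.classify hζ
  let ψ : ZMod p → (SekSuwa.AK R lam p h →ₐ[R] R) := fun i => (φN i).comp f.toAlgHom
  have hψ : ∀ i, lam * ψ i SekSuwa.AK.t = ζ ^ i.val - 1 := fun i => by
    show lam * φN i (f SekSuwa.AK.t) = _
    rw [hf]; exact hτ i
  obtain ⟨hlaw, hco⟩ := points_law h hlam hζ ψ hψ
  refine ⟨lam, h, f.symm.toAlgHom.comp r.rangeRestrict, ψ, hlam, f.symm.surjective.comp r.rangeRestrict_surjective,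
    fun z hz => f.injective ((sepN _ hz).trans (map_zero f).symm), hlaw, hco, fun i z => ?_⟩
  show φN i (f (f.symm (r.rangeRestrict z))) = _
  rw [AlgEquiv.apply_symm_apply]
  rfl

variable {C : Type u} [CommRing C] [HopfAlgebra R C] [Module.Free R C] [Module.Finite R C] (q : B →ₐ[R] C)
  (ψ : ZMod p → (C →ₐ[R] R))

/-- The coaction of the subgroup. -/
noncomputable def rho : B →ₐ[R] B ⊗[R] C := (Algebra.TensorProduct.map (AlgHom.id R B) q).comp D.Δ

variable {q ψ}
  (hψ : ∀ i z, ψ i (q z) = D.φ (P.i (Multiplicative.ofAdd i)) z)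
include hψ

theorem rho_pts (m : M) (i : ZMod p) (z : B) :
    Algebra.TensorProduct.productMap (D.φ m) (ψ i) (rho D q z) = D.φ (m * P.i (Multiplicative.ofAdd i)) z := by
  rw [rho, AlgHom.comp_apply, ← AlgHom.comp_apply, pm_map, AlgHom.comp_id,
    show (ψ i).comp q = D.φ (P.i (Multiplicative.ofAdd i)) from AlgHom.ext (hψ i), D.φ_Δ]

theorem mem_inv_iff (sep : ∀ z, (∀ i, ψ i z = 0) → z = 0) (z : B) :
    z ∈ H20Quot.inv (rho D q) ↔ ∀ m i, D.φ (m * P.i (Multiplicative.ofAdd i)) z = D.φ m z := by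
  rw [AlgHom.mem_equalizer]
  constructor
  · intro h m i
    rw [← rho_pts D P hψ, h]
    simp
  · intro h
    refine tensor_sep D.φ ψ D.sep sep fun m i => ?_
    rw [rho_pts D P hψ, h]
    simp

theorem isGalois (hq : Function.Surjective q) (sep : ∀ z, (∀ i, ψ i z = 0) → z = 0)
    (hlaw : ∀ i j, (Algebra.TensorProduct.productMap (ψ i) (ψ j)).comp (Bialgebra.comulAlgHom R C) = ψ (i + j))
    (hco : Bialgebra.counitAlgHom R C = ψ 0) : H20Quot.IsGalois (rho D q) where
  coassoc := by
    refine LinearMap.ext fun a => tensor_sep D.φ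
      (fun ij : ZMod p × ZMod p => Algebra.TensorProduct.productMap (ψ ij.1) (ψ ij.2)) D.sep
      (fun z hz => tensor_sep ψ ψ sep sep (z := z) (w := 0) fun i j => (hz (i, j)).trans (map_zero _).symm) ?_
    rintro m ⟨i, j⟩
    have e1 : ∀ z : B ⊗[R] C, Algebra.TensorProduct.productMap (D.φ m) (Algebra.TensorProduct.productMap (ψ i) (ψ j))
        (TensorProduct.assoc R B C C ((rho D q).toLinearMap.rTensor C z)) =
        Algebra.TensorProduct.productMap (D.φ (m * P.i (Multiplicative.ofAdd i))) (ψ j) z := by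
      intro z
      induction z using TensorProduct.induction_on with
      | zero => simp
      | add x y hx hy => simp [map_add, hx, hy]
      | tmul b c =>
        rw [LinearMap.rTensor_tmul, Algebra.TensorProduct.productMap_apply_tmul, ← rho_pts D P hψ,
          AlgHom.toLinearMap_apply]
        induction rho D q b using TensorProduct.induction_on with
        | zero => simp
        | add x y hx hy => simp [map_add, add_tmul, hx, hy, add_mul]
        | tmul x y => simp [mul_assoc]
    have e2 : ∀ z : B ⊗[R] C, Algebra.TensorProduct.productMap (D.φ m) (Algebra.TensorProduct.productMap (ψ i) (ψ j))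
        (Coalgebra.comul.lTensor B z) = Algebra.TensorProduct.productMap (D.φ m) (ψ (i + j)) z := by
      intro z
      induction z using TensorProduct.induction_on with
      | zero => simp
      | add x y hx hy => simp [map_add, hx, hy]
      | tmul b c => simp [← hlaw i j]
    simp only [LinearMap.comp_apply, LinearEquiv.coe_coe, AlgHom.toLinearMap_apply]
    rw [e1, e2, rho_pts D P hψ, rho_pts D P hψ, ofAdd_add, map_mul, mul_assoc]
  counit := fun a => by
    rw [← sub_eq_zero]
    refine D.sep _ fun m => ?_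
    have e : ∀ z : B ⊗[R] C, D.φ m (TensorProduct.rid R B (Coalgebra.counit.lTensor B z)) =
        Algebra.TensorProduct.productMap (D.φ m) (ψ 0) z := by
      intro z
      induction z using TensorProduct.induction_on with
      | zero => simp
      | add x y hx hy => simp [map_add, hx, hy]
      | tmul b c => simp [← hco, mul_comm]
    rw [map_sub, e, rho_pts D P hψ]
    simp
  surj := fun c => by
    obtain ⟨b, rfl⟩ := hq c
    refine ⟨Algebra.TensorProduct.map D.S (AlgHom.id R B) (D.Δ b), tensor_sep D.φ ψ D.sep sep fun m i => ?_⟩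
    rw [← AlgHom.comp_apply, ← AlgHom.comp_apply, ← AlgHom.comp_apply]
    have e : ((Algebra.TensorProduct.productMap (D.φ m) (ψ i)).comp
        (Algebra.TensorProduct.productMap Algebra.TensorProduct.includeLeft (rho D q))).comp
          (Algebra.TensorProduct.map D.S (AlgHom.id R B)) =
        Algebra.TensorProduct.productMap (D.φ m⁻¹) (D.φ (m * P.i (Multiplicative.ofAdd i))) := by
      refine Algebra.TensorProduct.ext' fun x y => ?_
      simp [rho_pts D P hψ, D.φ_S]
    rw [AlgHom.comp_assoc, ← AlgHom.comp_assoc _ _ D.Δ, e, AlgHom.comp_apply, D.φ_Δ, inv_mul_cancel_left]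
    simp [hψ]

theorem exists_quot (hζ : IsPrimitiveRoot ζ p) (hgal : H20Quot.IsGalois (rho D q))
    (sep : ∀ z, (∀ i, ψ i z = 0) → z = 0) [Fintype M] :
    ∃ (mu : R) (h : SekSuwa.DivCond mu p) (f : SekSuwa.AK R mu p h ≃ₐ[R] H20Quot.inv (rho D q))
      (χ : ZMod p → (SekSuwa.AK R mu p h →ₐ[R] R)), mu ≠ 0 ∧
      (∀ i j, (Algebra.TensorProduct.productMap (χ i) (χ j)).comp
        (Bialgebra.comulAlgHom R (SekSuwa.AK R mu p h)) = χ (i + j)) ∧
      Bialgebra.counitAlgHom R (SekSuwa.AK R mu p h) = χ 0 ∧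
      ∀ m a, D.φ m (f a : B) = χ (P.π m).toAdd a := by
  classical
  let Q := H20Quot.inv (rho D q)
  haveI : Module.Finite R Q := H20Quot.IsGalois.finite_inv hgal
  haveI : Module.Projective R Q := H20Quot.IsGalois.projective_inv hgal
  haveI : Module.Free R Q := Module.free_of_flat_of_isLocalRing
  obtain ⟨θ, hθ⟩ := H20Quot.IsGalois.exists_retraction hgal
  have hθ' : ∀ z : Q, θ (z : B) = z := fun z => by
    have e := map_smul θ z (1 : B)
    rwa [hθ, Subalgebra.smul_def, smul_eq_mul, mul_one, smul_eq_mul, mul_one] at e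
  choose s hs using fun j : ZMod p => P.surj (Multiplicative.ofAdd j)
  have hinv : ∀ (z : Q) m, D.φ m (z : B) = D.φ (s (P.π m).toAdd) (z : B) := by
    intro z m
    obtain ⟨j, hj⟩ := (P.exact ((s (P.π m).toAdd)⁻¹ * m)).mp (by rw [map_mul, map_inv, hs, ofAdd_toAdd, inv_mul_cancel])
    have h := (mem_inv_iff D P hψ sep (z : B)).mp z.2 (s (P.π m).toAdd) j.toAdd
    rwa [ofAdd_toAdd, hj, mul_inv_cancel_left] at h
  let φQ : ZMod p → (Q →ₐ[R] R) := fun j => (D.φ (s j)).comp Q.val
  have sepQ : ∀ z, (∀ j, φQ j z = 0) → z = 0 := fun z hz =>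
    Subtype.ext (D.sep _ fun m => (hinv z m).trans (hz _))
  have hbQ : ∀ j : ZMod p, (∑ m with P.π m = Multiplicative.ofAdd j, D.b m) ∈ Q := fun j => by
    rw [mem_inv_iff D P hψ sep]
    intro m i
    simp only [map_sum, D.φ_b, Finset.sum_ite_eq, Finset.mem_filter, Finset.mem_univ, true_and, map_mul,
      show P.π (P.i (Multiplicative.ofAdd i)) = 1 from (P.exact _).mpr ⟨_, rfl⟩, mul_one]
  let bQ : ZMod p → Q := fun j => ⟨_, hbQ j⟩
  have hφbQ : ∀ j j', φQ j' (bQ j) = if j' = j then D.c else 0 := fun j j' => by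
    show D.φ (s j') (∑ m with P.π m = Multiplicative.ofAdd j, D.b m) = _
    simp only [bQ, map_sum, D.φ_b, Finset.sum_ite_eq, Finset.mem_filter, Finset.mem_univ, true_and, hs,
      Multiplicative.ofAdd.injective.eq_iff]
  let v2 : Q ⊗[R] Q →ₐ[R] B ⊗[R] B := Algebra.TensorProduct.map Q.val Q.val
  let t2 : B ⊗[R] B →ₗ[R] Q ⊗[R] Q := TensorProduct.map (θ.restrictScalars R) (θ.restrictScalars R)
  have ht2 : ∀ w, t2 (v2 w) = w := by
    intro w
    induction w using TensorProduct.induction_on with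
    | zero => simp
    | add x y hx hy => simp [map_add, hx, hy]
    | tmul x y => simp [t2, v2, hθ']
  have him : ∀ z : Q, v2 (t2 (D.Δ z)) = D.Δ z := by
    intro z
    let w : Q ⊗[R] Q := ∑ i, ∑ j, φQ (i + j) z • (bQ i ⊗ₜ[R] bQ j)
    have hw : (D.c * D.c) • D.Δ (z : B) = v2 w := by
      refine tensor_sep D.φ D.φ D.sep D.sep fun m n => ?_
      rw [map_smul, D.φ_Δ, smul_eq_mul, hinv]
      simp only [w, v2, map_sum, map_smul, Algebra.TensorProduct.map_tmul, Algebra.TensorProduct.productMap_apply_tmul,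
        Subalgebra.val_apply, smul_eq_mul, hinv (bQ _) m, hinv (bQ _) n]
      rw [Finset.sum_eq_single (P.π m).toAdd, Finset.sum_eq_single (P.π n).toAdd]
      · show _ = φQ _ z * (φQ _ (bQ _) * φQ _ (bQ _))
        rw [hφbQ, hφbQ, if_pos rfl, if_pos rfl, map_mul, toAdd_mul]
        exact mul_comm _ _
      · intro x _ hx
        show φQ _ z * (φQ _ (bQ _) * φQ _ (bQ x)) = 0
        rw [hφbQ, hφbQ, if_neg (Ne.symm hx), mul_zero, mul_zero]
      · simp
      · intro x _ hx
        refine Finset.sum_eq_zero fun y _ => ?_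
        show φQ _ z * (φQ _ (bQ x) * φQ _ (bQ y)) = 0
        rw [hφbQ, hφbQ, if_neg (Ne.symm hx), zero_mul, mul_zero]
      · simp
    refine smul_right_injective _ (mul_ne_zero D.c_ne D.c_ne) ?_
    show (D.c * D.c) • v2 (t2 (D.Δ z)) = _
    rw [← map_smul v2, ← map_smul t2, hw, ht2]
    exact hw.symm
  have hv2 : Function.Injective v2 := Function.LeftInverse.injective ht2
  let ΔQ : Q →ₐ[R] Q ⊗[R] Q := AlgHom.ofLinearMap (t2 ∘ₗ D.Δ.toLinearMap ∘ₗ Q.val.toLinearMap)
    (hv2 (by
      show v2 (t2 (D.Δ ((1 : Q) : B))) = v2 1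
      rw [him, OneMemClass.coe_one, map_one, map_one]))
    (fun x y => hv2 (by
      show v2 (t2 (D.Δ ((x * y : Q) : B))) = v2 (t2 (D.Δ (x : B)) * t2 (D.Δ (y : B)))
      rw [map_mul v2, him, him, him, MulMemClass.coe_mul, map_mul]))
  let MQ : Model R p Q :=
    { φ := φQ
      sep := sepQ
      c := D.c
      c_ne := D.c_ne
      b := bQ
      φ_b := hφbQ
      Δ := ΔQ
      φ_Δ := fun i j z => by
        have e : Algebra.TensorProduct.productMap (φQ i) (φQ j) =
            (Algebra.TensorProduct.productMap (D.φ (s i)) (D.φ (s j))).comp v2 := (pm_map _ _ _ _).symm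
        rw [e, AlgHom.comp_apply, show v2 (ΔQ z) = D.Δ z from him z, D.φ_Δ, hinv, map_mul, toAdd_mul, hs, hs,
          toAdd_ofAdd, toAdd_ofAdd]
        rfl }
  obtain ⟨mu, h, σ, hmu, hσ, f, hf⟩ := MQ.classify hζ
  obtain ⟨hlaw, hco⟩ := points_law h hmu hζ (fun j => (φQ j).comp f.toAlgHom) fun j => by
    show mu * φQ j (f SekSuwa.AK.t) = _
    rw [hf]; exact hσ j
  exact ⟨mu, h, f, _, hmu, hlaw, hco, fun m a => hinv (f a) m⟩

end ext

end Groth.Agent.H27SekSuwa
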