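/-
Finite flat models of constant groups of order `p²` are extensions of `G_{μ,1}` by `G_{λ,1}`.
-/
import Groth.Agent.H27SekSuwa.Extension
import Groth.Prelude.Def_NonAbH2
import Mathlib.AlgebraicGeometry.Morphisms.FinitePresentation
import Mathlib.RingTheory.RingHom.FaithfullyFlat
import Mathlib.Algebra.Category.Ring.Constructions

set_option autoImplicit false
set_option linter.style.haveILetI false
set_option backward.isDefEq.respectTransparency false
set_option backward.isDefEq.respectTransparency.types false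

universe u

open CategoryTheory CategoryTheory.Limits AlgebraicGeometry CommRingCat
open MonoidalCategory CartesianMonoidalCategory MonObj TensorProduct

namespace Groth.Agent.H27SekSuwa

variable {R : Type u} [CommRing R]

/-- The product of two affine objects. -/
theorem lift_isIso₂ {X Y : Over (Spec (CommRingCat.of R))} {B C : Type u} [CommRing B] [Algebra R B] [CommRing C]
    [Algebra R C] (iX : SR (R := R) B ≅ X) (iY : SR (R := R) C ≅ Y) :
    IsIso (CartesianMonoidalCategory.lift
      ((homEquiv (R := R)).symm (Algebra.TensorProduct.includeLeft : B →ₐ[R] B ⊗[R] C) ≫ iX.hom)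
      ((homEquiv (R := R)).symm (Algebra.TensorProduct.includeRight : C →ₐ[R] B ⊗[R] C) ≫ iY.hom)) := by
  let d : SR (R := R) (B ⊗[R] C) ⟶ SR (R := R) B ⊗ SR (R := R) C :=
    CartesianMonoidalCategory.lift ((homEquiv (R := R)).symm Algebra.TensorProduct.includeLeft)
      ((homEquiv (R := R)).symm Algebra.TensorProduct.includeRight)
  have hd : d.left = (pullbackSpecIso R B C).inv := by
    apply pullback.hom_ext
    · erw [pullbackSpecIso_inv_fst]
      try exact congrArg Over.Hom.left (lift_fst ((homEquiv (R := R)).symm Algebra.TensorProduct.includeLeft)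
        ((homEquiv (R := R)).symm (Algebra.TensorProduct.includeRight : C →ₐ[R] B ⊗[R] C)))
    · erw [pullbackSpecIso_inv_snd]
      try exact congrArg Over.Hom.left (lift_snd ((homEquiv (R := R)).symm
        (Algebra.TensorProduct.includeLeft : B →ₐ[R] B ⊗[R] C))
        ((homEquiv (R := R)).symm Algebra.TensorProduct.includeRight))
  haveI : IsIso ((Over.forget _).map d) := by
    show IsIso d.left
    rw [hd]; infer_instance
  haveI : IsIso d := isIso_of_reflects_iso d (Over.forget _)
  rw [← lift_map]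
  infer_instance

theorem comulOf_refl (A : Type u) [CommRing A] [HopfAlgebra R A] :
    comulOf (SR (R := R) A) (Iso.refl (SR (R := R) A)) = Bialgebra.comulAlgHom R A := by
  rw [comulOf]
  simp only [Iso.refl_hom, Iso.refl_inv, Category.comp_id]
  apply (homEquiv (R := R)).symm.injective
  rw [Equiv.symm_apply_apply, ← Hom.mul_def]
  refine ((map_mul Spec.mapMulEquiv
    (WithConv.toConv (Algebra.TensorProduct.includeLeft : A →ₐ[R] A ⊗[R] A))
    (WithConv.toConv (Algebra.TensorProduct.includeRight : A →ₐ[R] A ⊗[R] A))).symm).trans (congrArg _ ?_)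
  rw [AlgHom.convMul_def]
  congr 1
  have e : (Algebra.TensorProduct.lmul' R).comp (Algebra.TensorProduct.map
      (Algebra.TensorProduct.includeLeft : A →ₐ[R] A ⊗[R] A)
      (Algebra.TensorProduct.includeRight : A →ₐ[R] A ⊗[R] A)) = AlgHom.id R (A ⊗[R] A) :=
    Algebra.TensorProduct.ext' fun x y => by simp
  rw [← AlgHom.comp_assoc, e, AlgHom.id_comp]
  rfl

/-- A map of coordinate rings commuting with the comultiplications gives a homomorphism. -/
theorem isMonHom_of_comul {G H : Over (Spec (CommRingCat.of R))} [GrpObj G] [GrpObj H] {B B' : Type u} [CommRing B]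
    [Algebra R B] [CommRing B'] [Algebra R B'] (iG : SR (R := R) B ≅ G) (iH : SR (R := R) B' ≅ H)
    (a : B' →ₐ[R] B) (ha : (Algebra.TensorProduct.map a a).comp (comulOf H iH) = (comulOf G iG).comp a) :
    IsMonHom (iG.inv ≫ (homEquiv (R := R)).symm a ≫ iH.hom) := by
  set w := iG.inv ≫ (homEquiv (R := R)).symm a ≫ iH.hom with hw
  let d := CartesianMonoidalCategory.lift
    ((homEquiv (R := R)).symm (Algebra.TensorProduct.includeLeft : B →ₐ[R] B ⊗[R] B) ≫ iG.hom)
    ((homEquiv (R := R)).symm (Algebra.TensorProduct.includeRight : B →ₐ[R] B ⊗[R] B) ≫ iG.hom)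
  let d' := CartesianMonoidalCategory.lift
    ((homEquiv (R := R)).symm (Algebra.TensorProduct.includeLeft : B' →ₐ[R] B' ⊗[R] B') ≫ iH.hom)
    ((homEquiv (R := R)).symm (Algebra.TensorProduct.includeRight : B' →ₐ[R] B' ⊗[R] B') ≫ iH.hom)
  haveI : IsIso d := lift_isIso iG
  have hmul : μ[G] ≫ w = (w ⊗ₘ w) ≫ μ[H] := by
    rw [← cancel_epi d]
    have hl : d ≫ μ[G] ≫ w = (homEquiv (R := R)).symm ((comulOf G iG).comp a) ≫ iH.hom := by
      rw [← symm_comp, comulOf, Equiv.symm_apply_apply]
      simp only [hw, d, Category.assoc]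
    have hr : d ≫ (w ⊗ₘ w) ≫ μ[H] =
        (homEquiv (R := R)).symm ((Algebra.TensorProduct.map a a).comp (comulOf H iH)) ≫ iH.hom := by
      rw [← symm_comp, comulOf, Equiv.symm_apply_apply]
      simp only [Category.assoc, Iso.inv_hom_id, Category.comp_id]
      rw [← Category.assoc ((homEquiv (R := R)).symm (Algebra.TensorProduct.map a a)), comp_lift,
        ← Category.assoc ((homEquiv (R := R)).symm (Algebra.TensorProduct.map a a)), symm_comp,
        ← Category.assoc ((homEquiv (R := R)).symm (Algebra.TensorProduct.map a a)), symm_comp,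
        show (Algebra.TensorProduct.map a a).comp (Algebra.TensorProduct.includeLeft : B' →ₐ[R] B' ⊗[R] B') =
          (Algebra.TensorProduct.includeLeft : B →ₐ[R] B ⊗[R] B).comp a from AlgHom.ext fun x => by simp,
        show (Algebra.TensorProduct.map a a).comp (Algebra.TensorProduct.includeRight : B' →ₐ[R] B' ⊗[R] B') =
          (Algebra.TensorProduct.includeRight : B →ₐ[R] B ⊗[R] B).comp a from AlgHom.ext fun x => by simp,
        ← symm_comp, ← symm_comp]
      simp only [d, hw, lift_map_assoc, Category.assoc, Iso.hom_inv_id_assoc]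
    rw [hl, hr, ha]
  refine ⟨?_, hmul⟩
  have h2 : ((1 : 𝟙_ _ ⟶ G) ≫ w) * ((1 : 𝟙_ _ ⟶ G) ≫ w) = (1 : 𝟙_ _ ⟶ G) ≫ w := by
    conv_rhs => rw [← _root_.one_mul (1 : 𝟙_ _ ⟶ G), Hom.mul_def, Category.assoc, hmul, lift_map_assoc]
    rfl
  have h1 := mul_eq_left.mp h2
  simpa [Hom.one_def, toUnit_unit] using h1

theorem exists_exactSeq [IsDomain R] [IsDiscreteValuationRing R] {p : ℕ} [hp : Fact p.Prime]
    [CharP (IsLocalRing.ResidueField R) p] {ζ : R} (hζ : IsPrimitiveRoot ζ p)
    (G : Over (Spec (CommRingCat.of R))) [GrpObj G] [IsFinite G.hom] [Flat G.hom] {M : Type} [Group M]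
    (hM : Nat.card M = p ^ 2)
    (e : Red.bc (Spec.map (CommRingCat.ofHom (algebraMap R (FractionRing R)))) G ≅
      TwC.const (Spec (CommRingCat.of (FractionRing R))) M)
    (he : TwC.IsConstGrp M (Red.bc (Spec.map (CommRingCat.ofHom (algebraMap R (FractionRing R)))) G) e) :
    ∃ (lam mu : R) (h₁ : SekSuwa.DivCond lam p) (h₂ : SekSuwa.DivCond mu p)
      (u : SekSuwa.GK R lam p h₁ ⟶ G) (v : G ⟶ SekSuwa.GK R mu p h₂),
      lam ≠ 0 ∧ mu ≠ 0 ∧ NonAbH1.IsExactSeq Scheme.fppfPrecoverage u v := by
  classical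
  haveI : Finite M := Nat.finite_of_card_ne_zero (by rw [hM]; exact pow_ne_zero _ hp.out.ne_zero)
  haveI := Fintype.ofFinite M
  obtain ⟨B, _, _, _, _, ⟨iG⟩⟩ := exists_algebra G
  obtain ⟨D, hD, -⟩ := exists_gModel G iG e he
  obtain ⟨P⟩ := exists_split M hM
  obtain ⟨lam, h₁, q, ψ, hlam, hq, sep, hlaw, hco, hψ⟩ := exists_sub D P hζ
  obtain ⟨bC, -⟩ := exists_basis h₁ hp.out.pos
  haveI : Module.Free R (SekSuwa.AK R lam p h₁) := Module.Free.of_basis bC
  haveI : Module.Finite R (SekSuwa.AK R lam p h₁) := Module.Finite.of_basis bC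
  have hgal := isGalois D P hψ hq sep hlaw hco
  obtain ⟨mu, h₂, f, χ, hmu, hlawQ, hcoQ, hχ⟩ := exists_quot D P hψ hζ hgal sep
  let A₁ := SekSuwa.AK R lam p h₁
  let A₂ := SekSuwa.AK R mu p h₂
  let Q := H20Quot.inv (rho D q)
  let j : A₂ →ₐ[R] B := Q.val.comp f.toAlgHom
  let i₁ : SR (R := R) A₁ ≅ SekSuwa.GK R lam p h₁ := Iso.refl _
  let i₂ : SR (R := R) A₂ ≅ SekSuwa.GK R mu p h₂ := Iso.refl _
  let u : SekSuwa.GK R lam p h₁ ⟶ G := i₁.inv ≫ (homEquiv (R := R)).symm q ≫ iG.hom
  let v : G ⟶ SekSuwa.GK R mu p h₂ := iG.inv ≫ (homEquiv (R := R)).symm j ≫ i₂.hom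
  haveI hu : IsMonHom u := by
    refine isMonHom_of_comul i₁ iG q ?_
    rw [show comulOf _ i₁ = Bialgebra.comulAlgHom R A₁ from comulOf_refl A₁, ← hD]
    refine AlgHom.ext fun z => tensor_sep ψ ψ sep sep fun a b => ?_
    rw [← AlgHom.comp_apply, ← AlgHom.comp_apply, ← AlgHom.comp_assoc, pm_map, ← AlgHom.comp_assoc, hlaw,
      AlgHom.comp_apply, show (ψ a).comp q = _ from AlgHom.ext (hψ a), show (ψ b).comp q = _ from AlgHom.ext (hψ b),
      D.φ_Δ, AlgHom.comp_apply, hψ, ofAdd_add, map_mul]
  haveI hv : IsMonHom v := by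
    refine isMonHom_of_comul iG i₂ j ?_
    rw [show comulOf _ i₂ = Bialgebra.comulAlgHom R A₂ from comulOf_refl A₂, ← hD]
    refine AlgHom.ext fun z => tensor_sep D.φ D.φ D.sep D.sep fun a b => ?_
    rw [← AlgHom.comp_apply, ← AlgHom.comp_assoc, pm_map,
      show (D.φ a).comp j = χ (P.π a).toAdd from AlgHom.ext (hχ a),
      show (D.φ b).comp j = χ (P.π b).toAdd from AlgHom.ext (hχ b), hlawQ, AlgHom.comp_apply, D.φ_Δ,
      show D.φ (a * b) (j z) = χ (P.π (a * b)).toAdd z from hχ (a * b) z, map_mul, toAdd_mul]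
  have huv : u ≫ v = 1 := by
    have e1 : u ≫ v = (homEquiv (R := R)).symm (q.comp j) := by
      rw [← symm_comp]
      simp only [u, v, i₁, i₂, Iso.refl_inv, Iso.refl_hom, Category.assoc, Iso.hom_inv_id_assoc, Category.comp_id]
      exact Category.id_comp _
    rw [e1]
    refine Eq.trans (congrArg _ ?_) (map_one Spec.mapMulEquiv)
    refine AlgHom.ext fun a => ?_
    show q (j a) = Algebra.ofId R A₁ (Bialgebra.counitAlgHom R A₂ a)
    rw [← sub_eq_zero]
    refine sep _ fun i => ?_
    rw [map_sub, hψ, show D.φ _ (j a) = χ _ a from hχ _ a,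
      show P.π (P.i (Multiplicative.ofAdd i)) = 1 from (P.exact _).mpr ⟨_, rfl⟩, toAdd_one, hcoQ,
      Algebra.ofId_apply, AlgHom.commutes]
    exact sub_self _
  refine ⟨lam, mu, h₁, h₂, u, v, hlam, hmu, hu, hv, huv, ?_, ?_⟩
  · -- the pseudo-torsor square
    have hf : f.toAlgHom.toRingHom = ((f : A₂ ≃+* Q) : A₂ →+* Q) := rfl
    let g : B ⊗[Q] B ≃+* B ⊗[R] A₁ := (AlgEquiv.ofBijective _ hgal.galoisMap_bijective).toRingEquiv
    have hpo : IsPushout (CommRingCat.ofHom j.toRingHom) (CommRingCat.ofHom j.toRingHom)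
        (CommRingCat.ofHom ((Algebra.TensorProduct.includeLeft : B →ₐ[R] B ⊗[R] A₁)).toRingHom)
        (CommRingCat.ofHom (rho D q).toRingHom) := by
      refine (CommRingCat.isPushout_tensorProduct Q B B).of_iso (f.toRingEquiv.toCommRingCatIso).symm (Iso.refl _)
        (Iso.refl _) g.toCommRingCatIso ?_ ?_ ?_ ?_
      · ext x
        show ((x : Q) : B) = (f (f.symm x) : B)
        rw [AlgEquiv.apply_symm_apply]
      · ext x
        show ((x : Q) : B) = (f (f.symm x) : B)
        rw [AlgEquiv.apply_symm_apply]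
      · ext b
        show H20Quot.IsGalois.galoisMap (rho D q) (b ⊗ₜ 1) = b ⊗ₜ 1
        simp
      · ext b
        show H20Quot.IsGalois.galoisMap (rho D q) (1 ⊗ₜ b) = rho D q b
        simp [← Algebra.TensorProduct.one_def]
    have hpb := isPullback_SpecMap_of_isPushout _ _ _ _ hpo
    have hsq : IsPullback ((homEquiv (R := R)).symm (Algebra.TensorProduct.includeLeft : B →ₐ[R] B ⊗[R] A₁))
        ((homEquiv (R := R)).symm (rho D q)) ((homEquiv (R := R)).symm j) ((homEquiv (R := R)).symm j) :=
      IsPullback.of_map (Over.forget _) (Over.OverMorphism.ext hpb.w) hpb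
    let d := CartesianMonoidalCategory.lift
      ((homEquiv (R := R)).symm (Algebra.TensorProduct.includeLeft : B →ₐ[R] B ⊗[R] A₁) ≫ iG.hom)
      ((homEquiv (R := R)).symm (Algebra.TensorProduct.includeRight : A₁ →ₐ[R] B ⊗[R] A₁) ≫ i₁.hom)
    haveI : IsIso d := lift_isIso₂ iG i₁
    refine hsq.of_iso (asIso d) iG iG i₂ ?_ ?_ ?_ ?_
    · simp [d]
    · rw [asIso_hom, rho, hD, ← symm_comp, comulOf, Equiv.symm_apply_apply]
      simp only [Category.assoc, Iso.inv_hom_id, Category.comp_id, d, lift_whiskerLeft_assoc]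
      rw [← Category.assoc ((homEquiv (R := R)).symm (Algebra.TensorProduct.map (AlgHom.id R B) q)), comp_lift,
        ← Category.assoc ((homEquiv (R := R)).symm (Algebra.TensorProduct.map (AlgHom.id R B) q)), symm_comp,
        ← Category.assoc ((homEquiv (R := R)).symm (Algebra.TensorProduct.map (AlgHom.id R B) q)), symm_comp,
        show (Algebra.TensorProduct.map (AlgHom.id R B) q).comp
            (Algebra.TensorProduct.includeLeft : B →ₐ[R] B ⊗[R] B) =
          (Algebra.TensorProduct.includeLeft : B →ₐ[R] B ⊗[R] A₁) from AlgHom.ext fun x => by simp; rfl,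
        show (Algebra.TensorProduct.map (AlgHom.id R B) q).comp
            (Algebra.TensorProduct.includeRight : B →ₐ[R] B ⊗[R] B) =
          (Algebra.TensorProduct.includeRight : A₁ →ₐ[R] B ⊗[R] A₁).comp q from AlgHom.ext fun x => by simp; rfl,
        ← symm_comp]
      simp [u, i₁]
      exact congrArg (fun t => CartesianMonoidalCategory.lift _ (_ ≫ t) ≫ _) (Category.id_comp _).symm
    · simp [v]
    · simp [v]
  · -- local sections
    haveI : Module.Finite R Q := H20Quot.IsGalois.finite_inv hgal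
    haveI : Module.FaithfullyFlat Q B := H20Quot.IsGalois.faithfullyFlat hgal
    haveI : Module.Finite Q B := H20Quot.IsGalois.finite hgal
    haveI : IsNoetherianRing Q := isNoetherian_of_tower R (inferInstanceAs (IsNoetherian R Q))
    have hff : j.toRingHom.FaithfullyFlat := by
      exact RingHom.FaithfullyFlat.stableUnderComposition f.toAlgHom.toRingHom (algebraMap Q B)
        (RingHom.FaithfullyFlat.of_bijective f.bijective)
        (RingHom.faithfullyFlat_algebraMap_iff.mpr inferInstance)
    have hfp : j.toRingHom.FinitePresentation := by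
      exact RingHom.FinitePresentation.comp
        (RingHom.finitePresentation_algebraMap.mpr (Algebra.FinitePresentation.of_finiteType.mp inferInstance))
        (RingHom.FinitePresentation.of_surjective _ f.surjective (by
          have e0 : RingHom.ker f.toAlgHom.toRingHom = ⊥ := (RingHom.injective_iff_ker_eq_bot _).mp f.injective
          exact e0.symm ▸ Submodule.fg_bot))
    haveI : IsIso iG.inv.left := inferInstanceAs (IsIso ((Over.forget _).map iG.inv))
    have hvl : v.left = iG.inv.left ≫ Spec.map (CommRingCat.ofHom j.toRingHom) := by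
      simp [v, i₂, eq_spec_map]
    obtain ⟨_, _⟩ := (flat_and_surjective_SpecMap_iff (CommRingCat.ofHom j.toRingHom)).mpr hff
    haveI : LocallyOfFinitePresentation (Spec.map (CommRingCat.ofHom j.toRingHom)) :=
      (HasRingHomProperty.Spec_iff (P := @LocallyOfFinitePresentation)).mpr hfp
    haveI : Flat v.left := by rw [hvl]; infer_instance
    haveI : Surjective v.left := by rw [hvl]; infer_instance
    haveI : LocallyOfFinitePresentation v.left := by rw [hvl]; infer_instance
    refine ⟨Presieve.ofArrows (fun _ : PUnit.{u+1} => G.left) (fun _ => v.left), ?_, ?_⟩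
    · rw [Scheme.fppfPrecoverage, Scheme.ofArrows_mem_precoverage_iff]
      exact ⟨fun a => ⟨⟨⟩, v.left.surjective a⟩, fun _ => ⟨inferInstance, inferInstance⟩⟩
    · rintro S' f' ⟨i⟩
      exact ⟨𝟙 _, Category.id_comp _⟩

end Groth.Agent.H27SekSuwa
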