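/-
Homomorphisms to the multiplicative group after an affine base change, and their extension from `G_{μ,N}` to `G^(μ)`.
-/
import Groth.Agent.H27SekSuwa.ExtensionScheme
import Mathlib.RingTheory.HopfAlgebra.Convolution

set_option autoImplicit false
set_option linter.style.haveILetI false
set_option backward.isDefEq.respectTransparency false
set_option backward.isDefEq.respectTransparency.types false
set_option synthInstance.maxHeartbeats 400000

universe u

open CategoryTheory CategoryTheory.Limits AlgebraicGeometry CommRingCat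
open MonoidalCategory CartesianMonoidalCategory MonObj TensorProduct

namespace Groth.Agent.H27SekSuwa

variable {R : Type u} [CommRing R] {A : Type u} [CommRing A] [Algebra R A]
  {B B' : Type u} [CommRing B] [Algebra R B] [CommRing B'] [Algebra R B']

local notation "sA" => Spec.map (CommRingCat.ofHom (algebraMap R A))

variable (A B) in
/-- The spectrum of the base-changed algebra is the base change. -/
noncomputable def bcIota : SR (R := R) (B ⊗[R] A) ⟶ (Over.map sA).obj (Red.bc sA (SR (R := R) B)) :=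
  Over.homMk (pullbackSpecIso R B A).inv (by
    show (pullbackSpecIso R B A).inv ≫ pullback.snd (Spec.map (CommRingCat.ofHom (algebraMap R B))) sA ≫ sA = _
    rw [← Category.assoc]
    erw [pullbackSpecIso_inv_snd]
    rw [← Spec.map_comp]
    congr 1
    ext r
    exact (Algebra.TensorProduct.includeRight : A →ₐ[R] B ⊗[R] A).commutes r)

instance : IsIso (bcIota A B (R := R)) := by
  haveI : IsIso ((Over.forget _).map (bcIota A B (R := R))) := by
    show IsIso (pullbackSpecIso R B A).inv
    infer_instance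
  exact isIso_of_reflects_iso _ (Over.forget _)

theorem bcIota_nat (a : B →ₐ[R] B') :
    bcIota A B' ≫ (Over.map sA).map ((Over.pullback sA).map ((homEquiv (R := R)).symm a)) =
      (homEquiv (R := R)).symm (Algebra.TensorProduct.map a (AlgHom.id R A)) ≫ bcIota A B := by
  apply Over.OverMorphism.ext
  show (pullbackSpecIso R B' A).inv ≫ ((Over.pullback sA).map ((homEquiv (R := R)).symm a)).left =
    Spec.map (CommRingCat.ofHom (Algebra.TensorProduct.map a (AlgHom.id R A)).toRingHom) ≫ (pullbackSpecIso R B A).inv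
  apply pullback.hom_ext
  · rw [Category.assoc, Category.assoc]
    erw [pullback.lift_fst]
    erw [pullbackSpecIso_inv_fst_assoc]
    erw [pullbackSpecIso_inv_fst]
    rw [eq_spec_map, ← Spec.map_comp, ← Spec.map_comp]
    congr 1
  · rw [Category.assoc, Category.assoc]
    erw [pullback.lift_snd]
    erw [pullbackSpecIso_inv_snd]
    erw [pullbackSpecIso_inv_snd]
    rw [← Spec.map_comp]
    congr 1
    ext x
    show (1 : B') ⊗ₜ[R] x = Algebra.TensorProduct.map a (AlgHom.id R A) (1 ⊗ₜ x)
    simp

local notation "gen" => (MonoidAlgebra.single (Multiplicative.ofAdd (1 : ℤ)) (1 : R) : MonoidAlgebra R (Multiplicative ℤ))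

/-- The function of a character. -/
noncomputable def val (θ : Red.bc sA (SR (R := R) B) ⟶ Red.bc sA (Red.diag R ℤ)) : B ⊗[R] A :=
  homEquiv (bcIota A B ≫ (H21Diag.bcEquiv sA (Red.diag R ℤ) _).symm θ) gen

theorem val_map (a : B →ₐ[R] B') (θ : Red.bc sA (SR (R := R) B) ⟶ Red.bc sA (Red.diag R ℤ)) :
    val ((Over.pullback sA).map ((homEquiv (R := R)).symm a) ≫ θ) =
      Algebra.TensorProduct.map a (AlgHom.id R A) (val θ) := by
  unfold val
  rw [← AlgHom.comp_apply]
  congr 1
  apply (homEquiv (R := R)).symm.injective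
  rw [Equiv.symm_apply_apply, ← symm_comp, Equiv.symm_apply_apply, H21Diag.bcEquiv, H21Diag.bcEquiv,
    Adjunction.homEquiv_naturality_left_symm, ← Category.assoc, bcIota_nat, Category.assoc]

theorem val_mul (θ θ' : Red.bc sA (SR (R := R) B) ⟶ Red.bc sA (Red.diag R ℤ)) :
    val (θ * θ') = val θ * val θ' := by
  unfold val
  rw [H21Diag.bcEquiv_symm_mul, MonObj.comp_mul]
  generalize bcIota A B ≫ (H21Diag.bcEquiv sA (Red.diag R ℤ) _).symm θ = x
  generalize bcIota A B ≫ (H21Diag.bcEquiv sA (Red.diag R ℤ) _).symm θ' = y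
  obtain ⟨a, rfl⟩ := Spec.mapMulEquiv.surjective x
  obtain ⟨b, rfl⟩ := Spec.mapMulEquiv.surjective y
  have key : ∀ c, homEquiv (R := R) (Spec.mapMulEquiv c :
      SR (R := R) (B ⊗[R] A) ⟶ Red.diag R ℤ) = c.ofConv := fun c => by
    apply (homEquiv (R := R)).symm.injective
    rw [Equiv.symm_apply_apply]
    rfl
  rw [← map_mul, key, key, key, AlgHom.convMul_def]
  simp only [WithConv.ofConv_toConv, AlgHom.comp_apply, Bialgebra.comulAlgHom_apply]
  simp

theorem val_injective : Function.Injective (val (R := R) (A := A) (B := B)) := fun θ θ' h => by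
  unfold val at h
  refine (H21Diag.bcEquiv sA (Red.diag R ℤ) _).symm.injective ((cancel_epi (bcIota A B)).mp
    ((homEquiv (R := R)).injective (MonoidAlgebra.algHom_ext (fun m => ?_) (AlgHom.ext fun r => (AlgHom.commutes _ r).trans (AlgHom.commutes _ r).symm))))
  refine DFunLike.congr_fun (MonoidHom.ext_mint (f := ((homEquiv (R := R)) (bcIota A B ≫
      (H21Diag.bcEquiv sA (Red.diag R ℤ) _).symm θ)).toMonoidHom.comp (MonoidAlgebra.of R (Multiplicative ℤ)))
    (g := ((homEquiv (R := R)) (bcIota A B ≫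
      (H21Diag.bcEquiv sA (Red.diag R ℤ) _).symm θ')).toMonoidHom.comp (MonoidAlgebra.of R (Multiplicative ℤ))) ?_) m
  exact h

theorem exists_val {v : B ⊗[R] A} (hv : IsUnit v) :
    ∃ θ : Red.bc sA (SR (R := R) B) ⟶ Red.bc sA (Red.diag R ℤ), val θ = v := by
  obtain ⟨u, rfl⟩ := hv
  let a : MonoidAlgebra R (Multiplicative ℤ) →ₐ[R] B ⊗[R] A :=
    MonoidAlgebra.lift R (B ⊗[R] A) (Multiplicative ℤ) ((Units.coeHom _).comp (zpowersHom _ u))
  refine ⟨H21Diag.bcEquiv sA (Red.diag R ℤ) _ (inv (bcIota A B) ≫ (homEquiv (R := R)).symm a), ?_⟩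
  unfold val
  rw [Equiv.symm_apply_apply, IsIso.hom_inv_id_assoc, Equiv.apply_symm_apply]
  simp [a]

theorem isUnit_val (θ : Red.bc sA (SR (R := R) B) ⟶ Red.bc sA (Red.diag R ℤ)) : IsUnit (val θ) := by
  refine IsUnit.map _ (?_ : IsUnit gen)
  exact (Group.isUnit (Multiplicative.ofAdd (1 : ℤ))).map (MonoidAlgebra.of R (Multiplicative ℤ))

/-- A character is a homomorphism iff its function is group-like. -/
theorem isMonHom_iff (H : Type u) [CommRing H] [HopfAlgebra R H]
    (θ : Red.bc sA (SR (R := R) H) ⟶ Red.bc sA (Red.diag R ℤ)) :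
    μ[Red.bc sA (SR (R := R) H)] ≫ θ = (θ ⊗ₘ θ) ≫ μ[Red.bc sA (Red.diag R ℤ)] ↔
      Algebra.TensorProduct.map (Bialgebra.comulAlgHom R H) (AlgHom.id R A) (val θ) =
        Algebra.TensorProduct.map (Algebra.TensorProduct.includeLeft : H →ₐ[R] H ⊗[R] H) (AlgHom.id R A) (val θ) *
          Algebra.TensorProduct.map (Algebra.TensorProduct.includeRight : H →ₐ[R] H ⊗[R] H) (AlgHom.id R A) (val θ) := by
  let X := SR (R := R) H
  let F := Over.pullback sA
  let d : SR (R := R) (H ⊗[R] H) ⟶ X ⊗ X := CartesianMonoidalCategory.lift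
    ((homEquiv (R := R)).symm (Algebra.TensorProduct.includeLeft : H →ₐ[R] H ⊗[R] H) ≫ (Iso.refl X).hom)
    ((homEquiv (R := R)).symm (Algebra.TensorProduct.includeRight : H →ₐ[R] H ⊗[R] H) ≫ (Iso.refl X).hom)
  haveI : IsIso d := lift_isIso₂ (Iso.refl X) (Iso.refl X)
  let E : F.obj (SR (R := R) (H ⊗[R] H)) ⟶ F.obj X ⊗ F.obj X := F.map d ≫ inv (Functor.LaxMonoidal.μ F X X)
  have hd : d ≫ μ[X] = (homEquiv (R := R)).symm (Bialgebra.comulAlgHom R H) := by
    rw [← comulOf_refl, comulOf, Equiv.symm_apply_apply]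
    simp only [d, X, Iso.refl_hom, Iso.refl_inv, Category.comp_id]
  have h0 : E ≫ μ[Red.bc sA X] = F.map ((homEquiv (R := R)).symm (Bialgebra.comulAlgHom R H)) := by
    show (F.map d ≫ _) ≫ (Functor.LaxMonoidal.μ F X X ≫ F.map μ[X]) = _
    rw [Category.assoc, IsIso.inv_hom_id_assoc, ← Functor.map_comp, hd]
  have h1 : E ≫ fst _ _ = F.map ((homEquiv (R := R)).symm
      (Algebra.TensorProduct.includeLeft : H →ₐ[R] H ⊗[R] H)) := by
    show (F.map d ≫ _) ≫ _ = _
    rw [Category.assoc, show inv (Functor.LaxMonoidal.μ F X X) ≫ fst (F.obj X) (F.obj X) = F.map (fst X X) by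
      rw [IsIso.inv_comp_eq, Functor.Monoidal.μ_fst], ← Functor.map_comp, lift_fst, Iso.refl_hom, Category.comp_id]
  have h2 : E ≫ snd _ _ = F.map ((homEquiv (R := R)).symm
      (Algebra.TensorProduct.includeRight : H →ₐ[R] H ⊗[R] H)) := by
    show (F.map d ≫ _) ≫ _ = _
    rw [Category.assoc, show inv (Functor.LaxMonoidal.μ F X X) ≫ snd (F.obj X) (F.obj X) = F.map (snd X X) by
      rw [IsIso.inv_comp_eq, Functor.Monoidal.μ_snd], ← Functor.map_comp, lift_snd, Iso.refl_hom, Category.comp_id]
  haveI : IsIso E := by dsimp only [E]; infer_instance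
  rw [← cancel_epi E, show (θ ⊗ₘ θ) ≫ μ[Red.bc sA (Red.diag R ℤ)] = (fst _ _ ≫ θ) * (snd _ _ ≫ θ) by
    rw [Hom.mul_def]
    congr 1, MonObj.comp_mul, ← Category.assoc, ← Category.assoc,
    ← Category.assoc, h0, h1, h2]
  refine (val_injective.eq_iff).symm.trans ?_
  rw [val_mul, val_map, val_map, val_map]

theorem isMonHom_of_mul_hom {C : Type*} [Category C] [CartesianMonoidalCategory C] {G X : C} [GrpObj G] [GrpObj X]
    (w : G ⟶ X) (hmul : μ[G] ≫ w = (w ⊗ₘ w) ≫ μ[X]) : IsMonHom w := by
  refine ⟨?_, hmul⟩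
  have h2 : ((1 : 𝟙_ C ⟶ G) ≫ w) * ((1 : 𝟙_ C ⟶ G) ≫ w) = (1 : 𝟙_ C ⟶ G) ≫ w := by
    conv_rhs => rw [← _root_.one_mul (1 : 𝟙_ C ⟶ G), Hom.mul_def, Category.assoc, hmul, lift_map_assoc]
    rfl
  have h1 := mul_eq_left.mp h2
  simpa [Hom.one_def, toUnit_unit] using h1

section extend

variable [Nontrivial R] {N : ℕ} {mu : R}

theorem comul_pow_span (i : ℕ) :
    Bialgebra.comulAlgHom R (SekSuwa.A R mu) (SekSuwa.A.t ^ i) ∈ Submodule.span R
      {z | ∃ a b : ℕ, a ≤ i ∧ b ≤ i ∧ z = (SekSuwa.A.t ^ a : SekSuwa.A R mu) ⊗ₜ[R] (SekSuwa.A.t ^ b)} := by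
  induction i with
  | zero =>
    rw [pow_zero, map_one]
    exact Submodule.subset_span ⟨0, 0, le_rfl, le_rfl, by rw [pow_zero, Algebra.TensorProduct.one_def]⟩
  | succ i ih =>
    rw [pow_succ, map_mul]
    generalize Bialgebra.comulAlgHom R (SekSuwa.A R mu) (SekSuwa.A.t ^ i) = z at ih ⊢
    induction ih using Submodule.span_induction with
    | zero => rw [zero_mul]; exact zero_mem _
    | add x y _ _ hx hy => rw [add_mul]; exact add_mem hx hy
    | smul c x _ hx => rw [smul_mul_assoc]; exact Submodule.smul_mem _ _ hx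
    | mem z hz =>
      obtain ⟨a, b, ha, hb, rfl⟩ := hz
      rw [Bialgebra.comulAlgHom_apply, SekSuwa.A.comul_t, mul_add, mul_add, mul_smul_comm,
        Algebra.TensorProduct.tmul_mul_tmul, Algebra.TensorProduct.tmul_mul_tmul,
        Algebra.TensorProduct.tmul_mul_tmul, _root_.mul_one, _root_.mul_one, ← pow_succ, ← pow_succ]
      exact add_mem (add_mem (Submodule.subset_span ⟨a + 1, b, by omega, by omega, rfl⟩)
        (Submodule.subset_span ⟨a, b + 1, by omega, by omega, rfl⟩))
        (Submodule.smul_mem _ _ (Submodule.subset_span ⟨a + 1, b + 1, by omega, by omega, rfl⟩))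

theorem exists_extension (hN : 0 < N) (h : SekSuwa.DivCond mu N)
    (φ : Red.bc sA (SekSuwa.GK R mu N h) ⟶ Red.bc sA (Red.diag R ℤ)) [hφ : IsMonHom φ] :
    ∃ ψ : Red.bc sA (SekSuwa.G R mu) ⟶ Red.bc sA (Red.diag R ℤ),
      IsMonHom ψ ∧ (Over.pullback sA).map (SekSuwa.incl R mu N h) ≫ ψ = φ := by
  let H := SekSuwa.A R mu
  let K := SekSuwa.AK R mu N h
  let m : H →ₐ[R] K := (SekSuwa.AK.mkHom R mu N h : H →ₐ[R] K)
  obtain ⟨b, hb⟩ := exists_basis h hN
  let S : K →ₗ[R] H := b.constr R fun i => SekSuwa.A.t ^ (i : ℕ)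
  have hm : ∀ i : ℕ, m (SekSuwa.A.t ^ i) = SekSuwa.AK.t ^ i := fun i => by rw [map_pow]; rfl
  have hmS : ∀ x, m (S x) = x := by
    intro x
    refine LinearMap.congr_fun (f := m.toLinearMap ∘ₗ S) (g := LinearMap.id) (b.ext fun i => ?_) x
    simp only [LinearMap.comp_apply, AlgHom.toLinearMap_apply, LinearMap.id_apply, S, Module.Basis.constr_basis]
    rw [hm, hb]
    rfl
  have hSm : ∀ i < N, S (SekSuwa.AK.t ^ i) = (SekSuwa.A.t ^ i : H) := fun i hi => by
    have e := Module.Basis.constr_basis b R (fun i : Fin N => (SekSuwa.A.t ^ (i : ℕ) : H)) ⟨i, hi⟩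
    rwa [hb] at e
  let S2 : K ⊗[R] K →ₗ[R] H ⊗[R] H := TensorProduct.map S S
  have hcomul : ∀ x : K, Bialgebra.comulAlgHom R H (S x) = S2 (Bialgebra.comulAlgHom R K x) := by
    intro x
    refine LinearMap.congr_fun (f := (Bialgebra.comulAlgHom R H).toLinearMap ∘ₗ S)
      (g := S2 ∘ₗ (Bialgebra.comulAlgHom R K).toLinearMap) (b.ext fun i => ?_) x
    simp only [LinearMap.comp_apply, AlgHom.toLinearMap_apply]
    rw [show S (b i) = SekSuwa.A.t ^ (i : ℕ) from Module.Basis.constr_basis b R _ i, hb]
    have e : Bialgebra.comulAlgHom R K (SekSuwa.AK.t ^ (i : ℕ)) =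
        Algebra.TensorProduct.map m m (Bialgebra.comulAlgHom R H (SekSuwa.A.t ^ (i : ℕ))) := by
      simp only [map_pow, Bialgebra.comulAlgHom_apply, SekSuwa.A.comul_t, SekSuwa.AK.comul_t, map_add, map_smul,
        Algebra.TensorProduct.map_tmul, map_one]
      rfl
    rw [e]
    have hsp := comul_pow_span (R := R) (mu := mu) (i : ℕ)
    generalize Bialgebra.comulAlgHom R (SekSuwa.A R mu) (SekSuwa.A.t ^ (i : ℕ)) = z at hsp ⊢
    induction hsp using Submodule.span_induction with
    | zero => simp
    | add x y _ _ hx hy => simp only [map_add, ← hx, ← hy]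
    | smul c x _ hx => simp only [map_smul, ← hx]
    | mem z hz =>
      obtain ⟨a, c, ha, hc, rfl⟩ := hz
      simp only [Algebra.TensorProduct.map_tmul, hm, S2, TensorProduct.map_tmul,
        hSm a (by omega), hSm c (by omega)]
  let v := val φ
  let w := LinearMap.rTensor A S v
  have hw : Algebra.TensorProduct.map m (AlgHom.id R A) w = v := by
    show Algebra.TensorProduct.map m (AlgHom.id R A) (LinearMap.rTensor A S v) = v
    induction v using TensorProduct.induction_on with
    | zero => simp
    | add x y hx hy => simp only [map_add, hx, hy]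
    | tmul x y => simp [hmS]
  have hv := (isMonHom_iff K φ).mp hφ.mul_hom
  have hwmul : Algebra.TensorProduct.map (Bialgebra.comulAlgHom R H) (AlgHom.id R A) w =
      Algebra.TensorProduct.map (Algebra.TensorProduct.includeLeft : H →ₐ[R] H ⊗[R] H) (AlgHom.id R A) w *
        Algebra.TensorProduct.map (Algebra.TensorProduct.includeRight : H →ₐ[R] H ⊗[R] H) (AlgHom.id R A) w := by
    have e1 : ∀ z, Algebra.TensorProduct.map (Bialgebra.comulAlgHom R H) (AlgHom.id R A) (LinearMap.rTensor A S z) =
        LinearMap.rTensor A S2 (Algebra.TensorProduct.map (Bialgebra.comulAlgHom R K) (AlgHom.id R A) z) := by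
      intro z
      induction z using TensorProduct.induction_on with
      | zero => simp
      | add x y hx hy => simp only [map_add, hx, hy]
      | tmul x y => simp only [LinearMap.rTensor_tmul, Algebra.TensorProduct.map_tmul, hcomul, AlgHom.id_apply]
    have e2 : ∀ z z' : K ⊗[R] A, LinearMap.rTensor A S2
        (Algebra.TensorProduct.map (Algebra.TensorProduct.includeLeft : K →ₐ[R] K ⊗[R] K) (AlgHom.id R A) z *
          Algebra.TensorProduct.map (Algebra.TensorProduct.includeRight : K →ₐ[R] K ⊗[R] K) (AlgHom.id R A) z') =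
        Algebra.TensorProduct.map (Algebra.TensorProduct.includeLeft : H →ₐ[R] H ⊗[R] H) (AlgHom.id R A)
            (LinearMap.rTensor A S z) *
          Algebra.TensorProduct.map (Algebra.TensorProduct.includeRight : H →ₐ[R] H ⊗[R] H) (AlgHom.id R A)
            (LinearMap.rTensor A S z') := by
      intro z z'
      induction z using TensorProduct.induction_on with
      | zero => simp
      | add x y hx hy => simp only [map_add, add_mul, hx, hy]
      | tmul x a =>
        induction z' using TensorProduct.induction_on with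
        | zero => simp
        | add x y hx hy => simp only [map_add, mul_add, hx, hy]
        | tmul y c => simp [S2]
    show Algebra.TensorProduct.map _ _ (LinearMap.rTensor A S v) = _
    rw [e1, hv, e2]
  have hunit : IsUnit w := by
    let ε := Algebra.TensorProduct.map (Bialgebra.counitAlgHom R H) (AlgHom.id R A)
    let εK := Algebra.TensorProduct.map (Bialgebra.counitAlgHom R K) (AlgHom.id R A)
    have he1 : εK v = 1 := by
      have hu : IsUnit (εK v) := (isUnit_val φ).map εK
      let τ : (K ⊗[R] K) ⊗[R] A →ₐ[R] R ⊗[R] A := Algebra.TensorProduct.map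
        (Algebra.TensorProduct.productMap (Bialgebra.counitAlgHom R K) (Bialgebra.counitAlgHom R K)) (AlgHom.id R A)
      have e := congrArg τ hv
      have a1 : τ.comp (Algebra.TensorProduct.map (Bialgebra.comulAlgHom R K) (AlgHom.id R A)) = εK := by
        refine Algebra.TensorProduct.ext' fun x y => ?_
        have hx : Algebra.TensorProduct.productMap (Bialgebra.counitAlgHom R K) (Bialgebra.counitAlgHom R K)
            (Bialgebra.comulAlgHom R K x) = Bialgebra.counitAlgHom R K x := by
          have := congrArg (fun z => TensorProduct.lid R R (LinearMap.lTensor R (Coalgebra.counit (R := R) (A := K)) z))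
            (Coalgebra.rTensor_counit_comul (R := R) x)
          simp only [LinearMap.lTensor_tmul, TensorProduct.lid_tmul, one_smul] at this
          refine Eq.trans ?_ this
          simp only [Bialgebra.comulAlgHom_apply]
          induction Coalgebra.comul (R := R) x using TensorProduct.induction_on with
          | zero => simp
          | add a b ha hb => simp only [map_add, ha, hb]
          | tmul a b => simp
        simp only [τ, εK, AlgHom.comp_apply, Algebra.TensorProduct.map_tmul, AlgHom.id_apply, hx]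
      have a2 : ∀ z, τ (Algebra.TensorProduct.map (Algebra.TensorProduct.includeLeft : K →ₐ[R] K ⊗[R] K)
          (AlgHom.id R A) z) = εK z := fun z => DFunLike.congr_fun (show τ.comp (Algebra.TensorProduct.map (Algebra.TensorProduct.includeLeft : K →ₐ[R] K ⊗[R] K)
          (AlgHom.id R A)) = εK from Algebra.TensorProduct.ext' fun x y => by simp [τ, εK]) z
      have a3 : ∀ z, τ (Algebra.TensorProduct.map (Algebra.TensorProduct.includeRight : K →ₐ[R] K ⊗[R] K)
          (AlgHom.id R A) z) = εK z := fun z => DFunLike.congr_fun (show τ.comp (Algebra.TensorProduct.map (Algebra.TensorProduct.includeRight : K →ₐ[R] K ⊗[R] K)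
          (AlgHom.id R A)) = εK from Algebra.TensorProduct.ext' fun x y => by simp [τ, εK]) z
      rw [map_mul, a2, a3, ← AlgHom.comp_apply, a1] at e
      exact hu.mul_eq_left.mp e.symm
    have he : ε w = 1 := by
      rw [← he1, ← hw, ← AlgHom.comp_apply εK]
      refine DFunLike.congr_fun (Algebra.TensorProduct.ext' fun x y => ?_) w
      simp only [AlgHom.comp_apply, ε, εK, Algebra.TensorProduct.map_tmul, AlgHom.id_apply,
        Bialgebra.counitAlgHom_apply]
      exact congrArg (· ⊗ₜ[R] y) (CoalgHomClass.counit_comp_apply (SekSuwa.AK.mkHom R mu N h) x).symm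
    let ω : (H ⊗[R] H) ⊗[R] A →ₐ[R] H ⊗[R] A := Algebra.TensorProduct.map
      (Algebra.TensorProduct.productMap (HopfAlgebra.antipodeAlgHom R H) (AlgHom.id R H)) (AlgHom.id R A)
    have e := congrArg ω hwmul
    have b1 : ω.comp (Algebra.TensorProduct.map (Bialgebra.comulAlgHom R H) (AlgHom.id R A)) =
        (Algebra.TensorProduct.map (Algebra.ofId R H) (AlgHom.id R A)).comp ε := by
      refine Algebra.TensorProduct.ext' fun x y => ?_
      have hx : Algebra.TensorProduct.productMap (HopfAlgebra.antipodeAlgHom R H) (AlgHom.id R H)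
          (Bialgebra.comulAlgHom R H x) = algebraMap R H (Coalgebra.counit x) := by
        rw [← HopfAlgebra.mul_antipode_rTensor_comul_apply x, Bialgebra.comulAlgHom_apply]
        induction Coalgebra.comul (R := R) x using TensorProduct.induction_on with
        | zero => simp
        | add a b ha hb => simp only [map_add, ha, hb]
        | tmul a b => simp
      simp only [ω, ε, AlgHom.comp_apply, Algebra.TensorProduct.map_tmul, AlgHom.id_apply, hx,
        Bialgebra.counitAlgHom_apply, Algebra.ofId_apply]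
    rw [map_mul, ← AlgHom.comp_apply, b1, AlgHom.comp_apply, he, map_one,
      show ω (Algebra.TensorProduct.map (Algebra.TensorProduct.includeRight : H →ₐ[R] H ⊗[R] H) (AlgHom.id R A) w) = w
        from DFunLike.congr_fun (show ω.comp (Algebra.TensorProduct.map (Algebra.TensorProduct.includeRight : H →ₐ[R] H ⊗[R] H)
            (AlgHom.id R A)) = AlgHom.id R _ from
          Algebra.TensorProduct.ext' fun x y => by simp [ω]) w] at e
    exact IsUnit.of_mul_eq_one_right _ e.symm
  obtain ⟨ψ, hψ⟩ := exists_val hunit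
  have hmul := (isMonHom_iff H ψ).mpr (by rw [hψ]; exact hwmul)
  refine ⟨ψ, isMonHom_of_mul_hom (G := Red.bc sA (SekSuwa.G R mu)) (X := Red.bc sA (Red.diag R ℤ)) ψ hmul, ?_⟩
  refine val_injective (B := K) ?_
  show val ((Over.pullback sA).map ((homEquiv (R := R)).symm m) ≫ ψ) = val φ
  rw [val_map, hψ, hw]

end extend

end Groth.Agent.H27SekSuwa
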