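/-
Points of the multiplicative group as units.
-/
import Groth.Agent.H27SekSuwa.GTorsor
import Groth.Agent.H27SekSuwa.HomGm

set_option autoImplicit false
set_option linter.style.haveILetI false
set_option backward.isDefEq.respectTransparency false
set_option backward.isDefEq.respectTransparency.types false

universe u

open CategoryTheory CategoryTheory.Limits AlgebraicGeometry CommRingCat
open MonoidalCategory CartesianMonoidalCategory MonObj TensorProduct

namespace Groth.Agent.H27SekSuwa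

variable {R : Type u} [CommRing R] {X : Scheme.{u}} {f : X ⟶ Spec (CommRingCat.of R)}

/-- the unit of a point of the multiplicative group -/
noncomputable def gvX {Y : Over X} (h : Y ⟶ Red.bc f (Red.diag R ℤ)) : Γ(Y.left, ⊤) :=
  pv (H := MonoidAlgebra R (Multiplicative ℤ)) ((H21Diag.bcEquiv f (Red.diag R ℤ) Y).symm h)
    (MonoidAlgebra.single (Multiplicative.ofAdd (1 : ℤ)) (1 : R))

theorem gvX_comp {Y' Y : Over X} (g : Y' ⟶ Y) (h : Y ⟶ Red.bc f (Red.diag R ℤ)) :
    gvX (g ≫ h) = g.left.appTop (gvX h) := by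
  rw [gvX, H21Diag.bcEquiv, Adjunction.homEquiv_naturality_left_symm, pv_comp]
  rfl

theorem gvX_mul {Y : Over X} (h h' : Y ⟶ Red.bc f (Red.diag R ℤ)) : gvX (h * h') = gvX h * gvX h' := by
  rw [gvX, H21Diag.bcEquiv_symm_mul]
  exact pv_mul (H := MonoidAlgebra R (Multiplicative ℤ)) _ _ (by simp)

theorem isUnit_gvX {Y : Over X} (h : Y ⟶ Red.bc f (Red.diag R ℤ)) : IsUnit (gvX h) :=
  ((Group.isUnit (Multiplicative.ofAdd (1 : ℤ))).map (MonoidAlgebra.of R (Multiplicative ℤ))).map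
    (pv (H := MonoidAlgebra R (Multiplicative ℤ)) ((H21Diag.bcEquiv f (Red.diag R ℤ) Y).symm h))

theorem gvX_injective {Y : Over X} : Function.Injective (gvX (Y := Y) (f := f)) := fun h h' e => by
  refine (H21Diag.bcEquiv f (Red.diag R ℤ) Y).symm.injective (pv_ext (H := MonoidAlgebra R (Multiplicative ℤ)) fun x => ?_)
  letI := algΓ ((Over.map f).obj Y)
  refine DFunLike.congr_fun
    (?_ : av (H := MonoidAlgebra R (Multiplicative ℤ)) ((H21Diag.bcEquiv f (Red.diag R ℤ) Y).symm h) =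
      av (H := MonoidAlgebra R (Multiplicative ℤ)) ((H21Diag.bcEquiv f (Red.diag R ℤ) Y).symm h')) x
  refine MonoidAlgebra.algHom_ext (fun m => ?_) (AlgHom.ext fun r => (AlgHom.commutes _ r).trans (AlgHom.commutes _ r).symm)
  refine DFunLike.congr_fun (MonoidHom.ext_mint
    (f := (av (H := MonoidAlgebra R (Multiplicative ℤ)) ((H21Diag.bcEquiv f (Red.diag R ℤ) Y).symm h)).toMonoidHom.comp
      (MonoidAlgebra.of R (Multiplicative ℤ)))
    (g := (av (H := MonoidAlgebra R (Multiplicative ℤ)) ((H21Diag.bcEquiv f (Red.diag R ℤ) Y).symm h')).toMonoidHom.comp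
      (MonoidAlgebra.of R (Multiplicative ℤ))) ?_) m
  exact e

theorem exists_gvX {Y : Over X} {v : Γ(Y.left, ⊤)} (hv : IsUnit v) :
    ∃ h : Y ⟶ Red.bc f (Red.diag R ℤ), gvX h = v := by
  obtain ⟨w, rfl⟩ := hv
  letI := algΓ ((Over.map f).obj Y)
  let al : MonoidAlgebra R (Multiplicative ℤ) →ₐ[R] Γ(((Over.map f).obj Y).left, ⊤) :=
    MonoidAlgebra.lift R _ (Multiplicative ℤ) ((Units.coeHom _).comp (zpowersHom _ w))
  refine ⟨H21Diag.bcEquiv f (Red.diag R ℤ) Y (toAff _ ≫ (homEquiv (R := R)).symm al), ?_⟩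
  rw [gvX, Equiv.symm_apply_apply, pv_toAff]
  show al (MonoidAlgebra.of R (Multiplicative ℤ) (Multiplicative.ofAdd 1)) = _
  refine (MonoidAlgebra.lift_of (R := R) (A := Γ(((Over.map f).obj Y).left, ⊤)) _ _).trans ?_
  simp

theorem gm_comm {Y : Over X} (h h' : Y ⟶ Red.bc f (Red.diag R ℤ)) : h * h' = h' * h :=
  gvX_injective (by rw [gvX_mul, gvX_mul, _root_.mul_comm])

variable (f) in
/-- the map to the multiplicative group given by `1 + λ t` -/
theorem exists_toGm (lam : R) :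
    ∃ χ : Red.bc f (SekSuwa.G R lam) ⟶ Red.bc f (Red.diag R ℤ), IsMonHom χ ∧
      ∀ (Y : Over X) (g : Y ⟶ Red.bc f (SekSuwa.G R lam)), gvX (g ≫ χ) = uvX g := by
  obtain ⟨χ, hχ⟩ := exists_gvX (f := f) (isUnit_uvX (f := f) (lam := lam) (𝟙 _))
  have key : ∀ (Y : Over X) (g : Y ⟶ Red.bc f (SekSuwa.G R lam)), gvX (g ≫ χ) = uvX g := fun Y g => by
    rw [gvX_comp, hχ, ← uvX_comp, Category.comp_id]
  refine ⟨χ, isMonHom_of_mul_hom χ ?_, key⟩
  apply gvX_injective
  have e : μ[Red.bc f (SekSuwa.G R lam)] = fst _ _ * snd _ _ := by rw [Hom.mul_def, lift_fst_snd, Category.id_comp]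
  rw [e, key, uvX_mul, ← key, ← key, ← gvX_mul]
  congr 1

end Groth.Agent.H27SekSuwa
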