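/-
`α^{λ,N}` is an isomorphism over every field in which `λ` does not vanish.
-/
import Groth.Agent.H27SekSuwa.SchemeOrder
import Groth.Prelude.Def_SekSuwa2
import Mathlib.RingTheory.Flat.Basic
import Mathlib.LinearAlgebra.FreeModule.Finite.Basic
import Mathlib.LinearAlgebra.Dimension.Constructions

set_option autoImplicit false
set_option linter.style.haveILetI false
set_option backward.isDefEq.respectTransparency false
set_option backward.isDefEq.respectTransparency.types false

universe u

open CategoryTheory CategoryTheory.Limits AlgebraicGeometry CommRingCat TensorProduct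

namespace Groth.Agent.H27SekSuwa

variable {R : Type u} [CommRing R]

theorem finite_flat_SR (A : Type u) [CommRing A] [Algebra R A] [Module.Finite R A] [Module.Flat R A] :
    IsFinite (SR (R := R) A).hom ∧ Flat (SR (R := R) A).hom :=
  ⟨(IsFinite.SpecMap_iff _).mpr (RingHom.finite_algebraMap.mpr inferInstance),
    Flat.SpecMap_iff.mpr (RingHom.flat_algebraMap_iff.mpr inferInstance)⟩

/-- `α^{λ,N}` after tensoring with a field in which `λ` is nonzero. -/
theorem bijective_alphaN [Nontrivial R] {N : ℕ} (hN : 0 < N) {lam : R} (h : SekSuwa.DivCond lam N) (L : Type u)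
    [Field L] [Algebra R L] (hl : algebraMap R L lam ≠ 0) :
    Function.Bijective (Algebra.TensorProduct.map
      (SekSuwa.alphaNHom R lam N h : MonoidAlgebra R (Multiplicative (ZMod N)) →ₐ[R] SekSuwa.AK R lam N h)
      (AlgHom.id R L)) := by
  classical
  haveI : NeZero N := ⟨by omega⟩
  obtain ⟨b, hb⟩ := exists_basis h hN
  let A := MonoidAlgebra R (Multiplicative (ZMod N))
  let B := SekSuwa.AK R lam N h
  haveI : Module.Free R B := Module.Free.of_basis b
  haveI : Module.Finite R B := Module.Finite.of_basis b
  let m : L ⊗[R] A →ₐ[L] L ⊗[R] B :=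
    Algebra.TensorProduct.map (AlgHom.id L L) (SekSuwa.alphaNHom R lam N h : A →ₐ[R] B)
  have hu : (1 : L) ⊗ₜ[R] (1 + lam • (SekSuwa.AK.t : B)) ∈ m.range :=
    ⟨1 ⊗ₜ MonoidAlgebra.single (Multiplicative.ofAdd (1 : ZMod N)) 1, by
      show m (1 ⊗ₜ _) = _
      simp only [m, Algebra.TensorProduct.map_tmul, map_one]
      exact congrArg _ (SekSuwa.alphaNHom_single_one R lam N h)⟩
  have ht : (1 : L) ⊗ₜ[R] (SekSuwa.AK.t : B) ∈ m.range := by
    have e : (1 : L) ⊗ₜ[R] (SekSuwa.AK.t : B) =
        (algebraMap R L lam)⁻¹ • ((1 : L) ⊗ₜ[R] (1 + lam • (SekSuwa.AK.t : B)) - 1) := by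
      rw [TensorProduct.tmul_add, ← Algebra.TensorProduct.one_def, add_sub_cancel_left, TensorProduct.tmul_smul,
        ← algebraMap_smul L lam, inv_smul_smul₀ hl]
    rw [e]
    exact Subalgebra.smul_mem _ (sub_mem hu (one_mem _)) _
  have hs : Function.Surjective m := by
    rw [← AlgHom.range_eq_top, eq_top_iff]
    intro z _
    induction z using TensorProduct.induction_on with
    | zero => exact zero_mem _
    | add x y hx hy => exact add_mem (hx trivial) (hy trivial)
    | tmul l y =>
      rw [← b.sum_repr y, TensorProduct.tmul_sum]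
      refine sum_mem fun i _ => ?_
      rw [hb, TensorProduct.tmul_smul, show l = l • (1 : L) from (mul_one l).symm, ← TensorProduct.smul_tmul',
        ← one_pow (M := L) (i : ℕ), ← Algebra.TensorProduct.tmul_pow, ← algebraMap_smul L]
      exact Subalgebra.smul_mem _ (Subalgebra.smul_mem _ (pow_mem ht _) _) _
  haveI : Module.Free R A := inferInstance
  haveI : Module.Finite R A := Module.Finite.of_basis (MonoidAlgebra.basis _ R)
  have hA : Module.finrank R A = N := by
    rw [Module.finrank_eq_card_basis (MonoidAlgebra.basis (Multiplicative (ZMod N)) R), Fintype.card_multiplicative,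
      ZMod.card]
  have hB : Module.finrank R B = N := by rw [Module.finrank_eq_card_basis b, Fintype.card_fin]
  have hi : Function.Injective m := (LinearMap.injective_iff_surjective_of_finrank_eq_finrank
    (f := m.toLinearMap) (by rw [Module.finrank_baseChange, Module.finrank_baseChange, hA, hB])).mpr hs
  let c₁ := Algebra.TensorProduct.comm R A L
  let c₂ := Algebra.TensorProduct.comm R L B
  have e : ∀ z, Algebra.TensorProduct.map (SekSuwa.alphaNHom R lam N h : A →ₐ[R] B) (AlgHom.id R L) z =
      c₂ (m (c₁ z)) := by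
    intro z
    induction z using TensorProduct.induction_on with
    | zero => simp
    | add x y hx hy => simp [map_add, hx, hy]
    | tmul x y => simp [c₁, c₂, m]; rfl
  exact (funext e : _ = (c₂ ∘ m ∘ c₁)) ▸ c₂.bijective.comp (Function.Bijective.comp ⟨hi, hs⟩ c₁.bijective)

/-- Pullback along a field point of a map of affine objects. -/
theorem isIso_pullback_map {A B : Type u} [CommRing A] [CommRing B] [Algebra R A] [Algebra R B]
    (a : A →ₐ[R] B) (L : Type u) [CommRing L] [Algebra R L]
    (ha : Function.Bijective (Algebra.TensorProduct.map a (AlgHom.id R L))) :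
    IsIso ((Over.pullback (Spec.map (CommRingCat.ofHom (algebraMap R L)))).map ((homEquiv (R := R)).symm a)) := by
  let F := Over.pullback (Spec.map (CommRingCat.ofHom (algebraMap R L)))
  let φ : CommRingCat.of (A ⊗[R] L) ⟶ CommRingCat.of (B ⊗[R] L) :=
    CommRingCat.ofHom (Algebra.TensorProduct.map a (AlgHom.id R L)).toRingHom
  haveI : IsIso (Spec.map φ) := isIso_SpecMap_iff.mpr ha
  have e : (F.map ((homEquiv (R := R)).symm a)).left =
      (pullbackSpecIso R B L).hom ≫ Spec.map φ ≫ (pullbackSpecIso R A L).inv := by
    apply pullback.hom_ext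
    · refine (pullback.lift_fst _ _ _).trans ?_
      rw [Category.assoc, Category.assoc]
      erw [pullbackSpecIso_inv_fst]
      rw [← Spec.map_comp, eq_spec_map,
        show CommRingCat.ofHom (Algebra.TensorProduct.includeLeftRingHom : A →+* A ⊗[R] L) ≫ φ =
          CommRingCat.ofHom a.toRingHom ≫ CommRingCat.ofHom (Algebra.TensorProduct.includeLeftRingHom : B →+* B ⊗[R] L)
          from CommRingCat.hom_ext (RingHom.ext fun x => by simp [φ]), Spec.map_comp]
      erw [pullbackSpecIso_hom_fst_assoc]
      rfl
    · refine (pullback.lift_snd _ _ _).trans ?_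
      rw [Category.assoc, Category.assoc]
      erw [pullbackSpecIso_inv_snd]
      rw [← Spec.map_comp,
        show CommRingCat.ofHom ((Algebra.TensorProduct.includeRight : L →ₐ[R] A ⊗[R] L) : L →+* A ⊗[R] L) ≫ φ =
          CommRingCat.ofHom ((Algebra.TensorProduct.includeRight : L →ₐ[R] B ⊗[R] L) : L →+* B ⊗[R] L)
          from CommRingCat.hom_ext (RingHom.ext fun x => by simp [φ])]
      erw [pullbackSpecIso_hom_snd]
      rfl
  haveI : IsIso ((Over.forget _).map (F.map ((homEquiv (R := R)).symm a))) := by
    show IsIso (F.map ((homEquiv (R := R)).symm a)).left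
    rw [e]
    infer_instance
  exact isIso_of_reflects_iso _ (Over.forget _)

theorem isIso_alphaN_pullback [Nontrivial R] {N : ℕ} (hN : 0 < N) {lam : R} (h : SekSuwa.DivCond lam N) (L : Type u)
    [Field L] [Algebra R L] (hl : algebraMap R L lam ≠ 0) :
    IsIso ((Over.pullback (Spec.map (CommRingCat.ofHom (algebraMap R L)))).map (SekSuwa.alphaN R lam N h)) :=
  isIso_pullback_map _ L (bijective_alphaN hN h L hl)

end Groth.Agent.H27SekSuwa
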