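/-
Ext groups out of a finite locally free commutative group scheme are killed by its order.
-/
import Groth.Prelude.Def_CGrpSh
import Groth.Agent.H19Grp.CommOrder

set_option autoImplicit false
set_option linter.style.haveILetI false

universe u

open CategoryTheory AlgebraicGeometry MonObj MonoidalCategory CartesianMonoidalCategory

namespace Groth.Agent.H27SekSuwa

variable {S : Scheme.{u}} (K : Precoverage Scheme.{u}) [(QuotSh.J K S).Subcanonical]

theorem nsmul_id_pts_eq_zero (G : Over S) [GrpObj G] [IsCommMonObj G] (m : ℕ) (h : (𝟙 G : G ⟶ G) ^ m = 1) :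
    m • (𝟙 (CGrpSh.pts K G)) = 0 := by
  apply CategoryTheory.Sheaf.hom_ext
  refine NatTrans.ext (funext fun T => AddCommGrpCat.ext fun z => ULift.ext _ _ ?_)
  have e : ∀ k : ℕ, ((k • (𝟙 (CGrpSh.pts K G))).hom.app T) z = k • z := fun k => by
    induction k with
    | zero => rw [zero_smul, zero_smul]; rfl
    | succ k ih =>
      rw [succ_nsmul, succ_nsmul]
      exact congrArg₂ (· + ·) ih rfl
  rw [e]
  show Additive.ofMul (z.down.toMul ^ m) = Additive.ofMul 1
  congr 1
  calc z.down.toMul ^ m = (z.down.toMul ≫ 𝟙 G) ^ m := by rw [Category.comp_id]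
    _ = z.down.toMul ≫ ((𝟙 G : G ⟶ G) ^ m) := (MonObj.comp_pow _ _ _).symm
    _ = 1 := by rw [h, MonObj.comp_one]

theorem nsmul_ext_eq_zero (G H : Over S) [GrpObj G] [IsCommMonObj G] [GrpObj H] [IsCommMonObj H]
    [IsFinite G.hom] [Flat G.hom] [LocallyOfFinitePresentation G.hom] (m : ℕ) (hdeg : ∀ s : S, G.hom.finrank s = m)
    {n : ℕ} (x : CGrpSh.ExtS K G H n) : m • x = 0 := by
  have h0 := nsmul_id_pts_eq_zero K G m (Groth.Agent.H19Grp.CommOrder.id_pow_eq_one G m hdeg)
  have e : ∀ k : ℕ, k • x = (Abelian.Ext.mk₀ (k • 𝟙 (CGrpSh.pts K G))).comp x (zero_add n) := fun k => by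
    induction k with
    | zero => rw [zero_smul, zero_smul, Abelian.Ext.mk₀_zero, Abelian.Ext.zero_comp]
    | succ k ih => rw [succ_nsmul, succ_nsmul, Abelian.Ext.mk₀_add, Abelian.Ext.add_comp, ← ih, Abelian.Ext.mk₀_id_comp]
  rw [e, h0, Abelian.Ext.mk₀_zero, Abelian.Ext.zero_comp]

end Groth.Agent.H27SekSuwa
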