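/-
The torsor under `G_{λ,N}` of the fibre of `ψ` over a constant point.
-/
import Groth.Agent.H27SekSuwa.UnitVal
import Groth.Agent.H27SekSuwa.Points
import Groth.Agent.H18Torsor.Glue
import Groth.Agent.S14693
import Groth.Agent.S14694

set_option autoImplicit false
set_option linter.style.haveILetI false
set_option backward.isDefEq.respectTransparency false
set_option backward.isDefEq.respectTransparency.types false

universe u

open CategoryTheory CategoryTheory.Limits AlgebraicGeometry CommRingCat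
open MonoidalCategory CartesianMonoidalCategory MonObj

namespace Groth.Agent.H27SekSuwa

variable {R : Type u} [CommRing R] {lam : R} {N : ℕ}

theorem pv_specHom {B₁ B₂ : Type u} [CommRing B₁] [CommRing B₂] [Bialgebra R B₁] [Bialgebra R B₂]
    {Z : Over (Spec (CommRingCat.of R))} (y : Z ⟶ SR (R := R) B₂) (φ : B₁ →ₐc[R] B₂) (z : B₁) :
    pv (H := B₁) (y ≫ SekSuwa.specHom φ) z = pv (H := B₂) y (φ z) :=
  congrArg y.left.appTop
    (ConcreteCategory.congr_hom (Scheme.ΓSpecIso_inv_naturality (CommRingCat.ofHom (φ : B₁ →+* B₂))) z).symm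

theorem uv_psi (h : SekSuwa.DivCond lam N) {Z : Over (Spec (CommRingCat.of R))} (g : Z ⟶ SekSuwa.G R lam) :
    uv (g ≫ SekSuwa.psi R lam N h) = uv g ^ N := by
  rw [uv, SekSuwa.psi, pv_specHom (B₁ := SekSuwa.A R (lam ^ N)) (B₂ := SekSuwa.A R lam), uv, ← map_pow,
    ← SekSuwa.one_add_smul_kerGen h]
  congr 1
  rw [SekSuwa.A.u, map_add, map_one, map_smul, SekSuwa.psiHom_t]

theorem comp_incl_psi (h : SekSuwa.DivCond lam N) {W : Over (Spec (CommRingCat.of R))}
    (g : W ⟶ SekSuwa.GK R lam N h) : (g ≫ SekSuwa.incl R lam N h) ≫ SekSuwa.psi R lam N h = 1 := by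
  rw [Category.assoc, SekSuwa.incl_psi, MonObj.comp_one]

theorem mul_inv_eq_one_of_eq {M : Type*} [Group M] {x y : M} (h : x = y) : x * y⁻¹ = 1 := by
  rw [h, mul_inv_cancel]

theorem mul_inv_mul_cancel_right' {M : Type*} [Group M] (x y : M) : x * y⁻¹ * y = x := by group

/-- the fibre of `ψ` over `1 + λ^N b` -/
theorem exists_GK_torsor [IsDomain R] (hlam : lam ≠ 0) (hN : 0 < N) (h : SekSuwa.DivCond lam N) (b0 : R)
    (hb : IsUnit (1 + lam ^ N * b0)) :
    ∃ (Q : Over (Spec (CommRingCat.of R))) (aQ : AlgGrp.Action (SekSuwa.GK R lam N h) Q) (q : Q ⟶ SekSuwa.G R lam),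
      NonAbH1.IsTorsorFor Scheme.fppfPrecoverage aQ ∧
      (∀ (W : Over (Spec (CommRingCat.of R))) (gk : W ⟶ SekSuwa.GK R lam N h) (x : W ⟶ Q),
        H18Torsor.smul aQ gk x ≫ q = (gk ≫ SekSuwa.incl R lam N h) * (x ≫ q)) ∧
      (∀ (W : Over (Spec (CommRingCat.of R))) (x x' : W ⟶ Q), x ≫ q = x' ≫ q → x = x') ∧
      ∀ (W : Over (Spec (CommRingCat.of R))) [Flat W.hom] (g : W ⟶ SekSuwa.G R lam),
        uv g ^ N = cst W (1 + lam ^ N * b0) → ∃ x : W ⟶ Q, x ≫ q = g := by
  let I : Over (Spec (CommRingCat.of R)) := 𝟙_ _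
  have hcu : ∀ r, IsUnit r → IsUnit (cst I r) := fun r hr => hr.map _
  obtain ⟨w, hw⟩ := exists_uv (lam := lam ^ N) (Z := I) (cst I b0) (by
    rw [← map_one (cst I), ← map_mul, ← map_add]; exact hcu _ hb)
  have hwv : ∀ (W : Over (Spec (CommRingCat.of R))), uv (toUnit W ≫ w) = cst W (1 + lam ^ N * b0) := fun W => by
    rw [uv_comp, hw, ← map_one (cst I), ← map_mul, ← map_add]
    show (toUnit W).left.appTop (I.hom.appTop _) = _
    rw [← CommRingCat.comp_apply, ← Scheme.Hom.comp_appTop, Over.w]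
    rfl
  let psi := SekSuwa.psi R lam N h
  let Q : Over (Spec (CommRingCat.of R)) := pullback psi w
  let q : Q ⟶ SekSuwa.G R lam := pullback.fst psi w
  have hmono : ∀ (W : Over (Spec (CommRingCat.of R))) (x x' : W ⟶ Q), x ≫ q = x' ≫ q → x = x' :=
    fun W x x' e => pullback.hom_ext e (toUnit_unique _ _)
  have hcond : ∀ {W : Over (Spec (CommRingCat.of R))} (x : W ⟶ Q), (x ≫ q) ≫ psi = toUnit W ≫ w := fun x => by
    rw [Category.assoc, pullback.condition, ← Category.assoc, toUnit_unique (x ≫ pullback.snd psi w) (toUnit _)]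
  let K := SekSuwa.GK R lam N h
  let act : K ⊗ Q ⟶ Q := pullback.lift ((fst K Q ≫ SekSuwa.incl R lam N h) * (snd K Q ≫ q)) (toUnit _) (by
    rw [MonObj.mul_comp, comp_incl_psi, _root_.one_mul]
    exact hcond (snd K Q))
  have hsm : ∀ {W : Over (Spec (CommRingCat.of R))} (gk : W ⟶ K) (x : W ⟶ Q),
      (lift gk x ≫ act) ≫ q = (gk ≫ SekSuwa.incl R lam N h) * (x ≫ q) := fun gk x => by
    rw [Category.assoc, show act ≫ q = _ from pullback.lift_fst _ _ _, MonObj.comp_mul, lift_fst_assoc,
      lift_snd_assoc]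
  have hone : ∀ {W : Over (Spec (CommRingCat.of R))} (x : W ⟶ Q), lift 1 x ≫ act = x := fun x => hmono _ _ _ (by
    rw [hsm, MonObj.one_comp, _root_.one_mul])
  have hmul : ∀ {W : Over (Spec (CommRingCat.of R))} (g g' : W ⟶ K) (x : W ⟶ Q),
      lift (g * g') x ≫ act = lift g (lift g' x ≫ act) ≫ act := fun g g' x => hmono _ _ _ (by
    rw [hsm, hsm, hsm, MonObj.mul_comp, _root_.mul_assoc])
  let aQ : AlgGrp.Action K Q :=
    { act := act
      one_act := by
        have e1 : η[K] ▷ Q = lift 1 (snd (𝟙_ _) Q) := by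
          apply CartesianMonoidalCategory.hom_ext
          · simp [Hom.one_def, toUnit_unique (fst (𝟙_ (Over (Spec (CommRingCat.of R)))) Q) (toUnit _)]
          · simp
        rw [e1, hone]
        exact (CartesianMonoidalCategory.leftUnitor_hom Q).symm
      mul_act := by
        have e1 : μ[K] ▷ Q = lift (fst (K ⊗ K) Q ≫ fst K K * fst (K ⊗ K) Q ≫ snd K K) (snd (K ⊗ K) Q) := by
          apply CartesianMonoidalCategory.hom_ext
          · rw [whiskerRight_fst, lift_fst, ← MonObj.comp_mul]
            refine congrArg (fst (K ⊗ K) Q ≫ ·) ?_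
            rw [Hom.mul_def, lift_fst_snd, Category.id_comp]
          · simp
        have e2 : (α_ K K Q).hom ≫ (K ◁ act) =
            lift (fst (K ⊗ K) Q ≫ fst K K) (lift (fst (K ⊗ K) Q ≫ snd K K) (snd (K ⊗ K) Q) ≫ act) := by
          apply CartesianMonoidalCategory.hom_ext
          · simp
          · simp only [Category.assoc, whiskerLeft_snd, lift_snd]
            rw [← Category.assoc]
            refine congrArg (· ≫ act) ?_
            apply CartesianMonoidalCategory.hom_ext <;> simp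
        rw [e1, hmul, reassoc_of% e2] }
  have hker := Groth.Agent.S14693.result R lam N h
  haveI : Mono η[SekSuwa.G R (lam ^ N)] := ⟨fun g g' _ => toUnit_unique g g'⟩
  haveI : Mono (SekSuwa.incl R lam N h) := by
    refine ⟨fun g g' e => hker.hom_ext e (toUnit_unique _ _)⟩
  refine ⟨Q, aQ, q, ⟨?_, ?_⟩, fun W gk x => hsm gk x, hmono, fun W _ g hg => ?_⟩
  · refine isIso_of_yoneda_map_bijective _ fun W => ⟨fun w₁ w₂ hw => ?_, fun z => ?_⟩
    · replace hw : w₁ ≫ lift act (snd K Q) = w₂ ≫ lift act (snd K Q) := hw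
      have e2 : w₁ ≫ snd K Q = w₂ ≫ snd K Q := by simpa using congrArg (· ≫ snd Q Q) hw
      refine CartesianMonoidalCategory.hom_ext _ _ ((cancel_mono (SekSuwa.incl R lam N h)).mp ?_) e2
      have e1 : lift (w₁ ≫ fst K Q) (w₁ ≫ snd K Q) ≫ act = lift (w₂ ≫ fst K Q) (w₂ ≫ snd K Q) ≫ act := by
        rw [lift_comp_fst_snd, lift_comp_fst_snd]
        simpa using congrArg (· ≫ fst Q Q) hw
      have e3 := congrArg (· ≫ q) e1
      simp only [hsm, e2] at e3
      exact mul_right_cancel e3
    · let z₁ := z ≫ fst Q Q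
      let z₂ := z ≫ snd Q Q
      have hd : ((z₁ ≫ q) * (z₂ ≫ q)⁻¹) ≫ psi = toUnit W ≫ η[SekSuwa.G R (lam ^ N)] := by
        rw [MonObj.mul_comp, GrpObj.inv_comp]
        exact mul_inv_eq_one_of_eq ((hcond z₁).trans (hcond z₂).symm)
      let gk : W ⟶ K := hker.lift _ _ hd
      have hgk : gk ≫ SekSuwa.incl R lam N h = (z₁ ≫ q) * (z₂ ≫ q)⁻¹ := hker.lift_fst _ _ _
      refine ⟨lift gk z₂, CartesianMonoidalCategory.hom_ext _ _ ?_ ?_⟩
      · show (lift gk z₂ ≫ lift act (snd K Q)) ≫ fst Q Q = z₁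
        rw [Category.assoc, lift_fst]
        refine hmono _ _ _ ?_
        rw [hsm, hgk, mul_inv_mul_cancel_right']
      · show (lift gk z₂ ≫ lift act (snd K Q)) ≫ snd Q Q = z₂
        simp
  · obtain ⟨hm, hd⟩ := Groth.Agent.S14694.monic_psiPoly R lam N hN h
    let P : Polynomial R := SekSuwa.psiPoly lam N h - Polynomial.C b0
    have hdeg : (Polynomial.C b0).degree < (SekSuwa.psiPoly lam N h).degree := by
      refine lt_of_le_of_lt Polynomial.degree_C_le ?_
      rw [Polynomial.degree_eq_natDegree hm.ne_zero, hd]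
      exact_mod_cast hN
    have hPm : P.Monic := hm.sub_of_left hdeg
    have hPd : P.degree ≠ 0 := by
      rw [Polynomial.degree_sub_eq_left_of_degree_lt hdeg, Polynomial.degree_eq_natDegree hm.ne_zero, hd]
      exact_mod_cast hN.ne'
    let S' : Type u := AdjoinRoot P
    haveI := hPm.free_adjoinRoot
    haveI := hPm.finite_adjoinRoot
    haveI : Nontrivial S' := AdjoinRoot.nontrivial P hPd
    let YS : Over (Spec (CommRingCat.of R)) := SR (R := R) S'
    haveI hflat : Flat YS.hom := by
      show Flat (Spec.map (CommRingCat.ofHom (algebraMap R S')))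
      rw [HasRingHomProperty.Spec_iff (P := @Flat)]
      exact RingHom.flat_algebraMap_iff.mpr inferInstance
    haveI : Surjective YS.hom := by
      refine ⟨fun x => ?_⟩
      exact PrimeSpectrum.comap_surjective_of_faithfullyFlat (A := R) (B := S') x
    haveI : LocallyOfFinitePresentation YS.hom := by
      show LocallyOfFinitePresentation (Spec.map (CommRingCat.ofHom (algebraMap R S')))
      rw [HasRingHomProperty.Spec_iff (P := @LocallyOfFinitePresentation)]
      refine RingHom.finitePresentation_algebraMap.mpr ?_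
      haveI : Module.FinitePresentation R S' := Module.finitePresentation_of_projective R S'
      exact Algebra.FinitePresentation.of_finitePresentation R S'
    let tt : Γ(YS.left, ⊤) := (Scheme.ΓSpecIso (CommRingCat.of S')).inv (AdjoinRoot.root P)
    have hc : ∀ r : R, cst YS r = (Scheme.ΓSpecIso (CommRingCat.of S')).inv (algebraMap R S' r) := fun r => by
      show (Spec.map (CommRingCat.ofHom (algebraMap R S'))).appTop ((Scheme.ΓSpecIso (CommRingCat.of R)).inv r) = _
      exact (ConcreteCategory.congr_hom (Scheme.ΓSpecIso_inv_naturality (CommRingCat.ofHom (algebraMap R S'))) r).symm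
    have hroot : (1 + algebraMap R S' lam * AdjoinRoot.root P) ^ N = algebraMap R S' (1 + lam ^ N * b0) := by
      have e := SekSuwa.aeval_psiPoly h (AdjoinRoot.root P : S')
      have e2 : Polynomial.aeval (AdjoinRoot.root P : S') P = 0 := by
        rw [AdjoinRoot.aeval_eq]; exact AdjoinRoot.mk_self
      rw [map_sub, Polynomial.aeval_C, sub_eq_zero] at e2
      rw [e2] at e
      rw [map_add, map_one, map_mul]
      linear_combination -e
    have hpow : (1 + cst YS lam * tt) ^ N = cst YS (1 + lam ^ N * b0) := by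
      rw [hc, hc, ← hroot]
      simp [tt]
    obtain ⟨g, hg⟩ := exists_uv (lam := lam) (Z := YS) tt ((isUnit_pow_iff hN.ne').mp (hpow ▸ hb.map _))
    have hgc : g ≫ psi = toUnit YS ≫ w := by
      apply uv_injective (cst_regular (pow_ne_zero N hlam))
      rw [uv_psi, hwv, hg, hpow]
    let x : YS ⟶ Q := pullback.lift g (toUnit YS) hgc
    refine ⟨Presieve.singleton YS.hom, Scheme.Hom.singleton_mem_fppfPrecoverage _, ?_⟩
    rintro _ _ ⟨⟩
    exact ⟨x.left, Over.w x⟩
  · have hgc : g ≫ psi = toUnit W ≫ w := by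
      apply uv_injective (cst_regular (pow_ne_zero N hlam))
      rw [uv_psi, hwv, hg]
    exact ⟨pullback.lift g (toUnit W) hgc, pullback.lift_fst _ _ _⟩

end Groth.Agent.H27SekSuwa
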