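/-
Roots congruent to a given constant modulo a power of the uniformiser come from the base.
-/
import Groth.Prelude.Def_SekSuwa2
import Mathlib.RingTheory.DiscreteValuationRing.Basic

set_option autoImplicit false

universe u

namespace Groth.Agent.H27SekSuwa.RootDescent

variable {R : Type u} [CommRing R]

theorem pow_dvd_choose {lam : R} {N : ℕ} (h : SekSuwa.DivCond lam N) {j : ℕ} (hj : j < N) :
    lam ^ j ∣ ((N.choose j : ℕ) : R) := by
  have e := congrArg (fun q => Polynomial.coeff q (N - j)) (SekSuwa.psiPoly_spec h)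
  simp only [Polynomial.coeff_C_mul, Polynomial.coeff_sub, Polynomial.coeff_one] at e
  rw [if_neg (by omega), sub_zero, add_comm (1 : Polynomial R), add_pow, Polynomial.finset_sum_coeff,
    Finset.sum_eq_single (N - j)] at e
  · rw [mul_pow, ← Polynomial.C_pow, one_pow, mul_one, ← Polynomial.C_eq_natCast, mul_right_comm,
      ← Polynomial.C_mul, Polynomial.coeff_C_mul_X_pow, if_pos rfl, Nat.choose_symm hj.le] at e
    refine ⟨(SekSuwa.psiPoly lam N h).coeff (N - j), SekSuwa.cancel_nzd (pow_mem h.nzd (N - j)) ?_⟩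
    rw [← mul_assoc, ← pow_add, show N - j + j = N by omega, e]
  · intro b _ hb
    rw [mul_pow, ← Polynomial.C_pow, one_pow, mul_one, ← Polynomial.C_eq_natCast, mul_right_comm,
      ← Polynomial.C_mul, Polynomial.coeff_C_mul_X_pow, if_neg (Ne.symm hb)]
  · intro hb
    exact absurd (Finset.mem_range.mpr (by omega)) hb

variable {B : Type u} [CommRing B] [Algebra R B] (pi : R) {m N : ℕ}

local notation "P" => algebraMap R B pi

/-- expansion of a power -/
theorem pow_expand (hdiv : ∀ j < N, (pi ^ m) ^ j ∣ ((N.choose j : ℕ) : R)) (hN : 0 < N) {i k : ℕ}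
    (hk : ∀ j, 0 < j → j < N → k ≤ i * (N - j) + m * j) (a y : B) :
    ∃ w, (a + P ^ i * y) ^ N = a ^ N + P ^ (i * N) * y ^ N + P ^ k * w := by
  obtain ⟨M, rfl⟩ : ∃ M, N = M + 1 := ⟨N - 1, by omega⟩
  rw [add_pow, Finset.sum_range_succ, Finset.sum_range_succ']
  have key : P ^ k ∣ ∑ j ∈ Finset.range M,
      a ^ (j + 1) * (P ^ i * y) ^ (M + 1 - (j + 1)) * ((M + 1).choose (j + 1) : B) := by
    refine Finset.dvd_sum fun j hj => ?_
    rw [Finset.mem_range] at hj
    obtain ⟨c, hc⟩ := hdiv (j + 1) (by omega)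
    refine Dvd.dvd.trans (pow_dvd_pow P (hk (j + 1) (by omega) (by omega))) ?_
    rw [← map_natCast (algebraMap R B), hc, map_mul, map_pow, map_pow, mul_pow, ← pow_mul, ← pow_mul, pow_add]
    exact ⟨a ^ (j + 1) * y ^ (M + 1 - (j + 1)) * algebraMap R B c, by ring⟩
  obtain ⟨w, hw⟩ := key
  refine ⟨w, ?_⟩
  rw [hw, Nat.choose_self, Nat.choose_zero_right, Nat.cast_one, Nat.sub_zero, Nat.sub_self, pow_zero, pow_zero,
    mul_pow, ← pow_mul]
  ring

/-- a step: the next digit -/
theorem step (hdiv : ∀ j < N, (pi ^ m) ^ j ∣ ((N.choose j : ℕ) : R)) (hN : 0 < N)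
    (hreg : ∀ y : B, P * y = 0 → y = 0) {i : ℕ} (hi : i < m) {a b y : B}
    (h : P ^ (m * N) ∣ (a + P ^ i * y) ^ N - b) :
    ∀ (c : B), b - a ^ N = P ^ (i * N) * c → P ∣ y ^ N - c := by
  intro c hc
  have hle : i * N + 1 ≤ m * N := by nlinarith
  obtain ⟨w, hw⟩ := pow_expand pi hdiv hN (i := i) (k := i * N + 1) (fun j h1 h2 => by
    obtain ⟨d, rfl⟩ : ∃ d, m = i + (d + 1) := ⟨m - i - 1, by omega⟩
    obtain ⟨e, rfl⟩ : ∃ e, N = j + e := ⟨N - j, by omega⟩
    rw [Nat.add_sub_cancel_left]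
    nlinarith) a y
  obtain ⟨v, hv⟩ := (pow_dvd_pow P hle).trans h
  have hregn : ∀ (n : ℕ) (z : B), P ^ n * z = 0 → z = 0 := by
    intro n
    induction n with
    | zero => intro z hz; simpa using hz
    | succ n ih =>
      intro z hz
      rw [pow_succ, mul_assoc] at hz
      exact hreg _ (ih _ hz)
  refine ⟨v - w, sub_eq_zero.mp (hregn (i * N) _ ?_)⟩
  rw [hw] at hv
  linear_combination hv + hc

/-- Roots congruent to a constant modulo `pi^(mN)` agree with its root modulo `pi^m`. -/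
theorem unique (hdiv : ∀ j < N, (pi ^ m) ^ j ∣ ((N.choose j : ℕ) : R)) (hN : 0 < N)
    (hreg : ∀ y : B, P * y = 0 → y = 0) (hroot : ∀ y : B, P ∣ y ^ N → P ∣ y) (x a : B)
    (h : P ^ (m * N) ∣ x ^ N - a ^ N) : P ^ m ∣ x - a := by
  have key : ∀ i ≤ m, P ^ i ∣ x - a := by
    intro i
    induction i with
    | zero => intro _; simp
    | succ i ih =>
      intro hi
      obtain ⟨y, hy⟩ := ih (by omega)
      have hx : x = a + P ^ i * y := by rw [← hy]; ring
      rw [hx] at h
      have h1 := step pi hdiv hN hreg (show i < m by omega) h 0 (by ring)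
      rw [sub_zero] at h1
      obtain ⟨y', hy'⟩ := hroot y h1
      exact ⟨y', by rw [hy, hy', pow_succ]; ring⟩
  exact key m le_rfl

/-- A root of a constant modulo `pi^(mN)` is a constant modulo `pi^m`. -/
theorem exists_const (hdiv : ∀ j < N, (pi ^ m) ^ j ∣ ((N.choose j : ℕ) : R)) (hN : 0 < N)
    (hreg : ∀ y : B, P * y = 0 → y = 0) (hroot : ∀ y : B, P ∣ y ^ N → P ∣ y)
    (hperf : ∀ c : R, ∃ d : R, pi ∣ c - d ^ N) (hcontr : ∀ (k : ℕ) (c : R), P ^ k ∣ algebraMap R B c → pi ^ k ∣ c)
    (x : B) (u : R) (h : P ^ (m * N) ∣ x ^ N - algebraMap R B u) :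
    ∃ r : R, P ^ m ∣ x - algebraMap R B r := by
  have key : ∀ i ≤ m, ∃ r : R, P ^ i ∣ x - algebraMap R B r := by
    intro i
    induction i with
    | zero => intro _; exact ⟨0, by simp⟩
    | succ i ih =>
      intro hi
      obtain ⟨r, y, hy⟩ := ih (by omega)
      have hx : x = algebraMap R B r + P ^ i * y := by rw [← hy]; ring
      rw [hx] at h
      obtain ⟨c, hc⟩ : pi ^ (i * N) ∣ u - r ^ N := by
        refine hcontr _ _ ?_
        obtain ⟨w, hw⟩ := pow_expand pi hdiv hN (i := i) (k := i * N) (fun j _ h2 => by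
          obtain ⟨d, rfl⟩ : ∃ d, m = i + d := ⟨m - i, by omega⟩
          obtain ⟨e, rfl⟩ : ∃ e, N = j + e := ⟨N - j, by omega⟩
          rw [Nat.add_sub_cancel_left]
          nlinarith) (algebraMap R B r) y
        obtain ⟨v, hv⟩ := (pow_dvd_pow P (show i * N ≤ m * N by nlinarith)).trans h
        refine ⟨y ^ N + w - v, ?_⟩
        rw [hw] at hv
        rw [map_sub, map_pow]
        linear_combination -hv
      obtain ⟨d, hd⟩ := hperf c
      have h1 := step pi hdiv hN hreg (show i < m by omega) h (algebraMap R B c) (by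
        rw [← map_pow, ← map_sub, hc, map_mul, map_pow])
      obtain ⟨w, hw⟩ := pow_expand pi hdiv hN (i := 0) (k := 1) (fun j h0 _ => by nlinarith)
        (algebraMap R B d) (y - algebraMap R B d)
      simp only [pow_zero, one_mul, zero_mul, add_sub_cancel, pow_one] at hw
      obtain ⟨y', hy'⟩ := hroot (y - algebraMap R B d) (by
        obtain ⟨v, hv⟩ := h1
        obtain ⟨e, he⟩ := hd
        refine ⟨v + algebraMap R B e - w, ?_⟩
        have he' := congrArg (algebraMap R B) he
        rw [map_sub, map_pow, map_mul] at he'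
        linear_combination hv + he' - hw)
      refine ⟨r + pi ^ i * d, y', ?_⟩
      rw [map_add, map_mul, map_pow, pow_succ]
      linear_combination hy + P ^ i * hy'
  exact key m le_rfl

end Groth.Agent.H27SekSuwa.RootDescent
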