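/-
Equivariant maps of torsors are isomorphisms; equivariant units on torsors over local bases.
-/
import Groth.Agent.H18Torsor.Glue
import Groth.Agent.H12Pic.InvDesc.Coboundary
import Groth.Prelude.Def_NonAbH2
import Mathlib.AlgebraicGeometry.Sites.Fpqc
import Mathlib.RingTheory.LocalRing.ResidueField.Basic

set_option autoImplicit false
set_option linter.style.haveILetI false
set_option backward.isDefEq.respectTransparency false
set_option backward.isDefEq.respectTransparency.types false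

universe u

open CategoryTheory CategoryTheory.Limits AlgebraicGeometry
open MonoidalCategory CartesianMonoidalCategory MonObj

namespace Groth.Agent.H27SekSuwa

variable {S : Scheme.{u}} {G P : Over S} [GrpObj G] (a : AlgGrp.Action G P)

/-- torsors surject onto the base -/
theorem surjective_of_isTorsorFor (hP : NonAbH1.IsTorsorFor Scheme.fppfPrecoverage a) : Surjective P.hom := by
  obtain ⟨-, Rc, hR, hsec⟩ := hP
  refine ⟨fun x => ?_⟩
  obtain ⟨V, hV, hxV, -⟩ := exists_isAffineOpen_mem_and_subset (U := (⊤ : S.Opens)) (x := x) trivial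
  haveI : IsAffine V.toScheme := hV
  obtain ⟨T, k, hk, hT⟩ := H18Torsor.exists_refinement (Scheme.fppfPrecoverage_le_fpqcPrecoverage _ hR) hV
  obtain ⟨s, hs⟩ := hT P.left P.hom hsec
  haveI : Surjective k := hk.1.1
  obtain ⟨t, ht⟩ := k.surjective (⟨x, hxV⟩ : V.toScheme)
  refine ⟨s t, ?_⟩
  rw [← Scheme.Hom.comp_apply, hs, Scheme.Hom.comp_apply, ht]
  rfl

/-- An equivariant map of torsors is an isomorphism. -/
theorem isIso_of_equivariant {Q : Over S} (b : AlgGrp.Action G Q) [Flat P.hom] [Surjective P.hom]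
    [QuasiCompact P.hom] (ha : NonAbH1.IsPseudoTorsorSch a) (hb : NonAbH1.IsPseudoTorsorSch b) (k : P ⟶ Q)
    (hk : a.act ≫ k = (G ◁ k) ≫ b.act) : IsIso k := by
  have hk' : ∀ {W : Over S} (g : W ⟶ G) (x : W ⟶ P),
      H18Torsor.smul a g x ≫ k = H18Torsor.smul b g (x ≫ k) := fun g x => by
    simp only [H18Torsor.smul, Category.assoc, hk, lift_whiskerLeft_assoc]
  have hinj : ∀ {W : Over S} (x x' : W ⟶ P), x ≫ k = x' ≫ k → x = x' := fun x x' h => by
    obtain ⟨g, hg, -⟩ := H18Torsor.existsUnique_smul a ha x' x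
    have h1 : H18Torsor.smul b g (x' ≫ k) = x' ≫ k := by rw [← hk', hg, h]
    rw [← hg, (H18Torsor.existsUnique_smul b hb (x' ≫ k) (x' ≫ k)).unique h1 (H18Torsor.one_smul_pt b _),
      H18Torsor.one_smul_pt]
  refine isIso_of_yoneda_map_bijective _ fun W => ⟨fun x x' h => hinj x x' h, fun y => ?_⟩
  obtain ⟨g, hg, -⟩ := H18Torsor.existsUnique_smul b hb (fst P W ≫ k) (snd P W ≫ y)
  let c : P ⊗ W ⟶ P := H18Torsor.smul a g (fst P W)
  have hck : c ≫ k = snd P W ≫ y := (hk' _ _).trans hg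
  haveI : EffectiveEpi (snd P W).left := by
    show EffectiveEpi (pullback.snd P.hom W.hom)
    infer_instance
  have hinv : ∀ {T : Scheme.{u}} (t₁ t₂ : T ⟶ (P ⊗ W).left), t₁ ≫ (snd P W).left = t₂ ≫ (snd P W).left →
      t₁ ≫ c.left = t₂ ≫ c.left := by
    intro T t₁ t₂ ht
    let To : Over S := Over.mk (t₁ ≫ (P ⊗ W).hom)
    let u₁ : To ⟶ P ⊗ W := Over.homMk t₁ rfl
    let u₂ : To ⟶ P ⊗ W := Over.homMk t₂ (by
      show t₂ ≫ (P ⊗ W).hom = t₁ ≫ (P ⊗ W).hom
      rw [← Over.w (snd P W), ← reassoc_of% ht])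
    refine congrArg CommaMorphism.left (hinj (u₁ ≫ c) (u₂ ≫ c) ?_)
    rw [Category.assoc, Category.assoc, hck]
    refine Over.OverMorphism.ext ?_
    show t₁ ≫ (snd P W).left ≫ y.left = t₂ ≫ (snd P W).left ≫ y.left
    rw [reassoc_of% ht]
  let xl := EffectiveEpi.desc (snd P W).left c.left hinv
  have hfac : (snd P W).left ≫ xl = c.left := EffectiveEpi.fac _ _ _
  let x : W ⟶ P := Over.homMk xl (by
    rw [← cancel_epi (snd P W).left, reassoc_of% hfac]
    exact (Over.w c).trans (Over.w (snd P W)).symm)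
  refine ⟨x, Over.OverMorphism.ext ?_⟩
  rw [← cancel_epi (snd P W).left]
  show (snd P W).left ≫ xl ≫ k.left = _
  rw [reassoc_of% hfac]
  exact congrArg CommaMorphism.left hck

/-- On an affine torsor over a local affine base a character has an equivariant unit. -/
theorem exists_equivariant_unit {R : Type u} [CommRing R] [IsLocalRing R]
    {G P : Over (Spec (CommRingCat.of R))} [GrpObj G] (a : AlgGrp.Action G P) [IsAffineHom P.hom] [Flat P.hom]
    [Surjective P.hom] (hps : NonAbH1.IsPseudoTorsorSch a)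
    (χ : ∀ (W : Over (Spec (CommRingCat.of R))), (W ⟶ G) → Γ(W.left, ⊤))
    (hmul : ∀ (W : Over (Spec (CommRingCat.of R))) (g g' : W ⟶ G), χ W (g * g') = χ W g * χ W g')
    (hnat : ∀ (W W' : Over (Spec (CommRingCat.of R))) (v : W' ⟶ W) (g : W ⟶ G), χ W' (v ≫ g) = v.left.appTop (χ W g))
    (hunit : ∀ (W : Over (Spec (CommRingCat.of R))) (g : W ⟶ G), IsUnit (χ W g)) :
    ∃ b : Γ(P.left, ⊤), IsUnit b ∧ ∀ (W : Over (Spec (CommRingCat.of R))) (g : W ⟶ G) (x : W ⟶ P),
      (H18Torsor.smul a g x).left.appTop b = χ W g * x.left.appTop b := by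
  haveI : IsAffine P.left := isAffine_of_isAffineHom P.hom
  obtain ⟨d, hd, -⟩ := H18Torsor.existsUnique_smul a hps (snd P P) (fst P P)
  let c : Γ(pullback P.hom P.hom, ⊤) := χ (P ⊗ P) d
  have hev : ∀ {W : Over (Spec (CommRingCat.of R))} (g : W ⟶ G) (x y : W ⟶ P), H18Torsor.smul a g y = x →
      (lift x y).left.appTop c = χ W g := by
    intro W g x y h
    have e : lift x y ≫ d = g := by
      refine (H18Torsor.existsUnique_smul a hps y x).unique ?_ h
      have := congrArg (lift x y ≫ ·) hd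
      simpa only [H18Torsor.comp_smul, lift_fst, lift_snd] using this
    rw [← e]
    exact (hnat _ _ _ _).symm
  have hlift : ∀ {W : Over (Spec (CommRingCat.of R))} (x y : W ⟶ P) (h : x.left ≫ P.hom = y.left ≫ P.hom),
      pullback.lift x.left y.left h = (lift x y).left := fun x y h =>
    pullback.hom_ext ((pullback.lift_fst _ _ _).trans (congrArg CommaMorphism.left (lift_fst x y)).symm)
      ((pullback.lift_snd _ _ _).trans (congrArg CommaMorphism.left (lift_snd x y)).symm)
  have hcoc : Groth.Agent.H12Pic.InvDesc.IsCocycle P.hom c := by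
    intro T t₁ t₂ t₃ h₁₂ h₂₃
    let W : Over (Spec (CommRingCat.of R)) := Over.mk (t₁ ≫ P.hom)
    let x₁ : W ⟶ P := Over.homMk t₁ rfl
    let x₂ : W ⟶ P := Over.homMk t₂ h₁₂.symm
    let x₃ : W ⟶ P := Over.homMk t₃ (h₁₂.trans h₂₃).symm
    obtain ⟨g, hg, -⟩ := H18Torsor.existsUnique_smul a hps x₂ x₁
    obtain ⟨g', hg', -⟩ := H18Torsor.existsUnique_smul a hps x₃ x₂
    show (pullback.lift x₁.left x₂.left h₁₂).appTop c * (pullback.lift x₂.left x₃.left h₂₃).appTop c =
      (pullback.lift x₁.left x₃.left (h₁₂.trans h₂₃)).appTop c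
    rw [hlift, hlift, hlift]
    refine (congrArg₂ (fun p q : Γ(T, ⊤) => p * q) (hev g _ _ hg) (hev g' _ _ hg')).trans ?_
    exact (hmul W g g').symm.trans (hev (g * g') _ _ (by rw [H18Torsor.mul_smul_pt, hg', hg])).symm
  obtain ⟨D, hD, b, hbD, hb⟩ := Groth.Agent.H12Pic.InvDesc.exists_coboundary_scheme P.hom c (hunit _ d) hcoc
    (IsLocalRing.closedPoint R)
  have hDt : D = ⊤ := TopologicalSpace.Opens.ext (by
    refine Set.eq_univ_of_forall fun z => ?_
    exact D.2.stableUnderGeneralization (IsLocalRing.specializes_closedPoint z) hD)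
  refine ⟨b, ?_, fun W g x => ?_⟩
  · exact P.left.toRingedSpace.isUnit_of_isUnit_germ ⊤ b fun z _ =>
      (P.left.mem_basicOpen b z trivial).mp (hbD (by rw [hDt]; trivial))
  · have h : (H18Torsor.smul a g x).left ≫ P.hom = x.left ≫ P.hom := (Over.w _).trans (Over.w _).symm
    refine (hb W.left _ _ h).trans ?_
    show (pullback.lift _ _ h).appTop c * _ = _
    rw [hlift]
    exact congrArg (fun p : Γ(W.left, ⊤) => p * x.left.appTop b) (hev g _ x rfl)

end Groth.Agent.H27SekSuwa
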