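/-
Torsors under `G^(λ)` have sections when units lift and torsors under the multiplicative group are trivial.
-/
import Groth.Agent.H27SekSuwa.Pushout
import Groth.Agent.H27SekSuwa.GmVal
import Groth.Agent.H12Pic.InvDesc.Functions
import Mathlib.AlgebraicGeometry.Morphisms.LocalFlatDescent
import Mathlib.RingTheory.Localization.Away.AdjoinRoot

set_option autoImplicit false
set_option linter.style.haveILetI false
set_option backward.isDefEq.respectTransparency false
set_option backward.isDefEq.respectTransparency.types false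
set_option synthInstance.maxHeartbeats 400000
set_option maxHeartbeats 600000

universe u

open CategoryTheory CategoryTheory.Limits AlgebraicGeometry CommRingCat
open MonoidalCategory CartesianMonoidalCategory MonObj TensorProduct

namespace Groth.Agent.H27SekSuwa

variable {R : Type u} [CommRing R]

section coord
open Polynomial
variable (lam : R)

/-- the coordinate ring is a principal localisation of the polynomial ring -/
theorem exists_awayEquiv :
    Nonempty (Localization.Away (1 + C lam * X : R[X]) ≃ₐ[R] SekSuwa.A R lam) := by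
  let e : R[X] →ₐ[R] SekSuwa.A R lam := Polynomial.aeval SekSuwa.A.t
  have he : e (1 + C lam * X) = SekSuwa.A.u := by simp [e, SekSuwa.A.u_def]
  have hu : ∀ y : Submonoid.powers (1 + C lam * X : R[X]), IsUnit (e y) := by
    rintro ⟨_, n, rfl⟩
    rw [map_pow, he]
    exact SekSuwa.A.isUnit_u.pow n
  let F : Localization.Away (1 + C lam * X : R[X]) →ₐ[R] SekSuwa.A R lam := IsLocalization.liftAlgHom hu
  let loc : R[X] →ₐ[R] Localization.Away (1 + C lam * X : R[X]) := IsScalarTower.toAlgHom R R[X] _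
  have h1 : (1 + lam • loc X) * IsLocalization.Away.invSelf (1 + C lam * X : R[X]) = 1 := by
    have := IsLocalization.Away.mul_invSelf (S := Localization.Away (1 + C lam * X : R[X])) (1 + C lam * X : R[X])
    refine Eq.trans ?_ this
    congr 1
    show 1 + lam • loc X = loc (1 + C lam * X)
    refine Eq.trans ?_ ((map_add loc 1 _).trans (congrArg (· + loc (C lam * X)) (map_one loc))).symm
    exact congrArg (1 + ·) ((map_smul loc lam X).symm.trans (congrArg loc (Polynomial.smul_eq_C_mul lam)))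
  let G := SekSuwa.A.lift R lam (loc X) _ h1
  have hFloc : ∀ x, F (loc x) = e x := fun x => IsLocalization.lift_eq _ x
  refine ⟨AlgEquiv.ofAlgHom F G ?_ ?_⟩
  · refine SekSuwa.A.algHom_ext ?_ ?_
    · rw [AlgHom.comp_apply, SekSuwa.A.lift_t, hFloc]
      simp [e]
    · rw [AlgHom.comp_apply, SekSuwa.A.lift_inv, AlgHom.id_apply]
      refine left_inv_eq_right_inv (a := (SekSuwa.A.u : SekSuwa.A R lam)) ?_ SekSuwa.A.u_mul_inv
      rw [← he, ← hFloc, ← map_mul]
      exact (congrArg F ((_root_.mul_comm _ _).trans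
        (IsLocalization.Away.mul_invSelf (1 + C lam * X : R[X])))).trans (map_one F)
  · refine IsLocalization.algHom_ext (Submonoid.powers (1 + C lam * X : R[X])) (Polynomial.algHom_ext ?_)
    show G (F (loc X)) = loc X
    rw [hFloc]
    simp [e, G]

theorem flat_A : Module.Flat R (SekSuwa.A R lam) := by
  obtain ⟨e⟩ := exists_awayEquiv lam
  haveI : Module.Flat R[X] (Localization.Away (1 + C lam * X : R[X])) :=
    IsLocalization.flat _ (Submonoid.powers (1 + C lam * X : R[X]))
  haveI : Module.Flat R (Localization.Away (1 + C lam * X : R[X])) := Module.Flat.trans R R[X] _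
  exact Module.Flat.of_linearEquiv e.symm.toLinearEquiv

theorem finitePresentation_A : Algebra.FinitePresentation R (SekSuwa.A R lam) := by
  obtain ⟨e⟩ := exists_awayEquiv lam
  haveI : Algebra.FinitePresentation R[X] (Localization.Away (1 + C lam * X : R[X])) :=
    IsLocalization.Away.finitePresentation (1 + C lam * X : R[X])
  haveI : Algebra.FinitePresentation R (Localization.Away (1 + C lam * X : R[X])) :=
    Algebra.FinitePresentation.trans R R[X] _
  exact Algebra.FinitePresentation.equiv e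

end coord

variable {X : Scheme.{u}} {f : X ⟶ Spec (CommRingCat.of R)}

theorem bcG_props (f : X ⟶ Spec (CommRingCat.of R)) (lam : R) :
    Flat (Red.bc f (SekSuwa.G R lam)).hom ∧ LocallyOfFinitePresentation (Red.bc f (SekSuwa.G R lam)).hom ∧
      IsAffineHom (Red.bc f (SekSuwa.G R lam)).hom := by
  have h1 : Flat (SekSuwa.G R lam).hom := by
    show Flat (Spec.map (CommRingCat.ofHom (algebraMap R (SekSuwa.A R lam))))
    rw [HasRingHomProperty.Spec_iff (P := @Flat)]
    exact RingHom.flat_algebraMap_iff.mpr (flat_A lam)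
  have h2 : LocallyOfFinitePresentation (SekSuwa.G R lam).hom := by
    show LocallyOfFinitePresentation (Spec.map (CommRingCat.ofHom (algebraMap R (SekSuwa.A R lam))))
    rw [HasRingHomProperty.Spec_iff (P := @LocallyOfFinitePresentation)]
    exact RingHom.finitePresentation_algebraMap.mpr (finitePresentation_A lam)
  have h3 : IsAffineHom (SekSuwa.G R lam).hom := by
    show IsAffineHom (Spec.map (CommRingCat.ofHom (algebraMap R (SekSuwa.A R lam))))
    infer_instance
  exact ⟨MorphismProperty.pullback_snd _ _ h1, MorphismProperty.pullback_snd _ _ h2,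
    MorphismProperty.pullback_snd _ _ h3⟩

theorem isAffineHom_bcGm (f : X ⟶ Spec (CommRingCat.of R)) : IsAffineHom (Red.bc f (Red.diag R ℤ)).hom := by
  refine MorphismProperty.pullback_snd _ _ ?_
  show IsAffineHom (Spec.map (CommRingCat.ofHom (algebraMap R (MonoidAlgebra R (Multiplicative ℤ)))))
  infer_instance

/-- regularity of constants on opens -/
theorem cst_regular_on [IsDomain R] {Z : Over (Spec (CommRingCat.of R))} [Flat Z.hom] {r : R} (hr : r ≠ 0)
    (W : Z.left.Opens) (a : Γ(Z.left, W))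
    (ha : Z.left.presheaf.map (homOfLE le_top).op (cst Z r) * a = 0) : a = 0 := by
  let Z' : Over (Spec (CommRingCat.of R)) := Over.mk (W.ι ≫ Z.hom)
  haveI : Flat Z'.hom := inferInstanceAs (Flat (W.ι ≫ Z.hom))
  have hbij := Groth.Agent.H12Pic.InvDesc.bijective_ι_appLE W (Groth.Agent.H12Pic.InvDesc.le_ι_preimage W)
  refine hbij.1 ((cst_regular (Z := Z') hr _ ?_).trans (map_zero _).symm)
  have e : W.ι.appLE W ⊤ (Groth.Agent.H12Pic.InvDesc.le_ι_preimage W)
      (Z.left.presheaf.map (homOfLE (le_top : W ≤ ⊤)).op (cst Z r)) = cst Z' r := by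
    show _ = (W.ι ≫ Z.hom).appTop ((Scheme.ΓSpecIso (CommRingCat.of R)).inv r)
    rw [← CommRingCat.comp_apply, Scheme.Hom.map_appLE, Scheme.Hom.comp_appTop, CommRingCat.comp_apply]
    simp [Scheme.Hom.appLE, cst]
    rfl
  rw [← e]
  exact (map_mul _ _ _).symm.trans ((congrArg _ ha).trans (map_zero _))

/-- a function vanishing on the points killed by `λ` is a multiple of `λ` -/
theorem exists_eq_cst_mul [IsDomain R] {Z : Over (Spec (CommRingCat.of R))} [Flat Z.hom] {lam : R} (hlam : lam ≠ 0)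
    (w : Γ(Z.left, ⊤))
    (h : ∀ (T : Scheme.{u}) (t : T ⟶ Z.left), t.appTop (cst Z lam) = 0 → t.appTop w = 0) :
    ∃ β, w = cst Z lam * β := by
  let res : ∀ U : Z.left.Opens, Γ(Z.left, ⊤) ⟶ Γ(Z.left, U) := fun U => Z.left.presheaf.map (homOfLE le_top).op
  have hloc : ∀ U : Z.left.affineOpens, ∃ β, res U.1 w = res U.1 (cst Z lam) * β := by
    intro U
    let π : Γ(Z.left, U.1) →+* Γ(Z.left, U.1) ⧸ Ideal.span {res U.1 (cst Z lam)} := Ideal.Quotient.mk _
    let S2 : CommRingCat.{u} := CommRingCat.of (Γ(Z.left, U.1) ⧸ Ideal.span {res U.1 (cst Z lam)})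
    have key : ∀ v : Γ(Z.left, ⊤), (Spec.map (CommRingCat.ofHom π) ≫ U.2.fromSpec).appTop v =
        (Scheme.ΓSpecIso S2).inv (π (res U.1 v)) := fun v => by
      rw [Scheme.Hom.comp_appTop, CommRingCat.comp_apply]
      have e1 : U.2.fromSpec.appTop v = (Scheme.ΓSpecIso Γ(Z.left, U.1)).inv (res U.1 v) := by
        rw [Scheme.Hom.appTop, IsAffineOpen.fromSpec_app_of_le _ _ le_top]
        simp only [CommRingCat.comp_apply]
        exact ConcreteCategory.congr_hom ((congrArg (Spec Γ(Z.left, U.1)).presheaf.map (Subsingleton.elim _ (𝟙 _))).trans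
          ((Spec Γ(Z.left, U.1)).presheaf.map_id _)) _
      refine (congrArg (Spec.map (CommRingCat.ofHom π)).appTop e1).trans ?_
      exact (ConcreteCategory.congr_hom (Scheme.ΓSpecIso_inv_naturality (CommRingCat.ofHom π)) _).symm
    have h0 := h (Spec S2) (Spec.map (CommRingCat.ofHom π) ≫ U.2.fromSpec) (by
      rw [key, show π (res U.1 (cst Z lam)) = 0 from Ideal.Quotient.eq_zero_iff_mem.mpr (Ideal.subset_span rfl),
        map_zero])
    rw [key] at h0
    have h1 : π (res U.1 w) = 0 :=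
      (ConcreteCategory.bijective_of_isIso (Scheme.ΓSpecIso S2).inv).1 (h0.trans (map_zero _).symm)
    obtain ⟨β, hβ⟩ := Ideal.mem_span_singleton'.mp (Ideal.Quotient.eq_zero_iff_mem.mp h1)
    exact ⟨β, hβ.symm.trans (_root_.mul_comm _ _)⟩
  choose β hβ using hloc
  have hres : ∀ {U V : Z.left.Opens} (i : U ⟶ V) (v : Γ(Z.left, ⊤)), Z.left.presheaf.map i.op (res V v) = res U v :=
    fun i v => by
      rw [← CommRingCat.comp_apply, ← Functor.map_comp]
      rfl
  obtain ⟨b, hb, -⟩ := Z.left.sheaf.existsUnique_gluing' (fun U : Z.left.affineOpens => U.1) ⊤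
    (fun U => homOfLE le_top) (iSup_affineOpens_eq_top Z.left).ge β (fun U V => by
      refine sub_eq_zero.mp (cst_regular_on hlam _ _ ?_)
      have e1 := congrArg (Z.left.presheaf.map (TopologicalSpace.Opens.infLELeft U.1 V.1).op) (hβ U)
      have e2 := congrArg (Z.left.presheaf.map (TopologicalSpace.Opens.infLERight U.1 V.1).op) (hβ V)
      rw [map_mul, hres, hres] at e1 e2
      refine (mul_sub _ _ _).trans (sub_eq_zero.mpr ?_)
      exact e1.symm.trans e2)
  let b₀ : Γ(Z.left, ⊤) := b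
  refine ⟨b₀, Z.left.sheaf.eq_of_locally_eq' (fun U : Z.left.affineOpens => U.1) ⊤
    (fun U => homOfLE le_top) (iSup_affineOpens_eq_top Z.left).ge _ _ fun U => ?_⟩
  show res U.1 w = res U.1 (cst Z lam * b₀)
  rw [map_mul, show res U.1 b₀ = β U from hb U, hβ U]

theorem inv_mul_smul_cancel {M : Type*} [Group M] (g d : M) : (g * d)⁻¹ * g = d⁻¹ := by group

theorem exists_section_of_units_surjective [IsDomain R] {lam : R} (hlam : lam ≠ 0) [Flat f]
    (hunit : Function.Surjective (Units.map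
      (pullback.fst f (Spec.map (CommRingCat.ofHom (Ideal.Quotient.mk (Ideal.span ({lam} : Set R)))))).appTop.hom.toMonoidHom))
    (hpic : ∀ (Q : Over X) (b : AlgGrp.Action (Red.bc f (Red.diag R ℤ)) Q),
      NonAbH1.IsTorsorFor Scheme.fppfPrecoverage b → NonAbH1.HasSectionOver Q (𝟙 X))
    (P : Over X) (a : AlgGrp.Action (Red.bc f (SekSuwa.G R lam)) P)
    (hP : NonAbH1.IsTorsorFor Scheme.fppfPrecoverage a) :
    NonAbH1.HasSectionOver P (𝟙 X) := by
  have hps := hP.1
  obtain ⟨hG1, hG2, hG3⟩ := bcG_props f lam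
  have hP' : NonAbH1.IsTorsorFor Scheme.fpqcPrecoverage a :=
    ⟨hps, let ⟨R', hR', hs'⟩ := hP.2; ⟨R', Scheme.fppfPrecoverage_le_fpqcPrecoverage _ hR', hs'⟩⟩
  haveI : Flat P.hom := H18Torsor.property_of_isTorsorFor a @Flat hP' hG1
  haveI : LocallyOfFinitePresentation P.hom :=
    H18Torsor.property_of_isTorsorFor a @LocallyOfFinitePresentation hP' hG2
  haveI : IsAffineHom P.hom := H18Torsor.property_of_isTorsorFor a @IsAffineHom hP' hG3
  haveI : Surjective P.hom := ⟨fun x => by
    obtain ⟨U, hxU, s, hs⟩ := exists_local_section hlam P a hP x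
    refine ⟨s ⟨x, hxU⟩, ?_⟩
    rw [← Scheme.Hom.comp_apply, hs]
    rfl⟩
  haveI := isAffineHom_bcGm f
  letI : HopfAlgebra (↑(CommRingCat.of R)) (↑(CommRingCat.of (MonoidAlgebra R (Multiplicative ℤ)))) :=
    inferInstanceAs (HopfAlgebra R (MonoidAlgebra R (Multiplicative ℤ)))
  obtain ⟨χ, hχ, hχv⟩ := exists_toGm f lam
  have hc : ∀ (W : Over X) (h h' : W ⟶ Red.bc f (Red.diag R ℤ)), h * h' = h' * h := fun W h h' => gm_comm h h'
  haveI := hχ
  obtain ⟨Q, bQ, hQ, hsec⟩ := Pushout.exists_pushout (H := Red.bc f (Red.diag R ℤ)) a χ hc hps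
  obtain ⟨s, hs⟩ := hpic Q bQ hQ
  obtain ⟨m, hm⟩ := hsec ⟨Over.homMk s hs, trivial⟩
  let b : Γ(P.left, ⊤) := gvX m
  have hb : ∀ {W : Over X} (g : W ⟶ Red.bc f (SekSuwa.G R lam)) (x : W ⟶ P),
      (H18Torsor.smul a g x).left.appTop b = uvX g * x.left.appTop b := fun g x => by
    have := congrArg gvX (hm _ g x)
    rwa [gvX_comp, gvX_mul, hχv, gvX_comp] at this
  -- the reduction of `b` comes from the base
  let iota := Spec.map (CommRingCat.ofHom (Ideal.Quotient.mk (Ideal.span ({lam} : Set R))))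
  let j := pullback.fst f iota
  let q := pullback.snd P.hom j
  have hkill : ∀ {T : Scheme.{u}} (t : T ⟶ Spec (CommRingCat.of (R ⧸ Ideal.span ({lam} : Set R)))),
      (t ≫ iota).appTop ((Scheme.ΓSpecIso (CommRingCat.of R)).inv lam) = 0 := fun t => by
    rw [Scheme.Hom.comp_appTop, CommRingCat.comp_apply]
    show t.appTop ((Spec.map (CommRingCat.ofHom (Ideal.Quotient.mk (Ideal.span ({lam} : Set R))))).appTop
      ((Scheme.ΓSpecIso (CommRingCat.of R)).inv lam)) = 0
    rw [← CommRingCat.comp_apply (Scheme.ΓSpecIso (CommRingCat.of R)).inv, ← Scheme.ΓSpecIso_inv_naturality,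
      CommRingCat.comp_apply]
    show t.appTop ((Scheme.ΓSpecIso _).inv (Ideal.Quotient.mk _ lam)) = 0
    rw [show Ideal.Quotient.mk (Ideal.span ({lam} : Set R)) lam = 0 from
      Ideal.Quotient.eq_zero_iff_mem.mpr (Ideal.subset_span rfl), map_zero, map_zero]
  let b' : Γ(pullback P.hom j, ⊤) := (pullback.fst P.hom j).appTop b
  obtain ⟨v, hv⟩ := Groth.Agent.H12Pic.InvDesc.exists_fun_desc q ⊤ b' (fun T k₁ k₂ h₁ h₂ hk => by
    let W : Over X := Over.mk (k₁ ≫ pullback.fst P.hom j ≫ P.hom)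
    let x₁ : W ⟶ P := Over.homMk (k₁ ≫ pullback.fst P.hom j) (Category.assoc _ _ _)
    let x₂ : W ⟶ P := Over.homMk (k₂ ≫ pullback.fst P.hom j) (by
      show (k₂ ≫ pullback.fst P.hom j) ≫ P.hom = k₁ ≫ pullback.fst P.hom j ≫ P.hom
      rw [Category.assoc, pullback.condition, ← reassoc_of% hk])
    obtain ⟨g, hg, -⟩ := H18Torsor.existsUnique_smul a hps x₂ x₁
    obtain ⟨β, hβ⟩ := uvX_eq g
    have h0 : (cstX f W lam : Γ(T, ⊤)) = 0 := by
      show ((k₁ ≫ pullback.fst P.hom j ≫ P.hom) ≫ f).appTop _ = 0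
      rw [pullback.condition (f := P.hom) (g := j), Category.assoc, Category.assoc,
        show j ≫ f = pullback.snd f iota ≫ iota from pullback.condition, ← Category.assoc q, ← Category.assoc k₁]
      exact hkill _
    have e := hb g x₂
    rw [hg, hβ] at e
    change (k₁ ≫ pullback.fst P.hom j).appTop b = _ * (k₂ ≫ pullback.fst P.hom j).appTop b at e
    let L : Γ(T, ⊤) := cstX f W lam
    let β₀ : Γ(T, ⊤) := β
    change (k₁ ≫ pullback.fst P.hom j).appTop b = (1 + L * β₀) * (k₂ ≫ pullback.fst P.hom j).appTop b at e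
    rw [show L = 0 from h0, zero_mul, add_zero, _root_.one_mul] at e
    have hk' : ∀ (k : T ⟶ pullback P.hom j) (h : (⊤ : T.Opens) ≤ k ⁻¹ᵁ q ⁻¹ᵁ ⊤),
        k.appLE (q ⁻¹ᵁ ⊤) ⊤ h b' = (k ≫ pullback.fst P.hom j).appTop b := fun k h => by
      show k.appLE ⊤ ⊤ le_top b' = _
      simp [Scheme.Hom.appLE, b']
    rw [hk', hk']
    exact e)
  have hvb : q.appTop v = b' := hv
  have hbu : IsUnit b := isUnit_gvX m
  have hvu : IsUnit v := isUnit_of_forall_mem_basicOpen v fun z => by
    obtain ⟨y, rfl⟩ := q.surjective z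
    show y ∈ q ⁻¹ᵁ (pullback f iota).basicOpen v
    rw [Scheme.preimage_basicOpen_top, hvb, Scheme.basicOpen_of_isUnit _ (hbu.map _)]
    trivial
  obtain ⟨av, hav⟩ := hunit hvu.unit
  let aX : Γ(X, ⊤) := (av : Γ(X, ⊤))
  have hav' : j.appTop aX = v := congrArg Units.val hav
  let ai : Γ(X, ⊤) := ((av⁻¹ : Γ(X, ⊤)ˣ) : Γ(X, ⊤))
  have hai : ai * aX = 1 := av.inv_mul
  let e : Γ(P.left, ⊤) := b * P.hom.appTop ai
  let ZP := (Over.map f).obj P
  haveI : Flat ZP.hom := inferInstanceAs (Flat (P.hom ≫ f))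
  let e' : Γ(ZP.left, ⊤) := e
  obtain ⟨β, hβ⟩ := exists_eq_cst_mul (Z := ZP) hlam (e' - 1) (fun T t ht => by
    have hfac : ∃ t₀ : T ⟶ Spec (CommRingCat.of (R ⧸ Ideal.span ({lam} : Set R))), t₀ ≫ iota = t ≫ ZP.hom := by
      let φ : R →+* Γ(T, ⊤) := ((Scheme.ΓSpecIso (CommRingCat.of R)).inv ≫ (t ≫ ZP.hom).appTop).hom
      have hφ : φ lam = 0 := by
        show (t ≫ ZP.hom).appTop ((Scheme.ΓSpecIso (CommRingCat.of R)).inv lam) = 0
        rw [Scheme.Hom.comp_appTop]
        exact ht
      refine ⟨T.toSpecΓ ≫ Spec.map (CommRingCat.ofHom (Ideal.Quotient.lift (Ideal.span ({lam} : Set R)) φ (fun r hr => by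
        obtain ⟨c, rfl⟩ := Ideal.mem_span_singleton'.mp hr
        rw [map_mul, hφ, mul_zero]))), ?_⟩
      rw [Category.assoc, ← Spec.map_comp]
      refine Eq.trans ?_ ((congrArg (· ≫ _) (Scheme.toSpecΓ_naturality (t ≫ ZP.hom)).symm).trans ?_)
        (b := (T.toSpecΓ ≫ Spec.map (t ≫ ZP.hom).appTop) ≫ Spec.map (Scheme.ΓSpecIso (CommRingCat.of R)).inv)
      · rw [Category.assoc, ← Spec.map_comp]
        rfl
      · rw [Category.assoc, ← SpecMap_ΓSpecIso_hom, ← Spec.map_comp, Iso.inv_hom_id, Spec.map_id, Category.comp_id]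
    obtain ⟨t₀, ht₀⟩ := hfac
    let tX : T ⟶ pullback f iota := pullback.lift (t ≫ P.hom) t₀ ((Category.assoc _ _ _).trans ht₀.symm)
    let tP : T ⟶ pullback P.hom j := pullback.lift t tX (pullback.lift_fst _ _ _).symm
    have e1 : t.appTop b = (t ≫ P.hom).appTop aX := by
      have := congrArg tP.appTop hvb
      simp only [b', ← hav', ← CommRingCat.comp_apply, ← Scheme.Hom.comp_appTop] at this
      rw [show tP ≫ pullback.fst P.hom j = t from pullback.lift_fst _ _ _,
        show tP ≫ q ≫ j = t ≫ P.hom by rw [← Category.assoc, show tP ≫ q = tX from pullback.lift_snd _ _ _,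
          show tX ≫ j = t ≫ P.hom from pullback.lift_fst _ _ _]] at this
      exact this.symm
    refine (map_sub t.appTop.hom e' 1).trans ?_
    show t.appTop (b * P.hom.appTop ai) - t.appTop (1 : Γ(P.left, ⊤)) = 0
    rw [map_mul, map_one, e1, Scheme.Hom.comp_appTop, CommRingCat.comp_apply]
    show t.appTop (P.hom.appTop aX) * t.appTop (P.hom.appTop ai) - 1 = 0
    rw [← map_mul t.appTop.hom, ← map_mul P.hom.appTop.hom,
      _root_.mul_comm, hai, map_one, map_one, sub_self])
  let β' : Γ(P.left, ⊤) := β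
  have hαβ : 1 + cstX f P lam * β' = e := by
    show 1 + cst ZP lam * β = e'
    rw [← hβ]
    exact add_sub_cancel _ _
  have heu : IsUnit e := hbu.mul ((IsUnit.of_mul_eq_one _ hai).map _)
  obtain ⟨δ, hδ⟩ := exists_uvX (f := f) (lam := lam) (Y := P) β' (hαβ ▸ heu)
  replace hδ : uvX δ = e := hδ.trans hαβ
  let t : P ⟶ P := H18Torsor.smul a δ⁻¹ (𝟙 P)
  have hd : fst P P ≫ t = snd P P ≫ t := by
    haveI : Flat ((P ⊗ P).hom ≫ f) := by
      show Flat ((pullback.fst P.hom P.hom ≫ P.hom) ≫ f)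
      infer_instance
    obtain ⟨g, hg, -⟩ := H18Torsor.existsUnique_smul a hps (snd P P) (fst P P)
    have hdel : fst P P ≫ δ = g * (snd P P ≫ δ) := by
      apply uvX_injective hlam
      rw [uvX_mul, uvX_comp, uvX_comp, hδ]
      have h1 := hb g (snd P P)
      rw [hg] at h1
      have hw : (fst P P).left ≫ P.hom = (snd P P).left ≫ P.hom := (Over.w _).trans (Over.w _).symm
      show (fst P P).left.appTop (b * P.hom.appTop ai) = _ * (snd P P).left.appTop (b * P.hom.appTop ai)
      rw [map_mul, map_mul, h1, ← CommRingCat.comp_apply, ← CommRingCat.comp_apply, ← Scheme.Hom.comp_appTop,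
        ← Scheme.Hom.comp_appTop, hw, _root_.mul_assoc]
    simp only [t, H18Torsor.comp_smul, GrpObj.comp_inv, Category.comp_id]
    rw [hdel, ← hg, ← H18Torsor.mul_smul_pt, inv_mul_smul_cancel]
  let σ : X ⟶ P.left := EffectiveEpi.desc P.hom t.left (fun {T} k₁ k₂ hk => by
    let W : Over X := Over.mk (k₁ ≫ P.hom)
    let x₁ : W ⟶ P := Over.homMk k₁ rfl
    let x₂ : W ⟶ P := Over.homMk k₂ hk.symm
    have h1 := congrArg (fun z => lift x₁ x₂ ≫ z) hd
    simp only [lift_fst_assoc, lift_snd_assoc] at h1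
    exact congrArg CommaMorphism.left h1)
  refine ⟨σ, ?_⟩
  rw [← cancel_epi P.hom, ← Category.assoc, show P.hom ≫ σ = t.left from EffectiveEpi.fac _ _ _, Over.w t,
    Category.comp_id]

end Groth.Agent.H27SekSuwa
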