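/-
Torsors under `G_{λ,N}` whose push to `μ_N` comes from the base come from the base.
-/
import Groth.Agent.H27SekSuwa.GTorsor
import Groth.Agent.H27SekSuwa.TorsorSection
import Groth.Agent.H27SekSuwa.RootDescent
import Groth.Agent.H27SekSuwa.TorsorIso
import Groth.Agent.H27SekSuwa.GKTorsor
import Groth.Agent.H27SekSuwa.AlphaGeneric
import Groth.Agent.H12Pic.InvDesc.Functions
import Groth.Prelude.Def_ActBC
import Mathlib.FieldTheory.Perfect

set_option autoImplicit false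
set_option linter.style.haveILetI false
set_option backward.isDefEq.respectTransparency false
set_option backward.isDefEq.respectTransparency.types false
set_option synthInstance.maxHeartbeats 400000

universe u

open CategoryTheory CategoryTheory.Limits AlgebraicGeometry CommRingCat
open MonoidalCategory CartesianMonoidalCategory MonObj

namespace Groth.Agent.H27SekSuwa

variable {R : Type u} [CommRing R] {lam : R} {N : ℕ}

section mu

/-- the root of unity of a point of `μ_N` -/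
noncomputable def rv {Z : Over (Spec (CommRingCat.of R))} (y : Z ⟶ Red.diag R (ZMod N)) : Γ(Z.left, ⊤) :=
  pv (H := MonoidAlgebra R (Multiplicative (ZMod N))) y (MonoidAlgebra.single (Multiplicative.ofAdd (1 : ZMod N)) (1 : R))

theorem rv_mul {Z : Over (Spec (CommRingCat.of R))} (y y' : Z ⟶ Red.diag R (ZMod N)) : rv (y * y') = rv y * rv y' :=
  pv_mul (H := MonoidAlgebra R (Multiplicative (ZMod N))) y y' (by simp)

theorem rv_comp {Z Z' : Over (Spec (CommRingCat.of R))} (v : Z' ⟶ Z) (y : Z ⟶ Red.diag R (ZMod N)) :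
    rv (v ≫ y) = v.left.appTop (rv y) := rfl

theorem rv_pow {Z : Over (Spec (CommRingCat.of R))} (y : Z ⟶ Red.diag R (ZMod N)) : rv y ^ N = 1 := by
  rw [rv, ← map_pow, MonoidAlgebra.single_pow, one_pow, ← ofAdd_nsmul, nsmul_eq_mul, _root_.mul_one, ZMod.natCast_self,
    ofAdd_zero, ← MonoidAlgebra.one_def, map_one]

theorem rv_alphaN (h : SekSuwa.DivCond lam N) {Z : Over (Spec (CommRingCat.of R))} (g : Z ⟶ SekSuwa.GK R lam N h) :
    rv (g ≫ SekSuwa.alphaN R lam N h) = uv (g ≫ SekSuwa.incl R lam N h) := by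
  rw [rv, SekSuwa.alphaN, pv_specHom (B₁ := MonoidAlgebra R (Multiplicative (ZMod N))) (B₂ := SekSuwa.AK R lam N h),
    SekSuwa.alphaNHom_single_one, uv, SekSuwa.incl,
    pv_specHom (B₁ := SekSuwa.A R lam) (B₂ := SekSuwa.AK R lam N h)]
  congr 1

end mu

/-- a function vanishing near every point vanishes -/
theorem eq_zero_of_local {T : Scheme.{u}} (s : Γ(T, ⊤))
    (h : ∀ x : T, ∃ U : T.Opens, x ∈ U ∧ U.ι.appTop s = 0) : s = 0 := by
  choose U hxU hU using h
  refine T.sheaf.eq_of_locally_eq' U ⊤ (fun x => homOfLE le_top) (fun x _ => ?_) s 0 fun x => ?_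
  · exact TopologicalSpace.Opens.mem_iSup.mpr ⟨x, hxU x⟩
  · refine (Groth.Agent.H12Pic.InvDesc.bijective_ι_appLE (U x) (Groth.Agent.H12Pic.InvDesc.le_ι_preimage _)).1 ?_
    simp only [map_zero]
    show (U x).ι.appLE (U x) ⊤ _ (T.presheaf.map (homOfLE (le_top : U x ≤ ⊤)).op s) = 0
    rw [← CommRingCat.comp_apply, Scheme.Hom.map_appLE]
    refine Eq.trans ?_ (hU x)
    simp [Scheme.Hom.appLE]
    rfl

/-- the value of a constant pulls back to the constant -/
theorem cst_comp {Z Z' : Over (Spec (CommRingCat.of R))} (v : Z' ⟶ Z) (r : R) :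
    v.left.appTop (cst Z r) = cst Z' r := by
  show v.left.appTop (Z.hom.appTop _) = Z'.hom.appTop _
  rw [← CommRingCat.comp_apply, ← Scheme.Hom.comp_appTop, Over.w]

/-- divisibility descends along faithfully flat maps -/
theorem dvd_of_dvd_map {A B : Type u} [CommRing A] [CommRing B] [Algebra A B] [Module.FaithfullyFlat A B] {a b : A}
    (h : algebraMap A B a ∣ algebraMap A B b) : a ∣ b := by
  rw [← Ideal.mem_span_singleton, ← Ideal.comap_map_eq_self_of_faithfullyFlat (B := B) (Ideal.span {a}),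
    Ideal.mem_comap, Ideal.map_span, Set.image_singleton, Ideal.mem_span_singleton]
  exact h

theorem faithfullyFlat_appTop {W V : Scheme.{u}} [IsAffine W] [IsAffine V] (g : W ⟶ V) [Flat g] [Surjective g] :
    letI := g.appTop.hom.toAlgebra; Module.FaithfullyFlat Γ(V, ⊤) Γ(W, ⊤) := by
  letI : Algebra Γ(V, ⊤) Γ(W, ⊤) := g.appTop.hom.toAlgebra
  have hg : Spec.map (CommRingCat.ofHom (algebraMap Γ(V, ⊤) Γ(W, ⊤))) = W.isoSpec.inv ≫ g ≫ V.isoSpec.hom := by
    rw [← Scheme.isoSpec_inv_naturality_assoc, Iso.inv_hom_id, Category.comp_id]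
    rfl
  rw [← RingHom.faithfullyFlat_algebraMap_iff]
  exact (flat_and_surjective_SpecMap_iff (CommRingCat.ofHom (algebraMap Γ(V, ⊤) Γ(W, ⊤)))).1
    ⟨hg ▸ inferInstance, hg ▸ inferInstance⟩

/-- constants on an open -/
noncomputable def cstV {X : Scheme.{u}} (f : X ⟶ Spec (CommRingCat.of R)) (V : X.Opens) :
    R →+* Γ(V.toScheme, ⊤) :=
  cst (Over.mk (V.ι ≫ f))

variable [IsDomain R] [IsDiscreteValuationRing R]

theorem exists_factor_residue {T : Scheme.{u}} (t : T ⟶ Spec (CommRingCat.of R)) {pi : R} (hpi : Irreducible pi)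
    (h : t.appTop ((Scheme.ΓSpecIso (CommRingCat.of R)).inv pi) = 0) :
    ∃ t₀, t₀ ≫ Spec.map (CommRingCat.ofHom (IsLocalRing.residue R)) = t := by
  let φ : R →+* Γ(T, ⊤) := ((Scheme.ΓSpecIso (CommRingCat.of R)).inv ≫ t.appTop).hom
  refine ⟨T.toSpecΓ ≫ Spec.map (CommRingCat.ofHom (Ideal.Quotient.lift (IsLocalRing.maximalIdeal R) φ (fun r hr => by
    rw [hpi.maximalIdeal_eq, Ideal.mem_span_singleton] at hr
    obtain ⟨c, rfl⟩ := hr
    rw [map_mul, show φ pi = 0 from h, zero_mul]))), ?_⟩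
  rw [Category.assoc, ← Spec.map_comp]
  refine Eq.trans ?_ ((congrArg (· ≫ _) (Scheme.toSpecΓ_naturality t).symm).trans ?_)
    (b := (T.toSpecΓ ≫ Spec.map t.appTop) ≫ Spec.map (Scheme.ΓSpecIso (CommRingCat.of R)).inv)
  · rw [Category.assoc, ← Spec.map_comp]
    rfl
  · rw [Category.assoc, ← SpecMap_ΓSpecIso_hom, ← Spec.map_comp, Iso.inv_hom_id, Spec.map_id, Category.comp_id]

/-- on opens with reduced special fibre, roots of multiples of the uniformiser are multiples -/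
theorem dvd_of_dvd_pow {X : Scheme.{u}} (f : X ⟶ Spec (CommRingCat.of R)) [Flat f]
    [IsReduced (pullback f (Spec.map (CommRingCat.ofHom (IsLocalRing.residue R))))] {pi : R} (hpi : Irreducible pi)
    (V : X.Opens) {n : ℕ} (y : Γ(V.toScheme, ⊤)) (hy : cstV f V pi ∣ y ^ n) :
    cstV f V pi ∣ y := by
  let Zv : Over (Spec (CommRingCat.of R)) := Over.mk (V.ι ≫ f)
  haveI : Flat Zv.hom := inferInstanceAs (Flat (V.ι ≫ f))
  obtain ⟨β, hβ⟩ := exists_eq_cst_mul (Z := Zv) hpi.ne_zero y (fun T t ht => by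
    obtain ⟨t₀, ht₀⟩ := exists_factor_residue (t ≫ V.ι ≫ f) hpi (by
      rw [Scheme.Hom.comp_appTop]; exact ht)
    let Xk := pullback f (Spec.map (CommRingCat.ofHom (IsLocalRing.residue R)))
    let tS : T ⟶ Xk := pullback.lift (t ≫ V.ι) t₀ ((Category.assoc _ _ _).trans ht₀.symm)
    let j : Xk ⟶ X := pullback.fst f _
    let hsq := isPullback_morphismRestrict j V
    let tV : T ⟶ (j ⁻¹ᵁ V).toScheme := hsq.lift t tS (pullback.lift_fst _ _ _).symm
    have htV : tV ≫ (j ∣_ V) = t := hsq.lift_fst _ _ _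
    have hz : (j ∣_ V).appTop y = 0 := by
      refine IsNilpotent.eq_zero ⟨n, ?_⟩
      obtain ⟨c, hc⟩ := hy
      rw [← map_pow, hc, map_mul]
      have h0 : (j ∣_ V).appTop (cstV f V pi) = 0 := by
        show (j ∣_ V).appTop ((V.ι ≫ f).appTop ((Scheme.ΓSpecIso (CommRingCat.of R)).inv pi)) = 0
        rw [← CommRingCat.comp_apply, ← Scheme.Hom.comp_appTop, morphismRestrict_ι_assoc,
          show j ≫ f = pullback.snd f _ ≫ Spec.map (CommRingCat.ofHom (IsLocalRing.residue R)) from pullback.condition,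
          ← Category.assoc, Scheme.Hom.comp_appTop, CommRingCat.comp_apply]
        rw [← CommRingCat.comp_apply (Scheme.ΓSpecIso (CommRingCat.of R)).inv, ← Scheme.ΓSpecIso_inv_naturality,
          CommRingCat.comp_apply]
        show _ = 0
        rw [show (CommRingCat.ofHom (IsLocalRing.residue R)) pi = 0 from
          (IsLocalRing.residue_eq_zero_iff pi).mpr hpi.not_isUnit, map_zero, map_zero]
      rw [h0, zero_mul]
    show t.appTop y = 0
    rw [← htV, Scheme.Hom.comp_appTop, CommRingCat.comp_apply]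
    exact (congrArg tV.appTop hz).trans (map_zero _))
  exact ⟨β, hβ⟩

theorem isUnit_of_dvd_cst {X : Scheme.{u}} (f : X ⟶ Spec (CommRingCat.of R)) {pi : R} (hpi : Irreducible pi)
    (V : X.Opens) {x : X} (hx : x ∈ V) (hfx : f x = IsLocalRing.closedPoint R) :
    ¬ IsUnit (cstV f V pi) := by
  intro hu
  let f' : V.toScheme ⟶ Spec (CommRingCat.of R) := V.ι ≫ f
  have h1 : (⟨x, hx⟩ : V.toScheme) ∈ V.toScheme.basicOpen
      (f'.appTop ((Scheme.ΓSpecIso (CommRingCat.of R)).inv pi)) := by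
    exact (V.toScheme.basicOpen_of_isUnit hu).ge trivial
  rw [← Scheme.preimage_basicOpen_top] at h1
  have h2 : f' (⟨x, hx⟩ : V.toScheme) = IsLocalRing.closedPoint R := (Scheme.Hom.comp_apply _ _ _).trans hfx
  have h3 : IsLocalRing.closedPoint R ∈ (Spec (CommRingCat.of R)).basicOpen
      ((Scheme.ΓSpecIso (CommRingCat.of R)).inv pi) := h2 ▸ h1
  rw [basicOpen_eq_of_affine] at h3
  exact h3 ((IsLocalRing.mem_maximalIdeal pi).mpr hpi.not_isUnit)

theorem exists_GK_torsor_of_push (p : ℕ) [Fact p.Prime] [CharP (IsLocalRing.ResidueField R) p]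
    [PerfectField (IsLocalRing.ResidueField R)] (n : ℕ) (lam : R) (h : SekSuwa.DivCond lam (p ^ n))
    {X : Scheme.{u}} (f : X ⟶ Spec (CommRingCat.of R)) [Flat f] [Surjective f]
    [IsReduced (pullback f (Spec.map (CommRingCat.ofHom (IsLocalRing.residue R))))]
    (P : Over X) (a : AlgGrp.Action (Red.bc f (SekSuwa.GK R lam (p ^ n) h)) P)
    (hP : NonAbH1.IsTorsorFor Scheme.fppfPrecoverage a)
    (P' : Over X) (a' : AlgGrp.Action (Red.bc f (Red.diag R (ZMod (p ^ n)))) P')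
    (hpush : NonAbH1.IsPushforwardAlongSch ((Over.pullback f).map (SekSuwa.alphaN R lam (p ^ n) h)) a a')
    (Q' : Over (Spec (CommRingCat.of R))) (b' : AlgGrp.Action (Red.diag R (ZMod (p ^ n))) Q')
    (hQ' : NonAbH1.IsTorsorFor Scheme.fppfPrecoverage b')
    (i' : P' ≅ Red.bc f Q')
    (hi' : a'.act ≫ i'.hom = (Red.bc f (Red.diag R (ZMod (p ^ n))) ◁ i'.hom) ≫
      Functor.LaxMonoidal.μ (Over.pullback f) (Red.diag R (ZMod (p ^ n))) Q' ≫ (Over.pullback f).map b'.act) :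
    ∃ (Q : Over (Spec (CommRingCat.of R))) (b : AlgGrp.Action (SekSuwa.GK R lam (p ^ n) h) Q)
      (i : P ≅ Red.bc f Q), NonAbH1.IsTorsorFor Scheme.fppfPrecoverage b ∧
      a.act ≫ i.hom = (Red.bc f (SekSuwa.GK R lam (p ^ n) h) ◁ i.hom) ≫
        Functor.LaxMonoidal.μ (Over.pullback f) (SekSuwa.GK R lam (p ^ n) h) Q ≫ (Over.pullback f).map b.act := by
  classical
  have hN : 0 < p ^ n := pow_pos (Fact.out : p.Prime).pos n
  haveI : NeZero (p ^ n) := ⟨hN.ne'⟩
  have hlam : lam ≠ 0 := nonZeroDivisors.ne_zero h.nzd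
  -- properties of the torsors
  obtain ⟨bK, -⟩ := exists_basis h hN
  haveI : Module.Finite R (SekSuwa.AK R lam (p ^ n) h) := Module.Finite.of_basis bK
  haveI : Module.Free R (SekSuwa.AK R lam (p ^ n) h) := Module.Free.of_basis bK
  haveI : Module.Finite R (MonoidAlgebra R (Multiplicative (ZMod (p ^ n)))) :=
    Module.Finite.of_basis (MonoidAlgebra.basis _ R)
  obtain ⟨i1, i2⟩ := finite_flat_SR (R := R) (SekSuwa.AK R lam (p ^ n) h)
  obtain ⟨i3, i4⟩ := finite_flat_SR (R := R) (MonoidAlgebra R (Multiplicative (ZMod (p ^ n))))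
  haveI i1' : IsFinite (Red.bc f (SekSuwa.GK R lam (p ^ n) h)).hom := MorphismProperty.pullback_snd _ _ i1
  haveI i2' : Flat (Red.bc f (SekSuwa.GK R lam (p ^ n) h)).hom := MorphismProperty.pullback_snd _ _ i2
  have hfp : ∀ {S' : Scheme.{u}} {G' P₀ : Over S'} [GrpObj G'] (a₀ : AlgGrp.Action G' P₀),
      NonAbH1.IsTorsorFor Scheme.fppfPrecoverage a₀ → IsFinite G'.hom → Flat G'.hom →
      IsAffineHom P₀.hom ∧ Flat P₀.hom ∧ Surjective P₀.hom := by
    intro S' G' P₀ _ a₀ h₀ hf hfl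
    have h₁ : NonAbH1.IsTorsorFor Scheme.fpqcPrecoverage a₀ :=
      ⟨h₀.1, let ⟨R', hR', hs'⟩ := h₀.2; ⟨R', Scheme.fppfPrecoverage_le_fpqcPrecoverage _ hR', hs'⟩⟩
    exact ⟨H18Torsor.property_of_isTorsorFor a₀ @IsAffineHom h₁ inferInstance,
      H18Torsor.property_of_isTorsorFor a₀ @Flat h₁ hfl, surjective_of_isTorsorFor a₀ h₀⟩
  obtain ⟨hPa, hPf, hPs⟩ := hfp a hP i1' i2'
  obtain ⟨hQa, hQf, hQs⟩ := hfp b' hQ' i3 i4
  haveI := hPa; haveI := hPf; haveI := hPs; haveI := hQa; haveI := hQf; haveI := hQs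
  -- the equivariant unit and the constant
  obtain ⟨z, hzu, hz⟩ := exists_equivariant_unit b' hQ'.1 (fun W g => rv (Z := W) g) (fun W g g' => rv_mul g g')
    (fun W W' v g => rv_comp v g) (fun W g => IsUnit.of_pow_eq_one (rv_pow g) hN.ne')
  obtain ⟨u', hu'⟩ := Groth.Agent.H12Pic.InvDesc.exists_fun_desc Q'.hom ⊤ (z ^ (p ^ n)) (fun T k₁ k₂ h₁ h₂ hk => by
    let W : Over (Spec (CommRingCat.of R)) := Over.mk (k₁ ≫ Q'.hom)
    let x₁ : W ⟶ Q' := Over.homMk k₁ rfl
    let x₂ : W ⟶ Q' := Over.homMk k₂ hk.symm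
    obtain ⟨g, hg, -⟩ := H18Torsor.existsUnique_smul b' hQ'.1 x₂ x₁
    have e := hz W g x₂
    rw [hg] at e
    have e' : k₁.appTop (z ^ (p ^ n)) = k₂.appTop (z ^ (p ^ n)) := by
      rw [map_pow, map_pow]
      refine (congrArg (fun q : Γ(T, ⊤) => q ^ (p ^ n)) e).trans ?_
      show (rv g * x₂.left.appTop z) ^ (p ^ n) = _
      rw [mul_pow, rv_pow]
      exact _root_.one_mul _
    have hk' : ∀ (k : T ⟶ Q'.left) (hh : (⊤ : T.Opens) ≤ k ⁻¹ᵁ Q'.hom ⁻¹ᵁ ⊤),
        k.appLE (Q'.hom ⁻¹ᵁ ⊤) ⊤ hh (z ^ (p ^ n)) = k.appTop (z ^ (p ^ n)) := fun k hh => by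
      show k.appLE ⊤ ⊤ le_top _ = _
      simp [Scheme.Hom.appLE]
    rw [hk', hk']
    exact e')
  let u : R := (Scheme.ΓSpecIso (CommRingCat.of R)).hom u'
  have hzN : z ^ (p ^ n) = cst Q' u := by
    show _ = Q'.hom.appTop ((Scheme.ΓSpecIso (CommRingCat.of R)).inv u)
    rw [show (Scheme.ΓSpecIso (CommRingCat.of R)).inv u = u' from
      ConcreteCategory.congr_hom (Scheme.ΓSpecIso (CommRingCat.of R)).hom_inv_id u']
    exact hu'.symm
  obtain ⟨x0, hx0⟩ := f.surjective (IsLocalRing.closedPoint R)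
  have hu : IsUnit u := by
    obtain ⟨q0, hq0⟩ := Q'.hom.surjective (IsLocalRing.closedPoint R)
    by_contra hnu
    have h1 : q0 ∈ Q'.left.basicOpen (Q'.hom.appTop ((Scheme.ΓSpecIso (CommRingCat.of R)).inv u)) := by
      exact (Q'.left.basicOpen_of_isUnit (show IsUnit (cst Q' u) from hzN ▸ hzu.pow _)).ge trivial
    rw [← Scheme.preimage_basicOpen_top] at h1
    have h3 : IsLocalRing.closedPoint R ∈ (Spec (CommRingCat.of R)).basicOpen
        ((Scheme.ΓSpecIso (CommRingCat.of R)).inv u) := hq0 ▸ h1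
    rw [basicOpen_eq_of_affine] at h3
    exact h3 ((IsLocalRing.mem_maximalIdeal u).mpr hnu)
  -- the function on `P`
  obtain ⟨j, hj⟩ := hpush
  let ZP := (Over.map f).obj P
  haveI : Flat ZP.hom := inferInstanceAs (Flat (P.hom ≫ f))
  let xP : ZP ⟶ Q' := (H21Diag.bcEquiv f Q' P).symm (j ≫ i'.hom)
  let zP : Γ(ZP.left, ⊤) := xP.left.appTop z
  have hzP : zP ^ (p ^ n) = cst ZP u := by rw [← map_pow, hzN, cst_comp]
  have hzPe : ∀ (W : Over X) (g : W ⟶ Red.bc f (SekSuwa.GK R lam (p ^ n) h)) (x : W ⟶ P),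
      ((Over.map f).map (H18Torsor.smul a g x)).left.appTop zP =
        uv ((H21Diag.bcEquiv f (SekSuwa.GK R lam (p ^ n) h) W).symm g ≫ SekSuwa.incl R lam (p ^ n) h) *
          ((Over.map f).map x).left.appTop zP := by
    intro W g x
    have hev : ∀ y : W ⟶ P, ((Over.map f).map y).left.appTop zP =
        ((H21Diag.bcEquiv f Q' W).symm (y ≫ j ≫ i'.hom)).left.appTop z := fun y => by
      rw [show (H21Diag.bcEquiv f Q' W).symm (y ≫ j ≫ i'.hom) = (Over.map f).map y ≫ xP from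
        (Over.mapPullbackAdj f).homEquiv_naturality_left_symm y _, Over.comp_left, Scheme.Hom.comp_appTop]
      rfl
    rw [hev, hev]
    have e1 : H18Torsor.smul a g x ≫ j ≫ i'.hom = H21Diag.bcEquiv f Q' W
        (lift ((H21Diag.bcEquiv f (SekSuwa.GK R lam (p ^ n) h) W).symm g ≫ SekSuwa.alphaN R lam (p ^ n) h)
          ((H21Diag.bcEquiv f Q' W).symm (x ≫ j ≫ i'.hom)) ≫ b'.act) := by
      refine Eq.trans ?_ (b'.lift_homEquiv_bc_act f _ _)
      simp only [H18Torsor.smul, Category.assoc]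
      rw [reassoc_of% hj, hi', AlgGrp.Action.bc_act]
      simp only [← Category.assoc]
      congr 2
      rw [comp_lift, lift_whiskerLeft]
      simp only [lift_fst_assoc, lift_snd_assoc, Category.assoc]
      congr 1
      · exact ((Equiv.apply_symm_apply _ _).symm.trans (congrArg _
          ((Over.mapPullbackAdj f).homEquiv_naturality_right_symm g (SekSuwa.alphaN R lam (p ^ n) h))))
      · exact (Equiv.apply_symm_apply _ _).symm
    rw [e1, Equiv.symm_apply_apply]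
    refine (hz _ _ _).trans ?_
    rw [rv_alphaN]
  -- congruent to a constant on each affine piece
  obtain ⟨pi, hpi⟩ := IsDiscreteValuationRing.exists_irreducible R
  obtain ⟨m, hm⟩ := IsDiscreteValuationRing.associated_pow_irreducible hlam hpi
  have hdiv : ∀ j < p ^ n, (pi ^ m) ^ j ∣ (((p ^ n).choose j : ℕ) : R) := fun j hj =>
    ((hm.symm.pow_pow).dvd).trans (RootDescent.pow_dvd_choose h hj)
  have hloc : ∀ V : X.Opens, IsAffineOpen V → ∃ (α : Γ(V.toScheme, ⊤)) (y : Γ((P.hom ⁻¹ᵁ V).toScheme, ⊤)),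
      (P.hom ⁻¹ᵁ V).ι.appTop zP = (P.hom ∣_ V).appTop α + (P.hom ∣_ V).appTop (cstV f V lam) * y ∧
        cstV f V (lam ^ (p ^ n)) ∣ α ^ (p ^ n) - cstV f V u := by
    intro V hV
    haveI : IsAffine V.toScheme := hV
    haveI : IsAffine (P.hom ⁻¹ᵁ V).toScheme := hV.preimage P.hom
    let g := P.hom ∣_ V
    haveI : Flat g := MorphismProperty.of_isPullback (isPullback_morphismRestrict P.hom V).flip inferInstance
    haveI : Surjective g := MorphismProperty.of_isPullback (isPullback_morphismRestrict P.hom V).flip inferInstance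
    let Zv : Over (Spec (CommRingCat.of R)) := Over.mk (V.ι ≫ f)
    let lA : Γ(V.toScheme, ⊤) := cstV f V lam
    obtain ⟨α, y, hαy⟩ := exists_const_mod g lA ((P.hom ⁻¹ᵁ V).ι.appTop zP) (fun T t₁ t₂ ht => by
      let W : Over X := Over.mk ((t₁ ≫ g) ≫ V.ι)
      let x₁ : W ⟶ P := Over.homMk (t₁ ≫ (P.hom ⁻¹ᵁ V).ι) (by
        show (t₁ ≫ _) ≫ P.hom = (t₁ ≫ g) ≫ V.ι
        simp only [g, Category.assoc, morphismRestrict_ι])
      let x₂ : W ⟶ P := Over.homMk (t₂ ≫ (P.hom ⁻¹ᵁ V).ι) (by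
        show (t₂ ≫ _) ≫ P.hom = (t₁ ≫ g) ≫ V.ι
        rw [ht]
        simp only [g, Category.assoc, morphismRestrict_ι])
      obtain ⟨γ₀, hγ, -⟩ := H18Torsor.existsUnique_smul a hP.1 x₂ x₁
      have e := hzPe W γ₀ x₂
      rw [hγ, uv_eq] at e
      let β : Γ(T, ⊤) := pv (H := SekSuwa.A R lam)
        ((H21Diag.bcEquiv f (SekSuwa.GK R lam (p ^ n) h) W).symm γ₀ ≫ SekSuwa.incl R lam (p ^ n) h) SekSuwa.A.t
      let L : Γ(T, ⊤) := cst ((Over.map f).obj W) lam
      let b1 : Γ(T, ⊤) := t₁.appTop ((P.hom ⁻¹ᵁ V).ι.appTop zP)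
      let b2 : Γ(T, ⊤) := t₂.appTop ((P.hom ⁻¹ᵁ V).ι.appTop zP)
      have e' : b1 = (1 + L * β) * b2 := e
      have hL : L = (t₁ ≫ g).appTop lA := by
        show (((t₁ ≫ g) ≫ V.ι) ≫ f).appTop _ = (t₁ ≫ g).appTop ((V.ι ≫ f).appTop _)
        rw [Category.assoc, Scheme.Hom.comp_appTop (t₁ ≫ g) (V.ι ≫ f)]
        rfl
      exact ⟨-(β * b2), by show b2 - b1 = _; rw [← hL, e']; ring⟩)
    refine ⟨α, y, hαy, ?_⟩
    letI := g.appTop.hom.toAlgebra
    haveI := faithfullyFlat_appTop g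
    refine dvd_of_dvd_map (B := Γ((P.hom ⁻¹ᵁ V).toScheme, ⊤)) ?_
    show g.appTop (cstV f V (lam ^ (p ^ n))) ∣ g.appTop (α ^ (p ^ n) - cstV f V u)
    letI algW : Algebra R Γ((P.hom ⁻¹ᵁ V).toScheme, ⊤) := (g.appTop.hom.comp (cstV f V)).toAlgebra
    obtain ⟨w, hw⟩ := RootDescent.pow_expand (B := Γ((P.hom ⁻¹ᵁ V).toScheme, ⊤)) lam (m := 1)
      (fun j hj => by rw [pow_one]; exact RootDescent.pow_dvd_choose h hj) hN (i := 1) (k := p ^ n)
      (fun j _ hj => by omega) (g.appTop α) y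
    have hu2 : ((P.hom ⁻¹ᵁ V).ι.appTop zP) ^ (p ^ n) = g.appTop (cstV f V u) := by
      rw [← map_pow, hzP]
      show (P.hom ⁻¹ᵁ V).ι.appTop ((P.hom ≫ f).appTop _) = g.appTop ((V.ι ≫ f).appTop _)
      rw [← CommRingCat.comp_apply, ← Scheme.Hom.comp_appTop, ← CommRingCat.comp_apply, ← Scheme.Hom.comp_appTop]
      simp only [g, morphismRestrict_ι_assoc]
    rw [hαy] at hu2
    simp only [pow_one, _root_.one_mul, RingHom.algebraMap_toAlgebra, RingHom.comp_apply] at hw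
    refine ⟨-(y ^ (p ^ n) + w), ?_⟩
    rw [map_pow (cstV f V), map_pow, map_sub, map_pow, ← hu2]
    linear_combination -hw
  -- the constant
  have hcst : ∀ (V : X.Opens), IsAffineOpen V → ∀ (y : Γ(V.toScheme, ⊤)),
      cstV f V pi * y = 0 → y = 0 := fun V _ y hy => by
    let Zv : Over (Spec (CommRingCat.of R)) := Over.mk (V.ι ≫ f)
    haveI : Flat Zv.hom := inferInstanceAs (Flat (V.ι ≫ f))
    exact cst_regular (Z := Zv) hpi.ne_zero y hy
  have hlamN : ∀ (V : X.Opens) (c : Γ(V.toScheme, ⊤)), cstV f V (lam ^ (p ^ n)) ∣ c →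
      (cstV f V pi) ^ (m * p ^ n) ∣ c := fun V c hc => by
    refine Dvd.dvd.trans ?_ hc
    rw [← map_pow, pow_mul]
    exact map_dvd _ (hm.symm.pow_pow).dvd
  haveI : PerfectRing (IsLocalRing.ResidueField R) p := PerfectField.toPerfectRing p
  have hperf : ∀ c : R, ∃ d : R, pi ∣ c - d ^ (p ^ n) := fun c => by
    obtain ⟨e, he⟩ := (bijective_iterateFrobenius (IsLocalRing.ResidueField R) p n).2 (IsLocalRing.residue R c)
    obtain ⟨d, rfl⟩ := IsLocalRing.residue_surjective e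
    refine ⟨d, ?_⟩
    rw [← Ideal.mem_span_singleton, ← hpi.maximalIdeal_eq, ← IsLocalRing.residue_eq_zero_iff, map_sub, map_pow,
      sub_eq_zero, ← he, iterateFrobenius_def]
  obtain ⟨V0, hV0, hxV0, -⟩ := exists_isAffineOpen_mem_and_subset (U := (⊤ : X.Opens)) (x := x0) trivial
  have hcontr : ∀ (k : ℕ) (c : R), (cstV f V0 pi) ^ k ∣ cstV f V0 c → pi ^ k ∣ c := by
    intro k
    induction k with
    | zero => intro c _; simp
    | succ k ih =>
      intro c hc
      by_cases hcu : IsUnit c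
      · exact absurd (isUnit_of_dvd_unit ((dvd_pow_self _ k.succ_ne_zero).trans hc) (hcu.map _))
          (isUnit_of_dvd_cst f hpi V0 hxV0 hx0)
      · obtain ⟨c', rfl⟩ : pi ∣ c := by
          rw [← Ideal.mem_span_singleton, ← hpi.maximalIdeal_eq]
          exact (IsLocalRing.mem_maximalIdeal c).mpr hcu
        obtain ⟨v, hv⟩ := hc
        refine (pow_succ' pi k) ▸ mul_dvd_mul_left pi (ih c' ⟨v, sub_eq_zero.mp (hcst V0 hV0 _ ?_)⟩)
        rw [map_mul, pow_succ'] at hv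
        linear_combination hv
  obtain ⟨α0, y0, -, hα0⟩ := hloc V0 hV0
  obtain ⟨r0, hr0⟩ : ∃ r, (cstV f V0 pi) ^ m ∣ α0 - cstV f V0 r :=
    letI : Algebra R Γ(V0.toScheme, ⊤) := (cstV f V0).toAlgebra
    RootDescent.exists_const (B := Γ(V0.toScheme, ⊤)) pi hdiv hN (hcst V0 hV0)
      (fun y hy => dvd_of_dvd_pow f hpi V0 y hy) hperf hcontr α0 u (hlamN V0 _ hα0)
  have hr0' : pi ^ (m * p ^ n) ∣ u - r0 ^ (p ^ n) := by
    refine hcontr _ _ ?_
    obtain ⟨c, hc⟩ := hr0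
    letI : Algebra R Γ(V0.toScheme, ⊤) := (cstV f V0).toAlgebra
    obtain ⟨w, hw⟩ := RootDescent.pow_expand (B := Γ(V0.toScheme, ⊤)) pi hdiv hN (i := m) (k := m * p ^ n)
      (fun j _ hj => by rw [← Nat.mul_add, Nat.sub_add_cancel hj.le]) (cstV f V0 r0) c
    simp only [RingHom.algebraMap_toAlgebra] at hw
    rw [show cstV f V0 r0 + cstV f V0 pi ^ m * c = α0 by rw [← hc, add_sub_cancel]] at hw
    obtain ⟨v, hv⟩ := hlamN V0 _ hα0
    rw [map_sub, map_pow]
    exact ⟨c ^ (p ^ n) + w - v, by linear_combination hw - hv⟩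
  obtain ⟨r, hru, hr⟩ : ∃ r : R, IsUnit r ∧ pi ^ (m * p ^ n) ∣ u - r ^ (p ^ n) := by
    rcases Nat.eq_zero_or_pos m with hm0 | hm0
    · exact ⟨1, isUnit_one, by rw [hm0, Nat.zero_mul, pow_zero]; exact one_dvd _⟩
    · refine ⟨r0, ?_, hr0'⟩
      by_contra hnu
      refine (IsLocalRing.notMem_maximalIdeal.mpr hu) ?_
      have e : u = (u - r0 ^ (p ^ n)) + r0 ^ (p ^ n) := (sub_add_cancel _ _).symm
      rw [e]
      refine Ideal.add_mem _ ?_ (Ideal.pow_mem_of_mem _ ((IsLocalRing.mem_maximalIdeal r0).mpr hnu) _ hN)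
      rw [hpi.maximalIdeal_eq, Ideal.mem_span_singleton]
      exact (dvd_pow_self pi (Nat.mul_pos hm0 hN).ne').trans hr0'
  obtain ⟨b0, hb0⟩ : lam ^ (p ^ n) ∣ u - r ^ (p ^ n) := by
    refine Dvd.dvd.trans ?_ hr
    rw [pow_mul]
    exact (hm.pow_pow).dvd
  obtain ⟨ri, hri⟩ := hru.exists_left_inv
  obtain ⟨β, hβ⟩ := exists_eq_cst_mul (Z := ZP) hlam (zP - cst ZP r) (fun T t ht => by
    refine eq_zero_of_local _ fun x => ?_
    obtain ⟨V, hV, hxV, -⟩ := exists_isAffineOpen_mem_and_subset (U := (⊤ : X.Opens)) (x := P.hom (t x)) trivial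
    obtain ⟨α, y, hαy, hα⟩ := hloc V hV
    refine ⟨t ⁻¹ᵁ (P.hom ⁻¹ᵁ V), hxV, ?_⟩
    let Zv : Over (Spec (CommRingCat.of R)) := Over.mk (V.ι ≫ f)
    obtain ⟨c, hc⟩ : cstV f V lam ∣ α - cstV f V r := by
      letI : Algebra R Γ(V.toScheme, ⊤) := (cstV f V).toAlgebra
      refine Dvd.dvd.trans ?_ (RootDescent.unique (B := Γ(V.toScheme, ⊤)) pi hdiv hN (hcst V hV)
        (fun y hy => dvd_of_dvd_pow f hpi V y hy) α (cstV f V r) ?_)
      · show cstV f V lam ∣ (cstV f V pi) ^ m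
        rw [← map_pow]
        exact map_dvd _ hm.dvd
      · show (cstV f V pi) ^ (m * p ^ n) ∣ _
        have e : α ^ (p ^ n) - cstV f V r ^ (p ^ n) = (α ^ (p ^ n) - cstV f V u) + cstV f V (u - r ^ (p ^ n)) := by
          rw [map_sub, map_pow]; ring
        rw [e]
        exact dvd_add (hlamN V _ hα) (by rw [← map_pow]; exact map_dvd _ hr)
    let W := P.hom ⁻¹ᵁ V
    have hcW : ∀ s : R, W.ι.appTop (cst ZP s) = (P.hom ∣_ V).appTop (cstV f V s) := fun s => by
      show W.ι.appTop ((P.hom ≫ f).appTop _) = (P.hom ∣_ V).appTop ((V.ι ≫ f).appTop _)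
      rw [← CommRingCat.comp_apply, ← Scheme.Hom.comp_appTop, ← CommRingCat.comp_apply, ← Scheme.Hom.comp_appTop]
      simp only [W, morphismRestrict_ι_assoc]
    have hW : W.ι.appTop (zP - cst ZP r) = W.ι.appTop (cst ZP lam) * ((P.hom ∣_ V).appTop c + y) := by
      rw [map_sub, hαy, hcW, hcW, mul_add, ← map_mul, ← hc, map_sub]
      ring
    have hres : ∀ s : Γ(ZP.left, ⊤), (t ⁻¹ᵁ W).ι.appTop (t.appTop s) = (t ∣_ W).appTop (W.ι.appTop s) := fun s => by
      rw [← CommRingCat.comp_apply, ← Scheme.Hom.comp_appTop, ← CommRingCat.comp_apply, ← Scheme.Hom.comp_appTop,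
        morphismRestrict_ι]
      rfl
    rw [hres, hW, map_mul, ← hres, ht, map_zero, zero_mul])
  -- the torsor over the base
  have hb : IsUnit (1 + lam ^ (p ^ n) * (ri ^ (p ^ n) * b0)) := by
    have e : 1 + lam ^ (p ^ n) * (ri ^ (p ^ n) * b0) = u * ri ^ (p ^ n) := by
      linear_combination (-(ri ^ (p ^ n))) * hb0 + (-1 : R) * (by rw [← mul_pow, hri, one_pow] : ri ^ (p ^ n) * r ^ (p ^ n) = 1)
    rw [e]
    exact hu.mul ((IsUnit.of_mul_eq_one _ hri).pow _)
  obtain ⟨Q, bQ, q, hQ, hq, hmono, huniv⟩ := exists_GK_torsor hlam hN h (ri ^ (p ^ n) * b0) hb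
  have hval : 1 + cst ZP lam * (cst ZP ri * β) = cst ZP ri * zP := by
    have e : cst ZP ri * cst ZP r = 1 := by rw [← map_mul, hri, map_one]
    linear_combination (-(cst ZP ri)) * hβ - e
  obtain ⟨gP, hgP⟩ := exists_uv (lam := lam) (Z := ZP) (cst ZP ri * β) (by
    rw [hval]; exact ((IsUnit.of_mul_eq_one _ hri).map _).mul (hzu.map _))
  rw [hval] at hgP
  obtain ⟨x, hx⟩ := huniv ZP gP (by
    rw [hgP, mul_pow, hzP, ← map_pow, ← map_mul]
    congr 1
    linear_combination ri ^ (p ^ n) * hb0 + (by rw [← mul_pow, hri, one_pow] : ri ^ (p ^ n) * r ^ (p ^ n) = 1))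
  let k : P ⟶ Red.bc f Q := H21Diag.bcEquiv f Q P x
  have hk : a.act ≫ k = (Red.bc f (SekSuwa.GK R lam (p ^ n) h) ◁ k) ≫ (bQ.bc f).act := by
    let GP := Red.bc f (SekSuwa.GK R lam (p ^ n) h) ⊗ P
    haveI : Flat GP.hom := by
      show Flat (pullback.fst (Red.bc f (SekSuwa.GK R lam (p ^ n) h)).hom P.hom ≫ _)
      infer_instance
    haveI : Flat ((Over.map f).obj GP).hom := inferInstanceAs (Flat (GP.hom ≫ f))
    have e2 : Red.bc f (SekSuwa.GK R lam (p ^ n) h) ◁ k = lift (fst _ P) (snd _ P ≫ k) := by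
      apply CartesianMonoidalCategory.hom_ext <;> simp
    let gs := (H21Diag.bcEquiv f (SekSuwa.GK R lam (p ^ n) h) GP).symm (fst _ P)
    let xs := (Over.map f).map (snd (Red.bc f (SekSuwa.GK R lam (p ^ n) h)) P) ≫ x
    have e3 : (Red.bc f (SekSuwa.GK R lam (p ^ n) h) ◁ k) ≫ (bQ.bc f).act =
        H21Diag.bcEquiv f Q GP (lift gs xs ≫ bQ.act) := by
      rw [e2]
      refine Eq.trans ?_ (bQ.lift_homEquiv_bc_act f gs xs)
      congr 2
      · exact (Equiv.apply_symm_apply _ _).symm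
      · exact ((Over.mapPullbackAdj f).homEquiv_naturality_left _ x).symm
    have e4 : a.act ≫ k = H21Diag.bcEquiv f Q GP ((Over.map f).map a.act ≫ x) :=
      ((Over.mapPullbackAdj f).homEquiv_naturality_left a.act x).symm
    rw [e3, e4]
    congr 1
    apply hmono
    apply uv_injective (cst_regular hlam)
    have e5 : (lift gs xs ≫ bQ.act) ≫ q = (gs ≫ SekSuwa.incl R lam (p ^ n) h) * (xs ≫ q) := hq _ gs xs
    have e7 : xs ≫ q = (Over.map f).map (snd (Red.bc f (SekSuwa.GK R lam (p ^ n) h)) P) ≫ gP := by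
      simp only [xs, Category.assoc, hx]
    rw [e5, uv_mul, e7, Category.assoc, hx, uv_comp ((Over.map f).map a.act) gP,
      uv_comp ((Over.map f).map (snd (Red.bc f (SekSuwa.GK R lam (p ^ n) h)) P)) gP, hgP, map_mul, map_mul, cst_comp,
      cst_comp]
    have e6 := hzPe GP (fst _ P) (snd _ P)
    rw [show H18Torsor.smul a (fst _ P) (snd _ P) = a.act by
      rw [H18Torsor.smul, lift_fst_snd, Category.id_comp]] at e6
    rw [e6]
    exact mul_left_comm _ _ _
  haveI : IsIso k := isIso_of_equivariant a (bQ.bc f) hP.1 (NonAbH1.isPseudoTorsorSch_bc f hQ.1) k hk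
  exact ⟨Q, bQ, asIso k, hQ, hk⟩

end Groth.Agent.H27SekSuwa
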